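/-
Schur's lemma and class sums, for complex representations (no dependence on the core character API).
* `finrank_pos_of_irr`, `eq_bot_or_top_of_invariant`
* `exists_scalar_of_commute`, `exists_scalar_of_mem_center`
* `sum_conj_eq`: the sum over `b` of `ρ (b * x * b⁻¹)` is the scalar `|G| χ(x) / d`
* `sum_char_conj_mul`: `∑ b, χ (b * x * b⁻¹ * y) = |G| χ x χ y / d`
* `sum_commutator_eq`: `∑ a b, ρ (a * b * a⁻¹ * b⁻¹) = (|G| / d)²`
* `sum_char_commutator_mul`: `∑ a b, χ (a * b * a⁻¹ * b⁻¹ * y) = |G|² χ y / d²`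
-/
import Cfsg.Agent.EqLemmas

set_option autoImplicit false

namespace Cfsg.Agent.CharApp

open Representation Module

variable {G : Type*} [Group G] {V : Type*} [AddCommGroup V] [Module ℂ V]
  (ρ : Representation ℂ G V)

theorem eq_bot_or_top_of_invariant [ρ.IsIrreducible] (W : Submodule ℂ V)
    (h : ∀ g : G, ∀ v ∈ W, ρ g v ∈ W) : W = ⊥ ∨ W = ⊤ := by
  let S : Subrepresentation ρ := ⟨W, h⟩
  rcases eq_bot_or_eq_top S with hS | hS
  · exact Or.inl (congrArg Subrepresentation.toSubmodule hS)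
  · exact Or.inr (congrArg Subrepresentation.toSubmodule hS)

theorem nontrivial_of_irr [ρ.IsIrreducible] : Nontrivial V := by
  by_contra h
  rw [not_nontrivial_iff_subsingleton] at h
  exact bot_ne_top (α := Subrepresentation ρ)
    (Subrepresentation.toSubmodule_injective (Subsingleton.elim _ _))

theorem isIrreducible_of_forall_invariant [Nontrivial V]
    (h : ∀ W : Submodule ℂ V, (∀ g : G, ∀ v ∈ W, ρ g v ∈ W) → W = ⊥ ∨ W = ⊤) :
    ρ.IsIrreducible := by
  haveI : Nontrivial (Subrepresentation ρ) :=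
    ⟨⊥, ⊤, fun e => bot_ne_top (α := Submodule ℂ V) (congrArg Subrepresentation.toSubmodule e)⟩
  refine ⟨fun S => ?_⟩
  rcases h S.toSubmodule S.apply_mem_toSubmodule with hS | hS
  · exact Or.inl (Subrepresentation.toSubmodule_injective hS)
  · exact Or.inr (Subrepresentation.toSubmodule_injective hS)

variable [FiniteDimensional ℂ V]

theorem finrank_pos_of_irr [ρ.IsIrreducible] : 0 < finrank ℂ V := by
  haveI := nontrivial_of_irr ρ
  exact finrank_pos

theorem finrank_cast_ne_zero [ρ.IsIrreducible] : (finrank ℂ V : ℂ) ≠ 0 :=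
  Nat.cast_ne_zero.mpr (finrank_pos_of_irr ρ).ne'

/-- Schur: an endomorphism commuting with an irreducible representation is a scalar. -/
theorem exists_scalar_of_commute [ρ.IsIrreducible] (f : Module.End ℂ V)
    (h : ∀ g : G, f * ρ g = ρ g * f) : ∃ c : ℂ, f = c • 1 := by
  haveI := nontrivial_of_irr ρ
  obtain ⟨c, hc⟩ := Module.End.exists_eigenvalue f
  refine ⟨c, ?_⟩
  rcases eq_bot_or_top_of_invariant ρ (f.eigenspace c) (fun g v hv => by
    rw [Module.End.mem_eigenspace_iff] at hv ⊢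
    rw [← Module.End.mul_apply, h, Module.End.mul_apply, hv, map_smul]) with hW | hW
  · exact absurd hW hc
  · refine LinearMap.ext fun v => ?_
    have hv : v ∈ f.eigenspace c := by rw [hW]; exact Submodule.mem_top
    rw [Module.End.mem_eigenspace_iff] at hv
    simpa using hv

theorem exists_scalar_of_mem_center [ρ.IsIrreducible] {z : G} (hz : z ∈ Subgroup.center G) :
    ∃ c : ℂ, ρ z = c • 1 :=
  exists_scalar_of_commute ρ _ fun g => by rw [← map_mul, ← map_mul, Subgroup.mem_center_iff.mp hz g]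

/-- The scalar of a scalar endomorphism is recovered from the trace. -/
theorem scalar_eq_trace_div [ρ.IsIrreducible] {f : Module.End ℂ V} {c : ℂ} (hf : f = c • 1) :
    c = LinearMap.trace ℂ V f / (finrank ℂ V : ℂ) := by
  rw [hf, map_smul, LinearMap.trace_one, smul_eq_mul, mul_div_assoc,
    div_self (finrank_cast_ne_zero ρ), mul_one]

theorem eq_trace_div_smul [ρ.IsIrreducible] (f : Module.End ℂ V)
    (h : ∀ g : G, f * ρ g = ρ g * f) :
    f = (LinearMap.trace ℂ V f / (finrank ℂ V : ℂ)) • 1 := by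
  obtain ⟨c, hc⟩ := exists_scalar_of_commute ρ f h
  rw [← scalar_eq_trace_div ρ hc]; exact hc

variable [Fintype G]

theorem sum_conj_eq [ρ.IsIrreducible] (x : G) :
    ∑ b : G, ρ (b * x * b⁻¹) =
      ((Nat.card G : ℂ) * ρ.character x / (finrank ℂ V : ℂ)) • (1 : Module.End ℂ V) := by
  have h := eq_trace_div_smul ρ (∑ b : G, ρ (b * x * b⁻¹)) (fun g => by
    rw [Finset.sum_mul, Finset.mul_sum]
    refine Fintype.sum_equiv (Equiv.mulLeft g⁻¹) _ _ fun b => ?_
    rw [← map_mul, ← map_mul, Equiv.coe_mulLeft]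
    congr 1
    group)
  rw [h]
  congr 2
  rw [map_sum, Finset.sum_congr rfl (fun b _ => show LinearMap.trace ℂ V (ρ (b * x * b⁻¹)) =
    ρ.character x from Representation.char_conj ρ x b), Finset.sum_const, Finset.card_univ,
    nsmul_eq_mul, Nat.card_eq_fintype_card]

theorem sum_char_conj_mul [ρ.IsIrreducible] (x y : G) :
    ∑ b : G, ρ.character (b * x * b⁻¹ * y) =
      (Nat.card G : ℂ) * ρ.character x * ρ.character y / (finrank ℂ V : ℂ) := by
  have h : LinearMap.trace ℂ V ((∑ b : G, ρ (b * x * b⁻¹)) * ρ y) =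
      LinearMap.trace ℂ V ((((Nat.card G : ℂ) * ρ.character x / (finrank ℂ V : ℂ)) •
        (1 : Module.End ℂ V)) * ρ y) := by rw [sum_conj_eq]
  rw [Finset.sum_mul, map_sum, smul_mul_assoc, one_mul, map_smul, smul_eq_mul] at h
  have e : ∀ b : G, LinearMap.trace ℂ V (ρ (b * x * b⁻¹) * ρ y) =
      ρ.character (b * x * b⁻¹ * y) := fun b => by rw [← map_mul]; rfl
  rw [Finset.sum_congr rfl (fun b _ => e b)] at h
  rw [h]
  show _ * ρ.character y = _
  ring

theorem sum_commutator_eq [ρ.IsIrreducible] :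
    ∑ a : G, ∑ b : G, ρ (a * b * a⁻¹ * b⁻¹) =
      ((Nat.card G : ℂ) / (finrank ℂ V : ℂ)) ^ 2 • (1 : Module.End ℂ V) := by
  have h0 : ∀ a : G, ∑ b : G, ρ (a * b * a⁻¹ * b⁻¹) =
      ((Nat.card G : ℂ) * ρ.character a⁻¹ / (finrank ℂ V : ℂ)) • ρ a := by
    intro a
    rw [Finset.sum_congr rfl (fun b (_ : b ∈ Finset.univ) => show ρ (a * b * a⁻¹ * b⁻¹) =
      ρ a * ρ (b * a⁻¹ * b⁻¹) by rw [← map_mul]; congr 1; group), ← Finset.mul_sum, sum_conj_eq,
      mul_smul_comm, mul_one]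
  have hcomm : ∀ g : G, (∑ a : G, ∑ b : G, ρ (a * b * a⁻¹ * b⁻¹)) * ρ g =
      ρ g * ∑ a : G, ∑ b : G, ρ (a * b * a⁻¹ * b⁻¹) := by
    intro g
    simp only [Finset.sum_mul, Finset.mul_sum]
    refine Fintype.sum_equiv (MulAut.conj g⁻¹).toEquiv _ _ fun a => ?_
    refine Fintype.sum_equiv (MulAut.conj g⁻¹).toEquiv _ _ fun b => ?_
    simp only [MulEquiv.toEquiv_eq_coe, EquivLike.coe_coe, MulAut.conj_apply]
    rw [← map_mul, ← map_mul]
    congr 1
    group
  -- the trace of the double sum, through orthonormality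
  have htr : LinearMap.trace ℂ V (∑ a : G, ∑ b : G, ρ (a * b * a⁻¹ * b⁻¹)) =
      (Nat.card G : ℂ) ^ 2 / (finrank ℂ V : ℂ) := by
    haveI : Invertible (Nat.card G : ℂ) :=
      invertibleOfNonzero (Nat.cast_ne_zero.mpr Nat.card_pos.ne')
    have horth := Representation.char_orthonormal ρ ρ
    rw [if_pos ⟨Representation.Equiv.refl ρ⟩] at horth
    simp only [h0, map_sum, map_smul, smul_eq_mul]
    show ∑ a : G, (Nat.card G : ℂ) * ρ.character a⁻¹ / (finrank ℂ V : ℂ) * ρ.character a = _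
    have hG : (Nat.card G : ℂ) ≠ 0 := Nat.cast_ne_zero.mpr Nat.card_pos.ne'
    rw [inv_mul_eq_iff_eq_mul₀ hG, mul_one] at horth
    calc ∑ a : G, (Nat.card G : ℂ) * ρ.character a⁻¹ / (finrank ℂ V : ℂ) * ρ.character a
        = (Nat.card G : ℂ) / (finrank ℂ V : ℂ) * ∑ a : G, ρ.character a * ρ.character a⁻¹ := by
          rw [Finset.mul_sum]; exact Finset.sum_congr rfl fun a _ => by ring
      _ = _ := by rw [horth]; ring
  rw [eq_trace_div_smul ρ _ hcomm, htr]
  congr 1
  ring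

theorem sum_char_commutator_mul [ρ.IsIrreducible] (y : G) :
    ∑ a : G, ∑ b : G, ρ.character (a * b * a⁻¹ * b⁻¹ * y) =
      ((Nat.card G : ℂ) / (finrank ℂ V : ℂ)) ^ 2 * ρ.character y := by
  have h : LinearMap.trace ℂ V ((∑ a : G, ∑ b : G, ρ (a * b * a⁻¹ * b⁻¹)) * ρ y) =
      LinearMap.trace ℂ V ((((Nat.card G : ℂ) / (finrank ℂ V : ℂ)) ^ 2 •
        (1 : Module.End ℂ V)) * ρ y) := by rw [sum_commutator_eq]
  simp only [Finset.sum_mul, map_sum, smul_mul_assoc, one_mul, map_smul, smul_eq_mul,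
    ← map_mul] at h
  exact h

end Cfsg.Agent.CharApp
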