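/-
Galois action on character values (through `GaloisAvg.CycloValued`).
* `exists_rat_of_pow_invariant`, `apply_pow_of_rat`
* `CycloValued` divided by `d`: `eq_zero_or_norm_eq_of_integral_div`
* `exists_zero_of_nonlinear`
-/
import Cfsg.Agent.Lib.Char.Orth
import Cfsg.Agent.Lib.GaloisAvg.Basic
import Cfsg.Agent.Lib.CharApp.Schur

set_option autoImplicit false
set_option linter.style.haveILetI false

namespace Cfsg.Agent.CharApp

open Polynomial Finset Cfsg.Agent.GaloisAvg
open scoped ComplexConjugate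

theorem aeval_eq_of_rat {N : ℕ} (hN : 0 < N) (P : ℤ[X]) {z w : ℂ} (hz : IsPrimitiveRoot z N)
    (hw : IsPrimitiveRoot w N) {q : ℚ} (h : aeval z P = (q : ℂ)) : aeval w P = (q : ℂ) := by
  set Q : ℚ[X] := P.map (algebraMap ℤ ℚ) - C q with hQ
  have hval : ∀ x : ℂ, aeval x Q = aeval x P - (q : ℂ) := fun x => by
    rw [hQ, map_sub, aeval_map_algebraMap, aeval_C]
    rfl
  have h1 : minpoly ℚ z ∣ Q := minpoly.dvd ℚ z (by rw [hval, h, sub_self])
  rw [← cyclotomic_eq_minpoly_rat hz hN, cyclotomic_eq_minpoly_rat hw hN] at h1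
  obtain ⟨R, hR⟩ := h1
  have h2 : aeval w Q = 0 := by rw [hR, map_mul, minpoly.aeval, zero_mul]
  rw [hval, sub_eq_zero] at h2
  exact h2

theorem exists_rat_of_const {N : ℕ} (hN : 0 < N) (P : ℤ[X]) (c : ℂ)
    (h : ∀ z : ℂ, IsPrimitiveRoot z N → aeval z P = c) : ∃ n : ℤ, c = (n : ℂ) := by
  classical
  set r := P %ₘ cyclotomic N ℤ with hr
  have hmonic := cyclotomic.monic N ℤ
  have hval : ∀ z : ℂ, IsPrimitiveRoot z N → aeval z r = c := by
    intro z hz
    have h0 : aeval z (cyclotomic N ℤ) = 0 := by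
      rw [aeval_def, eval₂_eq_eval_map, map_cyclotomic]
      haveI : NeZero (N : ℂ) := ⟨Nat.cast_ne_zero.mpr hN.ne'⟩
      exact (isRoot_cyclotomic_iff.mpr hz)
    rw [← h z hz]
    conv_rhs => rw [← modByMonic_add_div P (cyclotomic N ℤ)]
    rw [map_add, map_mul, h0, zero_mul, add_zero]
  set r' : ℂ[X] := r.map (algebraMap ℤ ℂ) - C c with hr'
  have hdeg : r'.natDegree < Nat.totient N := by
    have h1 : r.natDegree < Nat.totient N := by
      rw [← natDegree_cyclotomic N ℤ]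
      refine natDegree_modByMonic_lt P hmonic ?_
      intro he
      have := congrArg natDegree he
      rw [natDegree_cyclotomic, natDegree_one] at this
      exact (Nat.totient_pos.mpr hN).ne' this
    refine lt_of_le_of_lt ((natDegree_sub_le _ _).trans (max_le natDegree_map_le ?_)) h1
    rw [natDegree_C]; exact Nat.zero_le _
  have hz0 : r' = 0 := by
    refine eq_zero_of_natDegree_lt_card_of_eval_eq_zero' r' (primitiveRoots N ℂ) (fun z hz => ?_) ?_
    · rw [hr', eval_sub, eval_C, eval_map_algebraMap, hval z ((mem_primitiveRoots hN).mp hz), sub_self]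
    · rw [(Complex.isPrimitiveRoot_exp N hN.ne').card_primitiveRoots]
      exact hdeg
  refine ⟨r.coeff 0, ?_⟩
  have := congrArg (fun p : ℂ[X] => p.coeff 0) hz0
  simp [hr', coeff_map, sub_eq_zero] at this
  exact this.symm

variable {G : Type*} [Group G] [Finite G]

theorem apply_pow_of_rat {f : G → ℂ} (hf : CycloValued f) {g : G} {q : ℚ} (h : f g = (q : ℂ))
    {m : ℕ} (hm : m.Coprime (Nat.card G)) : f (g ^ m) = (q : ℂ) := by
  obtain ⟨P, hP⟩ := hf g
  have hz := zeta_isPrimitiveRoot (Nat.card_pos (α := G)).ne'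
  rw [hP]
  refine aeval_eq_of_rat (Nat.card_pos (α := G)) P hz (hz.pow_of_coprime m hm) ?_
  rw [← h, ← pow_one (zeta (Nat.card G)), ← hP 1, pow_one]

theorem exists_rat_of_pow_invariant {f : G → ℂ} (hf : CycloValued f) {g : G}
    (h : ∀ m : ℕ, m.Coprime (Nat.card G) → f (g ^ m) = f g) : ∃ n : ℤ, f g = (n : ℂ) := by
  obtain ⟨P, hP⟩ := hf g
  refine exists_rat_of_const (Nat.card_pos (α := G)) P (f g) fun z hz => ?_
  haveI : NeZero (Nat.card G) := ⟨Nat.card_pos.ne'⟩
  obtain ⟨i, -, hi, rfl⟩ :=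
    (zeta_isPrimitiveRoot (Nat.card_pos (α := G)).ne').isPrimitiveRoot_iff.mp hz
  rw [← hP, h i hi]

/-- An algebraic integer `f g / d` whose conjugates are bounded by one is zero or unimodular. -/
theorem eq_zero_or_norm_eq_of_integral_div {f : G → ℂ} (hf : CycloValued f) {d : ℕ} (hd : 0 < d)
    (hle : ∀ x : G, ‖f x‖ ≤ (d : ℝ)) {g : G} (hint : IsIntegral ℤ (f g / (d : ℂ))) :
    f g = 0 ∨ ‖f g‖ = (d : ℝ) := by
  classical
  obtain ⟨P, hP⟩ := hf g
  set N := Nat.card G with hN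
  haveI : NeZero N := ⟨Nat.card_pos.ne'⟩
  have : NeZero (N : ℚ) := NeZero.charZero
  let K := CyclotomicField N ℚ
  haveI : IsCyclotomicExtension {N} ℚ K := CyclotomicField.isCyclotomicExtension N ℚ
  haveI : FiniteDimensional ℚ K := IsCyclotomicExtension.finiteDimensional {N} ℚ K
  have hK : IsPrimitiveRoot (IsCyclotomicExtension.zeta N ℚ K) N :=
    IsCyclotomicExtension.zeta_spec N ℚ K
  set z0 := IsCyclotomicExtension.zeta N ℚ K with hz0
  let e := hK.embeddingsEquivPrimitiveRoots ℂ (cyclotomic.irreducible_rat (NeZero.pos N))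
  have hfg : f g = aeval (zeta N) P := by simpa using hP 1
  obtain ⟨σ₁, hσ₁⟩ := e.surjective
    ⟨zeta N, (mem_primitiveRoots (NeZero.pos N)).mpr (zeta_isPrimitiveRoot (NeZero.ne N))⟩
  have hσ₁' : σ₁ z0 = zeta N := congrArg Subtype.val hσ₁
  set β : K := aeval z0 P / (d : K) with hβ
  have hσ : ∀ σ : K →ₐ[ℚ] ℂ, σ β = aeval (σ z0) P / (d : ℂ) := fun σ => by
    rw [hβ, map_div₀, map_natCast]
    congr 1
    exact (aeval_algHom_apply (σ.restrictScalars ℤ) z0 P).symm
  have hσ₁β : σ₁ β = f g / (d : ℂ) := by rw [hσ, hσ₁', hfg]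
  have hβint : IsIntegral ℤ β :=
    (isIntegral_algHom_iff (σ₁.restrictScalars ℤ) σ₁.injective).mp
      (show IsIntegral ℤ (σ₁ β) by rw [hσ₁β]; exact hint)
  have hnorm : algebraMap ℚ ℂ (Algebra.norm ℚ β) = ∏ σ : K →ₐ[ℚ] ℂ, σ β :=
    Algebra.norm_eq_prod_embeddings ℚ ℂ _
  obtain ⟨n, hn⟩ := IsIntegrallyClosed.isIntegral_iff.mp (Algebra.isIntegral_norm ℚ hβint)
  have hprod : ∏ σ : K →ₐ[ℚ] ℂ, σ β = (n : ℂ) := by rw [← hnorm, ← hn]; simp
  have hbound : ∀ σ : K →ₐ[ℚ] ℂ, ‖σ β‖ ≤ 1 := by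
    intro σ
    obtain ⟨i, -, -, hi⟩ := (zeta_isPrimitiveRoot (NeZero.ne N)).isPrimitiveRoot_iff.mp
      ((mem_primitiveRoots (NeZero.pos N)).mp (e σ).2)
    have : σ z0 = zeta N ^ i := hi.symm
    rw [hσ, this, ← hP, norm_div, Complex.norm_natCast, div_le_one (by exact_mod_cast hd)]
    exact hle _
  have hd0 : (d : ℝ) ≠ 0 := by exact_mod_cast hd.ne'
  rcases eq_or_lt_of_le (hbound σ₁) with h1 | h1
  · right
    rw [hσ₁β, norm_div, Complex.norm_natCast, div_eq_one_iff_eq hd0] at h1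
    exact h1
  · left
    have hlt : ‖(n : ℂ)‖ < 1 := by
      rw [← hprod, norm_prod, ← Finset.mul_prod_erase _ _ (Finset.mem_univ σ₁)]
      exact lt_of_le_of_lt (mul_le_of_le_one_right (norm_nonneg _)
        (Finset.prod_le_one (fun σ _ => norm_nonneg _) fun σ _ => hbound σ)) h1
    have hn0 : n = 0 := by
      by_contra hne
      rw [Complex.norm_intCast] at hlt
      have : (1 : ℝ) ≤ |(n : ℝ)| := by exact_mod_cast Int.one_le_abs hne
      linarith
    rw [hn0, Int.cast_zero, Finset.prod_eq_zero_iff] at hprod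
    obtain ⟨σ, -, hσ0⟩ := hprod
    rw [map_eq_zero_iff σ σ.injective] at hσ0
    rw [hσ0, map_zero, eq_comm, div_eq_zero_iff] at hσ₁β
    exact hσ₁β.resolve_right (Nat.cast_ne_zero.mpr hd.ne')

/-- Burnside: a nonlinear irreducible character has a zero. -/
theorem exists_zero_of_nonlinear {V : Type*} [AddCommGroup V] [Module ℂ V] [FiniteDimensional ℂ V]
    (ρ : Representation ℂ G V) [ρ.IsIrreducible] (hdeg : 1 < Module.finrank ℂ V) :
    ∃ g : G, ρ.character g = 0 := by
  classical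
  by_contra hno
  push Not at hno
  haveI := Fintype.ofFinite G
  have h := card_le_sum_norm_pow (cycloValued_trace ρ) (Finset.univ.erase (1 : G))
    (fun g hg k hk => by
      simp only [Finset.mem_erase, Finset.mem_univ, and_true] at hg ⊢
      exact fun he => hg ((powCoprime hk.symm).injective (he.trans (one_pow k).symm)))
    (fun g _ => hno g) 2
  have hs := Char.classInner_irr_self (Char.isIrrCharacter_character ρ)
  rw [Char.classInner_self_eq, Complex.ofReal_eq_one,
    inv_mul_eq_iff_eq_mul₀ (Nat.cast_ne_zero.mpr Nat.card_pos.ne'), mul_one,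
    ← Finset.add_sum_erase _ _ (Finset.mem_univ (1 : G))] at hs
  rw [Representation.char_one, Complex.norm_natCast] at hs
  rw [Finset.card_erase_of_mem (Finset.mem_univ _), Finset.card_univ,
    Nat.cast_sub Fintype.card_pos, Nat.cast_one] at h
  rw [Nat.card_eq_fintype_card] at hs
  have h2 : (2 : ℝ) ≤ (Module.finrank ℂ V : ℝ) := by exact_mod_cast hdeg
  change _ ≤ ∑ g ∈ Finset.univ.erase (1 : G), ‖ρ.character g‖ ^ 2 at h
  nlinarith

end Cfsg.Agent.CharApp
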