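/-
Burnside's vanishing theorem, the prime-power class theorem and the two-prime theorem.
* `zero_or_norm_eq_of_coprime`, `linear_apply_commutator`, `commute_of_faithful_small`
* `exists_scalar_nontrivial_of_prime_pow_class`, `prime_card_of_simple_prime_pow_class`
* `isSolvable_of_card_eq_prime_pow_mul`
-/
import Cfsg.Agent.Lib.CharApp.Galois
import Cfsg.Agent.Lib.Char.Integral
import Cfsg.Agent.Lib.Char.Linear

set_option autoImplicit false
set_option linter.style.haveILetI false

namespace Cfsg.Agent.CharApp

open Cfsg Module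

universe u

variable {G : Type u} [Group G] [Finite G]

theorem zero_or_norm_eq_of_coprime {V : Type*} [AddCommGroup V] [Module ℂ V] [FiniteDimensional ℂ V]
    (ρ : Representation ℂ G V) [ρ.IsIrreducible] (g : G)
    (hcop : Nat.Coprime (finrank ℂ V) (Subgroup.centralizer ({g} : Set G)).index) :
    ρ.character g = 0 ∨ ‖ρ.character g‖ = (finrank ℂ V : ℝ) := by
  haveI := Fintype.ofFinite G
  set k := (Subgroup.centralizer ({g} : Set G)).index
  set d := finrank ℂ V
  refine eq_zero_or_norm_eq_of_integral_div (GaloisAvg.cycloValued_trace ρ) (finrank_pos_of_irr ρ)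
    (Char.norm_character_le ρ) ?_
  show IsIntegral ℤ (ρ.character g / (d : ℂ))
  have h1 := Char.isIntegral_classSize_mul_div ρ g
  have h2 : IsIntegral ℤ (ρ.character g) := Char.isIntegral_character ρ g
  have hint : ∀ a : ℤ, IsIntegral ℤ (a : ℂ) := fun a => isIntegral_algebraMap
  have hb : ((Nat.gcdA d k : ℤ) : ℂ) * (d : ℂ) + ((Nat.gcdB d k : ℤ) : ℂ) * (k : ℂ) = 1 := by
    have h := Nat.gcd_eq_gcd_ab d k
    rw [show Nat.gcd d k = 1 from hcop] at h
    have h' := congrArg (Int.cast (R := ℂ)) h
    push_cast at h'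
    linear_combination -h'
  have hd : (d : ℂ) ≠ 0 := finrank_cast_ne_zero ρ
  have e : ρ.character g / (d : ℂ) = ((Nat.gcdA d k : ℤ) : ℂ) * ρ.character g +
      ((Nat.gcdB d k : ℤ) : ℂ) * ((k : ℂ) * ρ.character g / (d : ℂ)) := by
    field_simp
    linear_combination (-ρ.character g) * hb
  rw [e]
  exact ((hint _).mul h2).add ((hint _).mul h1)

omit [Finite G] in
theorem apply_commutator_of_degree_one {χ : G → ℂ} (hχ : IsCharacter G χ) (h1 : χ 1 = 1)
    (a b : G) : χ (a * b * a⁻¹ * b⁻¹) = 1 := by
  obtain ⟨l, rfl⟩ := Char.exists_hom_of_degree_one hχ h1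
  have ha : l a * l a⁻¹ = 1 := by rw [← map_mul, mul_inv_cancel, map_one]
  have hb : l b * l b⁻¹ = 1 := by rw [← map_mul, mul_inv_cancel, map_one]
  rw [map_mul, map_mul, map_mul]
  calc l a * l b * l a⁻¹ * l b⁻¹ = (l a * l a⁻¹) * (l b * l b⁻¹) := by ring
    _ = 1 := by rw [ha, hb, one_mul]

/-- A faithful representation of degree below every prime divisor: the group is abelian. -/
theorem commute_of_faithful_small {V : Type*} [AddCommGroup V] [Module ℂ V] [FiniteDimensional ℂ V]
    (ρ : Representation ℂ G V) (hf : Function.Injective ρ)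
    (hdeg : ∀ p : ℕ, p.Prime → p ∣ Nat.card G → finrank ℂ V < p) (a b : G) : a * b = b * a := by
  haveI := Fintype.ofFinite G
  haveI := Fintype.ofFinite (IrrCharacter G)
  have hc := Char.isCharacter_character ρ
  obtain ⟨m, he, -⟩ := Char.IsCharacter.decompose hc
  have hval : ∀ φ : IrrCharacter G, (m φ : ℂ) • (φ : G → ℂ) (a * b * a⁻¹ * b⁻¹) =
      (m φ : ℂ) • (φ : G → ℂ) 1 := by
    intro φ
    by_cases hm : m φ = 0
    · simp [hm]
    congr 1
    obtain ⟨n, hn, hn1, hndvd⟩ := Char.IsIrrCharacter.degree_dvd_card φ.2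
    have hle : n ≤ finrank ℂ V := by
      have h1 := congrFun he 1
      simp only [Representation.char_one, Finset.sum_apply, Pi.smul_apply, smul_eq_mul] at h1
      choose dd hdd using fun ψ : IrrCharacter G => Char.IsCharacter.exists_degree (Char.IsIrrCharacter.isCharacter ψ.2)
      simp only [hdd] at h1
      have h1' : finrank ℂ V = ∑ ψ, m ψ * dd ψ := by exact_mod_cast h1
      have h2 : m φ * dd φ ≤ ∑ ψ, m ψ * dd ψ :=
        Finset.single_le_sum (f := fun ψ => m ψ * dd ψ) (fun _ _ => Nat.zero_le _) (Finset.mem_univ φ)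
      have h3 : dd φ = n := by exact_mod_cast (hdd φ).symm.trans hn1
      rw [h1', ← h3]
      exact le_trans (Nat.le_mul_of_pos_left _ (Nat.pos_of_ne_zero hm)) h2
    have : n = 1 := by
      by_contra hne
      obtain ⟨p, hp, hpn⟩ := Nat.exists_prime_and_dvd hne
      have := hdeg p hp (hpn.trans hndvd)
      have := Nat.le_of_dvd hn hpn
      omega
    rw [hn1, this, Nat.cast_one]
    exact apply_commutator_of_degree_one (Char.IsIrrCharacter.isCharacter φ.2)
      (by rw [hn1, this, Nat.cast_one]) a b
  have h0 : ρ.character (a * b * a⁻¹ * b⁻¹) = (finrank ℂ V : ℂ) := by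
    rw [← Representation.char_one ρ, he]
    simp only [Finset.sum_apply, Pi.smul_apply]
    exact Finset.sum_congr rfl fun φ _ => hval φ
  rw [Char.character_eq_finrank_iff] at h0
  have := hf (h0.trans (map_one ρ).symm)
  rwa [mul_inv_eq_one, mul_inv_eq_iff_eq_mul] at this

/-- A non-identity element with prime-power class acts as a scalar in a non-principal
irreducible representation. -/
theorem exists_scalar_nontrivial_of_prime_pow_class (p k : ℕ) (hp : p.Prime) (g : G) (hg : g ≠ 1)
    (hclass : (Subgroup.centralizer ({g} : Set G)).index = p ^ k) :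
    ∃ (n : ℕ) (ρ : Representation ℂ G (Fin n → ℂ)), ρ.IsIrreducible ∧
      ρ.character ≠ 1 ∧ ∃ c : ℂ, ρ g = c • 1 := by
  classical
  by_contra hno
  push Not at hno
  haveI := Fintype.ofFinite G
  haveI := Fintype.ofFinite (IrrCharacter G)
  have hterm : ∀ χ : IrrCharacter G, (χ : G → ℂ) ≠ 1 →
      IsIntegral ℤ ((χ : G → ℂ) 1 * (χ : G → ℂ) g / (p : ℂ)) := by
    rintro ⟨χ, n, ρ, hρ, rfl⟩ hne
    haveI := hρ
    change ρ.character ≠ 1 at hne
    show IsIntegral ℤ (ρ.character 1 * ρ.character g / (p : ℂ))
    rw [Representation.char_one]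
    by_cases hpd : p ∣ finrank ℂ (Fin n → ℂ)
    · obtain ⟨r, hr⟩ := hpd
      have hp0 : (p : ℂ) ≠ 0 := Nat.cast_ne_zero.mpr hp.ne_zero
      rw [hr, show ((p * r : ℕ) : ℂ) * ρ.character g / (p : ℂ) = (r : ℂ) * ρ.character g by
        push_cast; field_simp]
      exact ((isIntegral_algebraMap (R := ℤ) (x := (r : ℤ))).mul
        (Char.isIntegral_character ρ g)) |> fun h => by simpa using h
    · have hcop : Nat.Coprime (finrank ℂ (Fin n → ℂ))
          (Subgroup.centralizer ({g} : Set G)).index := by
        rw [hclass]; exact Nat.Coprime.pow_right _ ((hp.coprime_iff_not_dvd.mpr hpd).symm)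
      rcases zero_or_norm_eq_of_coprime ρ g hcop with h | h
      · simp [h, isIntegral_zero]
      · obtain ⟨c, hc⟩ := (Char.norm_character_eq_iff ρ g).mp h
        exact absurd hc (hno n ρ hρ hne c)
  have hsum := Char.sum_degree_mul_apply g
  rw [if_neg hg, ← Finset.add_sum_erase _ _ (Finset.mem_univ (⟨1, Char.isIrrCharacter_one⟩ : IrrCharacter G))] at hsum
  simp only [Pi.one_apply, one_mul] at hsum
  have hint : IsIntegral ℤ ((-1 : ℂ) / (p : ℂ)) := by
    rw [show (-1 : ℂ) = ∑ χ ∈ Finset.univ.erase (⟨1, Char.isIrrCharacter_one⟩ : IrrCharacter G),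
      (χ : G → ℂ) 1 * (χ : G → ℂ) g by linear_combination -hsum, Finset.sum_div]
    refine IsIntegral.sum _ fun χ hχ => hterm χ fun h => ?_
    exact (Finset.mem_erase.mp hχ).1 (Subtype.ext h)
  have h1 : IsIntegral ℤ ((1 : ℕ) / (p : ℕ) : ℂ) := by
    have := hint.neg
    rw [neg_div, neg_neg] at this
    simpa using this
  exact hp.not_dvd_one (Char.nat_dvd_of_isIntegral_div hp.ne_zero h1)

theorem prime_card_of_simple_prime_pow_class [IsSimpleGroup G] (p k : ℕ) (hp : p.Prime) (g : G)
    (hg : g ≠ 1) (hclass : (Subgroup.centralizer ({g} : Set G)).index = p ^ k) :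
    (Nat.card G).Prime := by
  classical
  have hcomm : ∀ a b : G, a * b = b * a := by
    by_contra hna
    obtain ⟨n, ρ, hρ, hne, c, hc⟩ := exists_scalar_nontrivial_of_prime_pow_class p k hp g hg hclass
    let φ : G →* Module.End ℂ (Fin n → ℂ) := ρ
    rcases φ.toHomUnits.normal_ker.eq_bot_or_eq_top with h | h
    · have hinj : Function.Injective φ := fun a b e =>
        (MonoidHom.ker_eq_bot_iff _).mp h (Units.ext e)
      have hgc : g ∈ Subgroup.center G := Subgroup.mem_center_iff.mpr fun x => hinj (by
        rw [map_mul, map_mul]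
        show ρ x * ρ g = ρ g * ρ x
        rw [hc, mul_smul_comm, smul_mul_assoc, one_mul, mul_one])
      rcases (inferInstance : (Subgroup.center G).Normal).eq_bot_or_eq_top with hZ | hZ
      · exact hg (by rwa [hZ, Subgroup.mem_bot] at hgc)
      · exact hna fun a b => Subgroup.mem_center_iff.mp (hZ ▸ Subgroup.mem_top b : b ∈ Subgroup.center G) a
    · apply hne
      haveI := hρ
      have htriv : ∀ x : G, ρ x = 1 := fun x => by
        have hx : x ∈ φ.toHomUnits.ker := h ▸ Subgroup.mem_top x
        exact congrArg Units.val (MonoidHom.mem_ker.mp hx)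
      have hd : finrank ℂ (Fin n → ℂ) = 1 := by
        obtain ⟨v, hv⟩ := @exists_ne _ (nontrivial_of_irr ρ) (0 : Fin n → ℂ)
        rcases eq_bot_or_top_of_invariant ρ (Submodule.span ℂ {v}) (fun x w hw => by
          rw [htriv]; exact hw) with hW | hW
        · exact absurd (Submodule.span_singleton_eq_bot.mp hW) hv
        · rw [← finrank_top ℂ, ← hW, finrank_span_singleton hv]
      funext x
      show LinearMap.trace ℂ _ (ρ x) = 1
      rw [htriv, LinearMap.trace_one, hd, Nat.cast_one]
  letI : CommGroup G := { (inferInstance : Group G) with mul_comm := hcomm }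
  exact IsSimpleGroup.prime_card

theorem isSolvable_of_card_eq_prime_pow_mul (p q : ℕ) (hp : p.Prime) (hq : q.Prime) :
    ∀ (N : ℕ) (G : Type u) [Group G] [Finite G], Nat.card G = N →
      ∀ a b : ℕ, N = p ^ a * q ^ b → Group.IsSolvable G := by
  intro N
  induction N using Nat.strong_induction_on with
  | _ N ih =>
    intro G _ _ hN a b hab
    classical
    haveI := Fact.mk hp
    rcases subsingleton_or_nontrivial G with hs | hnt
    · infer_instance
    by_cases hsimple : IsSimpleGroup G
    · -- a simple group of this order has prime order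
      have hprime : (Nat.card G).Prime := by
        by_cases hb : b = 0
        · subst hb
          rw [pow_zero, mul_one] at hab
          haveI hpg : IsPGroup p G := IsPGroup.of_card (hN.trans hab)
          haveI := hpg.center_nontrivial
          obtain ⟨z, hz⟩ := exists_ne (1 : Subgroup.center G)
          refine prime_card_of_simple_prime_pow_class p 0 hp z (fun h => hz (Subtype.ext h)) ?_
          rw [pow_zero, Subgroup.index_eq_one, Subgroup.centralizer_eq_top_iff_subset]
          simp
        · haveI := Fact.mk hq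
          let Q : Sylow q G := default
          haveI : Nontrivial Q := by
            refine Finite.one_lt_card_iff_nontrivial.mp ?_
            have hdvd : q ∣ Nat.card G := by rw [hN, hab]; exact Dvd.dvd.mul_left (dvd_pow_self q hb) _
            have := Q.dvd_card_of_dvd_card hdvd
            exact lt_of_lt_of_le hq.one_lt (Nat.le_of_dvd Nat.card_pos this)
          haveI := Q.isPGroup'.center_nontrivial
          obtain ⟨z, hz⟩ := exists_ne (1 : Subgroup.center Q)
          have hle : (Q : Subgroup G) ≤ Subgroup.centralizer ({((z : Q) : G)} : Set G) := by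
            intro x hx
            rw [Subgroup.mem_centralizer_singleton_iff]
            exact congrArg Subtype.val (Subgroup.mem_center_iff.mp z.2 ⟨x, hx⟩)
          have h1 : (Subgroup.centralizer ({((z : Q) : G)} : Set G)).index ∣ (Q : Subgroup G).index :=
            Subgroup.index_dvd_of_le hle
          by_cases hpq : p = q
          · subst hpq
            have hc : ¬ p ∣ (Q : Subgroup G).index := Q.not_dvd_index
            have h2 : (Q : Subgroup G).index ∣ p ^ (a + b) := by
              rw [pow_add, ← hab, ← hN]; exact Subgroup.index_dvd_card _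
            obtain ⟨j, _, hj⟩ := (Nat.dvd_prime_pow hp).mp h2
            have hj0 : j = 0 := by
              by_contra hne
              exact hc (hj ▸ dvd_pow_self p hne)
            rw [hj, hj0, pow_zero, Nat.dvd_one] at h1
            exact prime_card_of_simple_prime_pow_class p 0 hp _
              (fun h => hz (Subtype.ext (Subtype.ext h))) (by rw [pow_zero]; exact h1)
          · have h2 : (Q : Subgroup G).index ∣ p ^ a := by
              have hco : Nat.Coprime (Q : Subgroup G).index (q ^ b) :=
                Nat.Coprime.pow_right _ ((hq.coprime_iff_not_dvd.mpr Q.not_dvd_index).symm)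
              refine hco.dvd_of_dvd_mul_right ?_
              rw [← hab, ← hN]; exact Subgroup.index_dvd_card _
            obtain ⟨j, _, hj⟩ := (Nat.dvd_prime_pow hp).mp (h1.trans h2)
            exact prime_card_of_simple_prime_pow_class p j hp _
              (fun h => hz (Subtype.ext (Subtype.ext h))) hj
      haveI := Fact.mk hprime
      haveI : IsCyclic G := isCyclic_of_prime_card (p := Nat.card G) rfl
      letI : CommGroup G := IsCyclic.commGroup
      infer_instance
    · -- otherwise use a proper normal subgroup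
      obtain ⟨K, hKn, hKb, hKt⟩ : ∃ K : Subgroup G, K.Normal ∧ K ≠ ⊥ ∧ K ≠ ⊤ := by
        by_contra hno
        push Not at hno
        exact hsimple ⟨fun H hH => by
          by_cases hb : H = ⊥
          · exact Or.inl hb
          · exact Or.inr (hno H hH hb)⟩
      haveI := hKn
      have hpq : ∀ m : ℕ, m ∣ p ^ a * q ^ b → ∃ a' b', m = p ^ a' * q ^ b' := by
        intro m hm
        obtain ⟨m₁, hm₁, m₂, hm₂, rfl⟩ : ∃ m₁, m₁ ∣ p ^ a ∧ ∃ m₂, m₂ ∣ q ^ b ∧ m₁ * m₂ = m := by
          obtain ⟨x, y, hx, hy, h⟩ := (Nat.dvd_mul).mp hm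
          exact ⟨x, hx, y, hy, h⟩
        obtain ⟨i, _, rfl⟩ := (Nat.dvd_prime_pow hp).mp hm₁
        obtain ⟨j, _, rfl⟩ := (Nat.dvd_prime_pow hq).mp hm₂
        exact ⟨i, j, rfl⟩
      have hcard := K.index_mul_card
      have hK1 : 1 < Nat.card K := Finite.one_lt_card_iff_nontrivial.mpr
        ((Subgroup.nontrivial_iff_ne_bot K).mpr hKb)
      have hI1 : 1 < K.index := by
        rcases Nat.lt_or_ge 1 K.index with h | h
        · exact h
        · have : K.index ≠ 0 := Subgroup.index_ne_zero_of_finite
          exact absurd (Subgroup.index_eq_one.mp (by omega)) hKt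
      haveI hsK : Group.IsSolvable K := by
        obtain ⟨a', b', h⟩ := hpq (Nat.card K) (by rw [← hab, ← hN]; exact Subgroup.card_subgroup_dvd_card K)
        exact ih (Nat.card K) (by rw [← hN, ← hcard]; exact lt_mul_left (by omega) hI1) K rfl a' b' h
      haveI hsQ : Group.IsSolvable (G ⧸ K) := by
        have hq' : Nat.card (G ⧸ K) = K.index := rfl
        obtain ⟨a', b', h⟩ := hpq K.index (by rw [← hab, ← hN]; exact Subgroup.index_dvd_card K)
        exact ih K.index (by rw [← hN, ← hcard]; exact lt_mul_right (by omega) hK1) (G ⧸ K) hq' a' b' h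
      exact Group.isSolvable_of_ker_le_range K.subtype (QuotientGroup.mk' K) (by simp)

end Cfsg.Agent.CharApp
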