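/-
Complex representations of finite groups, facts not needing the core character API.
* `char_inv_conj`: `χ g⁻¹ = conj (χ g)`
* `sum_normSq_eq_card`: `∑ ‖χ g‖² = |G|` for irreducible `ρ`
* `sum_char_eq_card_mul`: `∑ χ g = |G| * dim (invariants)`
* `comp_irr_of_surjective`: pull back along a surjection preserves irreducibility
-/
import Cfsg.Agent.Lib.CharApp.Schur

set_option autoImplicit false

namespace Cfsg.Agent.CharApp

open Representation Module
open scoped ComplexConjugate Matrix ComplexOrder

variable {G : Type*} [Group G] {V : Type*} [AddCommGroup V] [Module ℂ V]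

theorem comp_irr_of_surjective {H : Type*} [Group H] (ρ : Representation ℂ G V) [ρ.IsIrreducible]
    (f : H →* G) (hf : Function.Surjective f) :
    Representation.IsIrreducible (ρ.comp f : Representation ℂ H V) := by
  haveI := nontrivial_of_irr ρ
  refine isIrreducible_of_forall_invariant _ fun W hW => eq_bot_or_top_of_invariant ρ W fun g v hv => ?_
  obtain ⟨h, rfl⟩ := hf g
  exact hW h v hv

variable [FiniteDimensional ℂ V] [Fintype G] (ρ : Representation ℂ G V)

theorem char_inv_conj (g : G) : ρ.character g⁻¹ = conj (ρ.character g) := by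
  classical
  let b := Module.finBasis ℂ V
  let M : G → Matrix (Fin (finrank ℂ V)) (Fin (finrank ℂ V)) ℂ :=
    fun x => LinearMap.toMatrix b b (ρ x)
  have hmul : ∀ x y, M (x * y) = M x * M y := fun x y => by
    simp only [M, map_mul]; exact LinearMap.toMatrix_mul b _ _
  have hone : M 1 = 1 := by simp only [M, map_one]; exact LinearMap.toMatrix_one b
  let H := ∑ x : G, (M x)ᴴ * M x
  have hinvar : ∀ x, (M x)ᴴ * H * M x = H := by
    intro x
    simp only [H, Finset.mul_sum, Finset.sum_mul]
    refine Fintype.sum_equiv (Equiv.mulRight x) _ _ fun y => ?_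
    simp only [Equiv.coe_mulRight, hmul, Matrix.conjTranspose_mul, mul_assoc]
  have hpos : H.PosDef := by
    have he : H = 1 + ∑ x ∈ Finset.univ.erase (1 : G), (M x)ᴴ * M x := by
      simp only [H]
      rw [← Finset.add_sum_erase _ _ (Finset.mem_univ (1 : G)), hone]
      simp
    rw [he]
    exact Matrix.PosDef.one.add_posSemidef
      (Matrix.posSemidef_sum _ fun x _ => Matrix.posSemidef_conjTranspose_mul_self (M x))
  have hu : IsUnit H.det := Matrix.isUnit_iff_isUnit_det H |>.mp hpos.isUnit
  have key : M g⁻¹ = H⁻¹ * ((M g)ᴴ * H) := by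
    have h1 : (M g)ᴴ * H = H * M g⁻¹ := by
      calc (M g)ᴴ * H = (M g)ᴴ * H * (M g * M g⁻¹) := by rw [← hmul, mul_inv_cancel, hone, mul_one]
        _ = H * M g⁻¹ := by rw [← mul_assoc, hinvar]
    rw [h1, Matrix.nonsing_inv_mul_cancel_left _ _ hu]
  have ht : ∀ x, ρ.character x = (M x).trace := fun x => LinearMap.trace_eq_matrix_trace ℂ b (ρ x)
  rw [ht, ht, key, Matrix.trace_mul_comm, Matrix.mul_nonsing_inv_cancel_right _ _ hu,
    Matrix.trace_conjTranspose, starRingEnd_apply]

theorem sum_char_eq_card_mul :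
    ∑ g : G, ρ.character g = (Nat.card G : ℂ) * (finrank ℂ (invariants ρ) : ℂ) := by
  haveI : Invertible (Nat.card G : ℂ) :=
    invertibleOfNonzero (Nat.cast_ne_zero.mpr Nat.card_pos.ne')
  rw [← card_inv_mul_sum_char_eq_finrank, ← mul_assoc,
    mul_inv_cancel₀ (Nat.cast_ne_zero.mpr Nat.card_pos.ne'), one_mul]

theorem sum_char_mul_inv_eq_card [ρ.IsIrreducible] :
    ∑ g : G, ρ.character g * ρ.character g⁻¹ = (Nat.card G : ℂ) := by
  haveI : Invertible (Nat.card G : ℂ) :=
    invertibleOfNonzero (Nat.cast_ne_zero.mpr Nat.card_pos.ne')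
  have h := Representation.char_orthonormal ρ ρ
  rw [if_pos ⟨Representation.Equiv.refl ρ⟩,
    inv_mul_eq_iff_eq_mul₀ (Nat.cast_ne_zero.mpr Nat.card_pos.ne'), mul_one] at h
  exact h

theorem sum_normSq_eq_card [ρ.IsIrreducible] :
    ∑ g : G, Complex.normSq (ρ.character g) = (Nat.card G : ℝ) := by
  apply Complex.ofReal_injective
  push_cast
  rw [← sum_char_mul_inv_eq_card ρ]
  exact Finset.sum_congr rfl fun g _ => by rw [char_inv_conj, Complex.mul_conj]

end Cfsg.Agent.CharApp
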