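/-
Clifford correspondence and Gallagher's theorem, characters as functions (`N` normal in `G`).

* `exists_constituent`, `classInner_nat_le_degree`, `eq_of_constituent_of_degree`
* `inertia N θ`, `le_inertia`, `card_fixing_eq`
* `restrict_degree`: `χ 1 = e * |G : T| * θ 1`; `restrict_invariant`: `χ|N = e • θ`
* `clifford_correspondence`: for `ψ ∈ Irr(T|θ)` the induced character is irreducible, the
  multiplicity is preserved and `ψ` is determined by it; `exists_correspondent`: surjectivity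
* `TrivOn`, `trivOn_of_constituent_one`, `indFun_one_eq_sum` : `1_N^G = ∑ β(1) β`
* `gallagher_irr`, `gallagher_injective`, `gallagher_exhaustive`
* `multiplicity_sq_le_index`
-/
import Cfsg.Agent.Lib.CliffordChar.Basic
import Cfsg.Agent.Lib.Char.Brauer

set_option autoImplicit false
set_option linter.style.haveILetI false

namespace Cfsg.Agent.CharApp

open Cfsg Cfsg.Agent.Char Cfsg.Agent.CliffordChar
open scoped ComplexConjugate

section constituents

variable {G : Type*} [Group G] [Fintype G]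

theorem exists_constituent {π : G → ℂ} (hπ : IsCharacter G π) (h : π 1 ≠ 0) :
    ∃ φ : IrrCharacter G, classInner π (φ : G → ℂ) ≠ 0 := by
  haveI := Fintype.ofFinite (IrrCharacter G)
  by_contra hno
  push Not at hno
  refine h ?_
  rw [classFunction_eq_sum (IsCharacter.isClassFunction hπ)]
  simp [hno]

theorem classInner_nat_le_degree {π φ : G → ℂ} (hπ : IsCharacter G π) (hφ : IsIrrCharacter G φ)
    {m a b : ℕ} (hm : classInner π φ = m) (ha : π 1 = a) (hb : φ 1 = b) : m * b ≤ a := by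
  haveI := Fintype.ofFinite (IrrCharacter G)
  obtain ⟨c, hc, hin⟩ := IsCharacter.decompose hπ
  choose d hd using fun ψ : IrrCharacter G =>
    IsCharacter.exists_degree (IsIrrCharacter.isCharacter ψ.2)
  have h1 := congrFun hc 1
  simp only [Finset.sum_apply, Pi.smul_apply, smul_eq_mul, hd, ha] at h1
  have h2 : a = ∑ ψ, c ψ * d ψ := by exact_mod_cast h1
  have h3 : c ⟨φ, hφ⟩ = m := by exact_mod_cast (hin ⟨φ, hφ⟩).symm.trans hm
  have h4 : d ⟨φ, hφ⟩ = b := by exact_mod_cast (hd ⟨φ, hφ⟩).symm.trans hb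
  rw [h2, ← h3, ← h4]
  exact Finset.single_le_sum (f := fun ψ => c ψ * d ψ) (fun _ _ => Nat.zero_le _) (Finset.mem_univ _)

/-- A character with an irreducible constituent of the same degree is that constituent. -/
theorem eq_of_constituent_of_degree {π χ : G → ℂ} (hπ : IsCharacter G π) (hχ : IsIrrCharacter G χ)
    (hne : classInner π χ ≠ 0) {a : ℕ} (ha : π 1 = a) (hb : χ 1 = a) : π = χ := by
  haveI := Fintype.ofFinite (IrrCharacter G)
  obtain ⟨c, hc, hin⟩ := IsCharacter.decompose hπ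
  choose d hd0 hd using fun ψ : IrrCharacter G => IsIrrCharacter.exists_degree ψ.2
  have h1 := congrFun hc 1
  simp only [Finset.sum_apply, Pi.smul_apply, smul_eq_mul, hd, ha] at h1
  have h2 : a = ∑ ψ, c ψ * d ψ := by exact_mod_cast h1
  have h4 : d ⟨χ, hχ⟩ = a := by exact_mod_cast (hd ⟨χ, hχ⟩).symm.trans hb
  have hc0 : c ⟨χ, hχ⟩ ≠ 0 := fun h => hne (by
    have := hin ⟨χ, hχ⟩
    rw [h, Nat.cast_zero] at this
    exact this)
  classical
  rw [← Finset.add_sum_erase _ _ (Finset.mem_univ (⟨χ, hχ⟩ : IrrCharacter G)), h4] at h2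
  have hge : a ≤ c ⟨χ, hχ⟩ * a := Nat.le_mul_of_pos_left _ (Nat.pos_of_ne_zero hc0)
  have hz : ∑ ψ ∈ Finset.univ.erase (⟨χ, hχ⟩ : IrrCharacter G), c ψ * d ψ = 0 := by omega
  have hone : c ⟨χ, hχ⟩ = 1 := by
    have hpos : 0 < a := h4 ▸ hd0 _
    have : c ⟨χ, hχ⟩ * a = a := by omega
    exact Nat.eq_of_mul_eq_mul_right hpos (by rw [this, one_mul])
  rw [hc, ← Finset.add_sum_erase _ _ (Finset.mem_univ (⟨χ, hχ⟩ : IrrCharacter G)), hone,
    Finset.sum_eq_zero (s := Finset.univ.erase _) fun ψ hψ => by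
      rw [show c ψ = 0 from (mul_eq_zero.mp (Finset.sum_eq_zero_iff.mp hz ψ hψ)).resolve_right (hd0 ψ).ne',
        Nat.cast_zero, zero_smul]]
  simp

theorem classInner_comm_of_nat {π φ : G → ℂ} {m : ℕ} (h : classInner π φ = m) :
    classInner φ π = m := by
  rw [← classInner_conj_symm, h, Complex.conj_natCast]

/-- The inner product of two characters, expanded over the constituents of the first. -/
theorem classInner_eq_sum_mul [Fintype (IrrCharacter G)] {π : G → ℂ} {c : IrrCharacter G → ℕ}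
    (hc : π = ∑ φ : IrrCharacter G, (c φ : ℂ) • (φ : G → ℂ)) (f : G → ℂ) :
    classInner π f = ∑ φ : IrrCharacter G, (c φ : ℂ) * classInner (φ : G → ℂ) f := by
  rw [hc, classInner_sum_left]
  simp [classInner_smul_left]

end constituents

variable {G : Type*} [Group G] (N : Subgroup G) [hN : N.Normal]

/-- The inertia group of `θ`. -/
def inertia (θ : N → ℂ) : Subgroup G where
  carrier := {g | CliffordChar.conjFun N g θ = θ}
  one_mem' := conjFun_one N θ
  mul_mem' := fun {a b} (ha : CliffordChar.conjFun N a θ = θ) (hb : CliffordChar.conjFun N b θ = θ) => by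
    show CliffordChar.conjFun N (a * b) θ = θ
    rw [conjFun_mul, hb, ha]
  inv_mem' := fun {a} (ha : CliffordChar.conjFun N a θ = θ) => by
    show CliffordChar.conjFun N a⁻¹ θ = θ
    calc CliffordChar.conjFun N a⁻¹ θ = CliffordChar.conjFun N a⁻¹ (CliffordChar.conjFun N a θ) := by rw [ha]
      _ = θ := by rw [← conjFun_mul, inv_mul_cancel, conjFun_one]

theorem mem_inertia {θ : N → ℂ} {g : G} : g ∈ inertia N θ ↔ CliffordChar.conjFun N g θ = θ := Iff.rfl

theorem mem_inertia_iff {θ : N → ℂ} {g : G} : g ∈ inertia N θ ↔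
    ∀ n : N, θ ⟨g * n * g⁻¹, hN.conj_mem n n.2 g⟩ = θ n := by
  rw [← inv_mem_iff, mem_inertia, funext_iff]
  refine forall_congr' fun n => ?_
  rw [CliffordChar.conjFun_apply]
  simp only [inv_inv]

theorem le_inertia {θ : N → ℂ} (hθ : IsClassFunction N θ) : N ≤ inertia N θ := by
  intro x hx
  rw [mem_inertia_iff]
  intro n
  exact hθ n ⟨x, hx⟩

theorem conjFun_apply_one (x : G) (θ : N → ℂ) : CliffordChar.conjFun N x θ 1 = θ 1 := by
  simp [CliffordChar.conjFun]

variable [Fintype G]

theorem classInner_orbitSum_self [Fintype N] {θ : N → ℂ} (hθ : IsIrrCharacter N θ) :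
    classInner (orbitSum N θ) θ = (Nat.card (inertia N θ) : ℂ) := by
  classical
  rw [classInner_orbitSum N hθ hθ]
  congr 1
  rw [Nat.card_eq_fintype_card, Fintype.card_subtype]
  exact congrArg Finset.card (Finset.filter_congr fun x _ => Iff.rfl)

omit hN in
theorem card_eq_index_mul (T : Subgroup G) : (Nat.card G : ℂ) = (T.index : ℂ) * (Nat.card T : ℂ) := by
  rw [← Nat.cast_mul, T.index_mul_card]

theorem restrict_degree [Fintype N] {χ : G → ℂ} (hχ : IsIrrCharacter G χ) {θ : N → ℂ}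
    (hθ : IsIrrCharacter N θ) (h : classInner (fun n : N => χ n) θ ≠ 0) :
    χ 1 = classInner (fun n : N => χ n) θ * ((inertia N θ).index : ℂ) * θ 1 := by
  have h1 := congrFun (restrict_eq N hχ hθ h) 1
  rw [classInner_orbitSum_self N hθ] at h1
  simp only [OneMemClass.coe_one, Pi.smul_apply, smul_eq_mul, orbitSum, Finset.sum_apply,
    conjFun_apply_one, Finset.sum_const, Finset.card_univ, nsmul_eq_mul,
    ← Nat.card_eq_fintype_card, card_eq_index_mul (inertia N θ)] at h1
  rw [h1]
  have : (Nat.card (inertia N θ) : ℂ) ≠ 0 := Nat.cast_ne_zero.mpr Nat.card_pos.ne'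
  field_simp

theorem restrict_invariant [Fintype N] {χ : G → ℂ} (hχ : IsIrrCharacter G χ) {θ : N → ℂ}
    (hθ : IsIrrCharacter N θ) (h : classInner (fun n : N => χ n) θ ≠ 0)
    (hinv : ∀ x : G, CliffordChar.conjFun N x θ = θ) :
    (fun n : N => χ n) = classInner (fun n : N => χ n) θ • θ := by
  have h1 := restrict_eq N hχ hθ h
  have horb : orbitSum N θ = (Nat.card G : ℂ) • θ := by
    rw [orbitSum, Finset.sum_congr rfl fun x _ => hinv x, Finset.sum_const, Finset.card_univ,
      ← Nat.cast_smul_eq_nsmul ℂ, Nat.card_eq_fintype_card]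
  rw [horb, classInner_smul_left, classInner_irr_self hθ, mul_one, smul_smul,
    div_mul_cancel₀ _ (Nat.cast_ne_zero.mpr Nat.card_pos.ne')] at h1
  exact h1

omit hN in
/-- Every constituent of a character of the overgroup that is seen on `N`. -/
theorem exists_middle_constituent {T : Subgroup G} [Fintype T] [Fintype N] (hNT : N ≤ T)
    {π : G → ℂ} (hπ : IsCharacter G π) {θ : N → ℂ}
    (h : classInner (fun n : N => π n) θ ≠ 0) :
    ∃ ψ : IrrCharacter T, classInner (fun x : T => π x) (ψ : T → ℂ) ≠ 0 ∧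
      classInner (fun n : N => (ψ : T → ℂ) ⟨(n : G), hNT n.2⟩) θ ≠ 0 := by
  haveI := Fintype.ofFinite (IrrCharacter T)
  obtain ⟨c, hc, hin⟩ := IsCharacter.decompose (IsCharacter.restrict hπ T)
  by_contra hno
  push Not at hno
  refine h ?_
  have hrw : (fun n : N => π n) =
      ∑ ψ : IrrCharacter T, (c ψ : ℂ) • fun n : N => (ψ : T → ℂ) ⟨(n : G), hNT n.2⟩ := by
    funext n
    have := congrFun hc ⟨(n : G), hNT n.2⟩
    simpa [Finset.sum_apply] using this
  rw [hrw, classInner_sum_left]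
  refine Finset.sum_eq_zero fun ψ _ => ?_
  rw [classInner_smul_left]
  by_cases hcz : c ψ = 0
  · simp [hcz]
  · rw [hno ψ (by rw [hin ψ]; exact_mod_cast hcz), mul_zero]

/-- Degrees in `Irr(T|θ)` when `θ` is `T`-invariant. -/
theorem restrict_in_inertia [Fintype N] {θ : N → ℂ} (hθ : IsIrrCharacter N θ)
    {T : Subgroup G} [Fintype T] (hT : T ≤ inertia N θ) (hNT : N ≤ T) {ψ : T → ℂ}
    (hψ : IsIrrCharacter T ψ)
    (h : classInner (fun n : N => ψ ⟨(n : G), hNT n.2⟩) θ ≠ 0) (n : N) :
    ψ ⟨(n : G), hNT n.2⟩ =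
      classInner (fun n : N => ψ ⟨(n : G), hNT n.2⟩) θ * θ n := by
  classical
  haveI := Fintype.ofFinite (N.subgroupOf T)
  let e := Subgroup.subgroupOfEquivOfLe hNT
  have hθ' : IsIrrCharacter (N.subgroupOf T) (fun x => θ (e x)) := IsIrrCharacter.comp_equiv hθ e
  have hinner : classInner (fun x : N.subgroupOf T => ψ x) (fun x => θ (e x)) =
      classInner (fun n : N => ψ ⟨(n : G), hNT n.2⟩) θ :=
    classInner_comp_equiv e (fun n : N => ψ ⟨(n : G), hNT n.2⟩) θ
  have hinv : ∀ t : T, CliffordChar.conjFun (N.subgroupOf T) t (fun x => θ (e x)) = fun x => θ (e x) := by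
    intro t
    funext x
    have hx := congrFun (hT t.2) (e x)
    rw [CliffordChar.conjFun_apply] at hx ⊢
    exact hx
  have := congrFun (restrict_invariant (N.subgroupOf T) hψ hθ' (by rw [hinner]; exact h) hinv)
    (e.symm n)
  rw [hinner, Pi.smul_apply, smul_eq_mul, MulEquiv.apply_symm_apply] at this
  exact this

/-- Surjectivity in the Clifford correspondence. -/
theorem exists_correspondent [Fintype N] {θ : N → ℂ} (hθ : IsIrrCharacter N θ)
    [Fintype (inertia N θ)] {χ : G → ℂ} (hχ : IsIrrCharacter G χ)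
    (h : classInner (fun n : N => χ n) θ ≠ 0) :
    ∃ ψ : inertia N θ → ℂ, IsIrrCharacter (inertia N θ) ψ ∧ indFun (inertia N θ) ψ = χ ∧
      classInner (fun n : N => ψ ⟨(n : G), le_inertia N (IsIrrCharacter.isClassFunction hθ) n.2⟩) θ =
        classInner (fun n : N => χ n) θ ∧
      ∀ ψ' : inertia N θ → ℂ, IsIrrCharacter (inertia N θ) ψ' →
        classInner (fun x : inertia N θ => χ x) ψ' ≠ 0 →
        classInner (fun n : N => ψ' ⟨(n : G), le_inertia N (IsIrrCharacter.isClassFunction hθ) n.2⟩) θ ≠ 0 →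
        ψ' = ψ := by
  classical
  have hNT : N ≤ (inertia N θ) := le_inertia N (IsIrrCharacter.isClassFunction hθ)
  have hχc := IsIrrCharacter.isCharacter hχ
  haveI := Fintype.ofFinite (IrrCharacter (inertia N θ))
  obtain ⟨c, hc, hin⟩ := IsCharacter.decompose (IsCharacter.restrict hχc (inertia N θ))
  let res : ((inertia N θ) → ℂ) → N → ℂ := fun ψ n => ψ ⟨(n : G), hNT n.2⟩
  have hresc : ∀ ψ : IrrCharacter (inertia N θ), IsCharacter N (res ψ) := fun ψ =>
    IsCharacter.comp_hom (IsIrrCharacter.isCharacter ψ.2) (Subgroup.inclusion hNT)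
  choose f hf using fun ψ : IrrCharacter (inertia N θ) =>
    IsCharacter.classInner_nat (hresc ψ) (IsIrrCharacter.isCharacter hθ)
  obtain ⟨e, he⟩ := IsCharacter.classInner_nat (IsCharacter.restrict hχc N) (IsIrrCharacter.isCharacter hθ)
  obtain ⟨d, hd, hdv⟩ := IsIrrCharacter.exists_degree hθ
  have hesum : e = ∑ ψ, c ψ * f ψ := by
    have hrw : (fun n : N => χ n) = ∑ ψ : IrrCharacter (inertia N θ), (c ψ : ℂ) • res ψ := by
      funext n
      have := congrFun hc ⟨(n : G), hNT n.2⟩
      simpa [Finset.sum_apply] using this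
    have h1 := he
    rw [hrw, classInner_sum_left] at h1
    simp only [classInner_smul_left, hf] at h1
    exact_mod_cast h1.symm
  have hχ1 : χ 1 = ((e * (inertia N θ).index * d : ℕ) : ℂ) := by
    rw [restrict_degree N hχ hθ h, he, hdv]; push_cast; rfl
  -- any relevant constituent carries the whole multiplicity
  have key : ∀ ψ : IrrCharacter (inertia N θ), c ψ ≠ 0 → f ψ ≠ 0 → f ψ = e ∧ indFun (inertia N θ) (ψ : (inertia N θ) → ℂ) = χ := by
    intro ψ hcψ hfψ
    have hle : f ψ ≤ e := by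
      rw [hesum]
      exact le_trans (Nat.le_mul_of_pos_left _ (Nat.pos_of_ne_zero hcψ))
        (Finset.single_le_sum (f := fun ψ => c ψ * f ψ) (fun _ _ => Nat.zero_le _) (Finset.mem_univ ψ))
    have hne0 : classInner (res ψ) θ ≠ 0 := by rw [hf]; exact_mod_cast hfψ
    have hψ1 : (ψ : (inertia N θ) → ℂ) 1 = ((f ψ * d : ℕ) : ℂ) := by
      have := restrict_in_inertia N hθ (le_refl (inertia N θ)) hNT ψ.2 hne0 1
      rw [hf, hdv] at this
      push_cast
      exact this
    have hind : IsCharacter G (indFun (inertia N θ) (ψ : (inertia N θ) → ℂ)) := IsCharacter.indFun (inertia N θ) (IsIrrCharacter.isCharacter ψ.2)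
    have hi1 : indFun (inertia N θ) (ψ : (inertia N θ) → ℂ) 1 = (((inertia N θ).index * (f ψ * d) : ℕ) : ℂ) := by
      rw [indFun_one_apply, hψ1]; push_cast; rfl
    have hne : classInner (indFun (inertia N θ) (ψ : (inertia N θ) → ℂ)) χ = (c ψ : ℂ) := by
      rw [frobenius_reciprocity (inertia N θ) _ (IsIrrCharacter.isClassFunction hχ)]
      exact classInner_comm_of_nat (hin ψ)
    have hdeg : e * (inertia N θ).index * d ≤ (inertia N θ).index * (f ψ * d) := by
      have := classInner_nat_le_degree hind hχ hne hi1 hχ1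
      exact le_trans (Nat.le_mul_of_pos_left _ (Nat.pos_of_ne_zero hcψ)) this
    have hidx : 0 < (inertia N θ).index := Nat.pos_of_ne_zero Subgroup.index_ne_zero_of_finite
    have hfe : f ψ = e := by
      refine le_antisymm hle ?_
      rw [mul_comm e, mul_assoc] at hdeg
      exact Nat.le_of_mul_le_mul_right (Nat.le_of_mul_le_mul_left hdeg hidx) hd
    refine ⟨hfe, eq_of_constituent_of_degree hind hχ (by rw [hne]; exact_mod_cast hcψ) hi1 ?_⟩
    rw [hχ1, hfe]; congr 1; ring
  obtain ⟨ψ, hψ1, hψ2⟩ := exists_middle_constituent N hNT hχc h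
  have hcψ : c ψ ≠ 0 := fun h0 => hψ1 (by rw [hin ψ, h0, Nat.cast_zero])
  have hfψ : f ψ ≠ 0 := fun h0 => hψ2 (by
    show classInner (res ψ) θ = 0
    rw [hf ψ, h0, Nat.cast_zero])
  obtain ⟨hfe, hind⟩ := key ψ hcψ hfψ
  refine ⟨ψ, ψ.2, hind, ?_, fun ψ' hψ' h1 h2 => ?_⟩
  · show classInner (res ψ) θ = _
    rw [hf ψ, hfe, he]
  · by_contra hne
    have hc' : c ⟨ψ', hψ'⟩ ≠ 0 := fun h0 => h1 (by
      have := hin ⟨ψ', hψ'⟩
      rw [h0, Nat.cast_zero] at this
      exact this)
    have hf' : f ⟨ψ', hψ'⟩ ≠ 0 := fun h0 => h2 (by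
      have := hf ⟨ψ', hψ'⟩
      rw [h0, Nat.cast_zero] at this
      exact this)
    obtain ⟨hfe', -⟩ := key ⟨ψ', hψ'⟩ hc' hf'
    have h2e : c ψ * f ψ + c ⟨ψ', hψ'⟩ * f ⟨ψ', hψ'⟩ ≤ e := by
      rw [hesum, ← Finset.sum_pair (f := fun ψ => c ψ * f ψ)
        (show ψ ≠ ⟨ψ', hψ'⟩ from fun h0 => hne (congrArg Subtype.val h0).symm)]
      exact Finset.sum_le_sum_of_subset (Finset.subset_univ _)
    rw [hfe, hfe'] at h2e
    have h3 : e ≤ c ψ * e := Nat.le_mul_of_pos_left _ (Nat.pos_of_ne_zero hcψ)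
    have h4 : e ≤ c ⟨ψ', hψ'⟩ * e := Nat.le_mul_of_pos_left _ (Nat.pos_of_ne_zero hc')
    omega

/-- The Clifford correspondence from below. -/
theorem clifford_correspondence [Fintype N] {θ : N → ℂ} (hθ : IsIrrCharacter N θ)
    [Fintype (inertia N θ)] {ψ : inertia N θ → ℂ} (hψ : IsIrrCharacter (inertia N θ) ψ)
    (h : classInner (fun n : N => ψ ⟨(n : G), le_inertia N (IsIrrCharacter.isClassFunction hθ) n.2⟩) θ ≠ 0) :
    IsIrrCharacter G (indFun (inertia N θ) ψ) ∧
      classInner (fun n : N => indFun (inertia N θ) ψ n) θ =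
        classInner (fun n : N => ψ ⟨(n : G), le_inertia N (IsIrrCharacter.isClassFunction hθ) n.2⟩) θ ∧
      ∀ ψ' : inertia N θ → ℂ, IsIrrCharacter (inertia N θ) ψ' →
        classInner (fun n : N => ψ' ⟨(n : G), le_inertia N (IsIrrCharacter.isClassFunction hθ) n.2⟩) θ ≠ 0 →
        indFun (inertia N θ) ψ' = indFun (inertia N θ) ψ → ψ' = ψ := by
  classical
  have hNT : N ≤ (inertia N θ) := le_inertia N (IsIrrCharacter.isClassFunction hθ)
  have hind := IsCharacter.indFun (inertia N θ) (IsIrrCharacter.isCharacter hψ)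
  obtain ⟨χ, hχ⟩ := exists_constituent hind (by
    rw [indFun_one_apply]
    exact mul_ne_zero (Nat.cast_ne_zero.mpr Subgroup.index_ne_zero_of_finite)
      (IsIrrCharacter.apply_one_ne_zero hψ))
  rw [frobenius_reciprocity (inertia N θ) _ (IsIrrCharacter.isClassFunction χ.2)] at hχ
  have hχψ : classInner (fun x : (inertia N θ) => (χ : G → ℂ) x) ψ ≠ 0 := fun h0 => hχ (by
    rw [← classInner_conj_symm, h0, map_zero])
  have hχc := IsIrrCharacter.isCharacter χ.2
  -- `χ` lies over `θ`
  have hover : classInner (fun n : N => (χ : G → ℂ) n) θ ≠ 0 := by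
    haveI := Fintype.ofFinite (IrrCharacter (inertia N θ))
    obtain ⟨c, hc, hin⟩ := IsCharacter.decompose (IsCharacter.restrict hχc (inertia N θ))
    have hrw : (fun n : N => (χ : G → ℂ) n) =
        ∑ φ : IrrCharacter (inertia N θ), (c φ : ℂ) • fun n : N => (φ : (inertia N θ) → ℂ) ⟨(n : G), hNT n.2⟩ := by
      funext n
      have := congrFun hc ⟨(n : G), hNT n.2⟩
      simpa [Finset.sum_apply] using this
    choose f hf using fun φ : IrrCharacter (inertia N θ) => IsCharacter.classInner_nat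
      (IsCharacter.comp_hom (IsIrrCharacter.isCharacter φ.2) (Subgroup.inclusion hNT))
      (IsIrrCharacter.isCharacter hθ)
    intro h0
    rw [hrw, classInner_sum_left] at h0
    simp only [classInner_smul_left] at h0
    have h1 : ((∑ φ, c φ * f φ : ℕ) : ℂ) = 0 := by
      push_cast
      rw [← h0]
      exact Finset.sum_congr rfl fun φ _ => by rw [← hf φ]; rfl
    have h2 := Finset.sum_eq_zero_iff.mp (Nat.cast_eq_zero.mp h1) ⟨ψ, hψ⟩ (Finset.mem_univ _)
    rcases mul_eq_zero.mp h2 with h3 | h3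
    · exact hχψ (by
        have := hin ⟨ψ, hψ⟩
        rw [h3, Nat.cast_zero] at this
        exact this)
    · exact h (by
        have := hf ⟨ψ, hψ⟩
        rw [h3, Nat.cast_zero] at this
        exact this)
  obtain ⟨ψ₀, -, hind₀, hmult, huniq⟩ := exists_correspondent N hθ χ.2 hover
  have hψ0 : ψ = ψ₀ := huniq ψ hψ hχψ h
  rw [← hψ0] at hind₀ hmult
  refine ⟨hind₀ ▸ χ.2, ?_, fun ψ' hψ' h' heq => ?_⟩
  · rw [hind₀]; exact hmult.symm
  · have h1 : classInner (fun x : (inertia N θ) => (χ : G → ℂ) x) ψ' ≠ 0 := by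
      have h2 : classInner (indFun (inertia N θ) ψ') (χ : G → ℂ) = 1 := by
        rw [heq, hind₀]; exact classInner_irr_self χ.2
      rw [frobenius_reciprocity (inertia N θ) _ (IsIrrCharacter.isClassFunction χ.2)] at h2
      intro h0
      rw [← classInner_conj_symm, h0, map_zero] at h2
      exact zero_ne_one h2
    exact (huniq ψ' hψ' h1 h').trans hψ0.symm

section gallagher

/-- `β` is trivial on `N`. -/
def TrivOn (β : G → ℂ) : Prop := ∀ n : N, β (n : G) = β 1

theorem trivOn_of_constituent_one [Fintype N] {β : G → ℂ} (hβ : IsIrrCharacter G β)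
    (h : classInner (fun n : N => β n) 1 ≠ 0) : TrivOn N β := by
  intro n
  have hinv : ∀ x : G, CliffordChar.conjFun N x (1 : N → ℂ) = 1 := fun x => rfl
  have h1 := restrict_invariant N hβ isIrrCharacter_one h hinv
  have hn := congrFun h1 n
  have h0 := congrFun h1 1
  simp only [Pi.smul_apply, Pi.one_apply, OneMemClass.coe_one] at hn h0
  rw [hn, h0]

omit hN in
theorem classInner_trivOn [Fintype N] {β : G → ℂ} (h : TrivOn N β) :
    classInner (fun n : N => β n) 1 = β 1 := by
  simp only [classInner, Pi.one_apply, map_one, mul_one, h _, Finset.sum_const, Finset.card_univ,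
    nsmul_eq_mul, ← Nat.card_eq_fintype_card]
  rw [← mul_assoc, inv_mul_cancel₀ (Nat.cast_ne_zero.mpr Nat.card_pos.ne'), one_mul]

open Classical in
theorem indFun_one_eq_sum [Fintype (IrrCharacter G)] :
    indFun N (1 : N → ℂ) = ∑ β ∈ Finset.univ.filter (fun β : IrrCharacter G => TrivOn N (β : G → ℂ)),
      (β : G → ℂ) 1 • (β : G → ℂ) := by
  haveI := Fintype.ofFinite N
  rw [Finset.sum_filter]
  refine (classFunction_eq_sum (indFun_isClassFunction N _)).trans (Finset.sum_congr rfl fun β _ => ?_)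
  rw [frobenius_reciprocity N _ (IsIrrCharacter.isClassFunction β.2), ← classInner_conj_symm]
  split_ifs with hb
  · rw [classInner_trivOn N hb, IsCharacter.conj_apply_one (IsIrrCharacter.isCharacter β.2)]
  · by_cases h0 : classInner (fun n : N => (β : G → ℂ) n) 1 = 0
    · rw [h0, map_zero, zero_smul]
    · exact absurd (trivOn_of_constituent_one N β.2 h0) hb

variable {χ : G → ℂ} (hχ : IsIrrCharacter G χ) (hres : IsIrrCharacter N (fun n : N => χ n))
include hχ hres

open Classical in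
theorem gallagher_ind [Fintype (IrrCharacter G)] :
    indFun N (fun n : N => χ n) =
      ∑ β ∈ Finset.univ.filter (fun β : IrrCharacter G => TrivOn N (β : G → ℂ)),
        (β : G → ℂ) 1 • (χ * (β : G → ℂ)) := by
  have h := indFun_mul N (1 : N → ℂ) (IsIrrCharacter.isClassFunction hχ)
  rw [one_mul, indFun_one_eq_sum N, Finset.sum_mul] at h
  rw [← h]
  refine Finset.sum_congr rfl fun β _ => ?_
  rw [smul_mul_assoc, mul_comm χ]

open Classical in
theorem gallagher_inner [Fintype (IrrCharacter G)] :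
    ∀ β₁ β₂ : IrrCharacter G, TrivOn N (β₁ : G → ℂ) → TrivOn N (β₂ : G → ℂ) →
      classInner (χ * (β₁ : G → ℂ)) (χ * (β₂ : G → ℂ)) = if β₁ = β₂ then 1 else 0 := by
  haveI := Fintype.ofFinite N
  have hχc := IsIrrCharacter.isCharacter hχ
  have hinv : inertia N (fun n : N => χ n) = ⊤ :=
    top_le_iff.mp fun g _ => conjFun_restrict N (IsIrrCharacter.isClassFunction hχ) g
  set S := Finset.univ.filter (fun β : IrrCharacter G => TrivOn N (β : G → ℂ)) with hS
  choose d hd0 hd using fun β : IrrCharacter G => IsIrrCharacter.exists_degree β.2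
  choose a ha using fun β₁ β₂ : IrrCharacter G => IsCharacter.classInner_nat
    (IsCharacter.mul hχc (IsIrrCharacter.isCharacter β₁.2))
    (IsCharacter.mul hχc (IsIrrCharacter.isCharacter β₂.2))
  -- the norm of the induced function
  have hnorm : classInner (indFun N (fun n : N => χ n)) (indFun N (fun n : N => χ n)) =
      (N.index : ℂ) := by
    rw [frobenius_reciprocity' N _ (indFun_isClassFunction N _),
      show (fun n : N => indFun N (fun n : N => χ n) (n : G)) =
        (Nat.card N : ℂ)⁻¹ • orbitSum N (fun n : N => χ n) from funext fun n => indFun_coe N _ n,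
      classInner_smul_left, classInner_orbitSum_self N hres, hinv, Nat.card_congr Subgroup.topEquiv.toEquiv,
      card_eq_index_mul N]
    have : (Nat.card N : ℂ) ≠ 0 := Nat.cast_ne_zero.mpr Nat.card_pos.ne'
    field_simp
  have hexp : classInner (indFun N (fun n : N => χ n)) (indFun N (fun n : N => χ n)) =
      ((∑ β₁ ∈ S, ∑ β₂ ∈ S, d β₁ * d β₂ * a β₁ β₂ : ℕ) : ℂ) := by
    rw [gallagher_ind N hχ hres, classInner_sum_left]
    push_cast
    refine Finset.sum_congr rfl fun β₁ _ => ?_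
    rw [classInner_smul_left, classInner_sum_right, Finset.mul_sum]
    refine Finset.sum_congr rfl fun β₂ _ => ?_
    rw [classInner_smul_right, hd, hd, Complex.conj_natCast, ha]
    ring
  have hidx : ∑ β ∈ S, d β * d β = N.index := by
    have h := congrFun (indFun_one_eq_sum N) 1
    rw [indFun_one_apply, Pi.one_apply, mul_one] at h
    simp only [Finset.sum_apply, Pi.smul_apply, smul_eq_mul, hd] at h
    exact_mod_cast h.symm
  have htot : ∑ β₁ ∈ S, ∑ β₂ ∈ S, d β₁ * d β₂ * a β₁ β₂ = ∑ β ∈ S, d β * d β := by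
    rw [hidx]; exact_mod_cast hexp.symm.trans hnorm
  have hself : ∀ β, 1 ≤ a β β := by
    intro β
    by_contra h0
    have h1 : classInner (χ * (β : G → ℂ)) (χ * (β : G → ℂ)) = 0 := by
      rw [ha, show a β β = 0 by omega, Nat.cast_zero]
    have h2 := congrFun (classInner_self_eq_zero.mp h1) 1
    exact mul_ne_zero (IsIrrCharacter.apply_one_ne_zero hχ) (IsIrrCharacter.apply_one_ne_zero β.2) h2
  have hle : ∀ β₁ ∈ S, d β₁ * d β₁ ≤ ∑ β₂ ∈ S, d β₁ * d β₂ * a β₁ β₂ := fun β₁ h1 =>
    le_trans (Nat.le_mul_of_pos_right _ (hself β₁))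
      (Finset.single_le_sum (f := fun β₂ => d β₁ * d β₂ * a β₁ β₂) (fun _ _ => Nat.zero_le _) h1)
  have heq := (Finset.sum_eq_sum_iff_of_le hle).mp htot.symm
  intro β₁ β₂ h1 h2
  have hm1 : β₁ ∈ S := Finset.mem_filter.mpr ⟨Finset.mem_univ _, h1⟩
  have hm2 : β₂ ∈ S := Finset.mem_filter.mpr ⟨Finset.mem_univ _, h2⟩
  have he := heq β₁ hm1
  rw [ha, ← Finset.add_sum_erase _ _ hm1] at *
  have hp : 0 < d β₁ * d β₁ := Nat.mul_pos (hd0 _) (hd0 _)
  have h3 := Nat.le_mul_of_pos_right (d β₁ * d β₁) (hself β₁)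
  split_ifs with hb
  · subst hb
    have h4 : d β₁ * d β₁ * a β₁ β₁ = d β₁ * d β₁ * 1 := by omega
    rw [Nat.eq_of_mul_eq_mul_left hp h4, Nat.cast_one]
  · have h5 : ∑ β ∈ S.erase β₁, d β₁ * d β * a β₁ β = 0 := by omega
    have h6 := Finset.sum_eq_zero_iff.mp h5 β₂ (Finset.mem_erase.mpr ⟨Ne.symm hb, hm2⟩)
    rw [(mul_eq_zero.mp h6).resolve_left (Nat.mul_pos (hd0 _) (hd0 _)).ne', Nat.cast_zero]

theorem gallagher_irr {β : G → ℂ} (hβ : IsIrrCharacter G β) (ht : TrivOn N β) :
    IsIrrCharacter G (χ * β) := by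
  classical
  haveI := Fintype.ofFinite (IrrCharacter G)
  rw [isIrrCharacter_iff_norm_one (IsCharacter.mul (IsIrrCharacter.isCharacter hχ)
    (IsIrrCharacter.isCharacter hβ))]
  simpa using gallagher_inner N hχ hres ⟨β, hβ⟩ ⟨β, hβ⟩ ht ht

theorem gallagher_injective {β₁ β₂ : G → ℂ} (h₁ : IsIrrCharacter G β₁) (h₂ : IsIrrCharacter G β₂)
    (t₁ : TrivOn N β₁) (t₂ : TrivOn N β₂) (h : χ * β₁ = χ * β₂) : β₁ = β₂ := by
  classical
  haveI := Fintype.ofFinite (IrrCharacter G)
  by_contra hne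
  have ha := gallagher_inner N hχ hres ⟨β₁, h₁⟩ ⟨β₂, h₂⟩ t₁ t₂
  rw [if_neg (fun e => hne (congrArg Subtype.val e))] at ha
  have hb := classInner_irr_self (gallagher_irr N hχ hres h₂ t₂)
  change classInner (χ * β₁) (χ * β₂) = 0 at ha
  rw [h, hb] at ha
  exact one_ne_zero ha

theorem gallagher_exhaustive [Fintype N] {φ : G → ℂ} (hφ : IsIrrCharacter G φ)
    (h : classInner (fun n : N => φ n) (fun n : N => χ n) ≠ 0) :
    ∃ β : G → ℂ, IsIrrCharacter G β ∧ TrivOn N β ∧ φ = χ * β := by
  classical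
  haveI := Fintype.ofFinite (IrrCharacter G)
  by_contra hno
  push Not at hno
  refine h ?_
  rw [← frobenius_reciprocity' N _ (IsIrrCharacter.isClassFunction hφ), gallagher_ind N hχ hres,
    classInner_sum_right]
  refine Finset.sum_eq_zero fun β hβ => ?_
  have ht := (Finset.mem_filter.mp hβ).2
  rw [classInner_smul_right, classInner_irr_of_ne hφ (gallagher_irr N hχ hres β.2 ht)
    (hno β β.2 ht), mul_zero]

end gallagher

theorem multiplicity_sq_le_index [Fintype N] {χ : G → ℂ} (hχ : IsIrrCharacter G χ) :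
    (classInner (fun n : N => χ n) (fun n : N => χ n)).re ≤ (N.index : ℝ) := by
  classical
  rw [classInner_self_eq, Complex.ofReal_re]
  have hs : ∑ g : G, ‖χ g‖ ^ 2 = (Nat.card G : ℝ) := by
    have := classInner_irr_self hχ
    rw [classInner_self_eq, Complex.ofReal_eq_one,
      inv_mul_eq_iff_eq_mul₀ (Nat.cast_ne_zero.mpr Nat.card_pos.ne'), mul_one] at this
    exact this
  have hle : ∑ n : N, ‖χ n‖ ^ 2 ≤ (Nat.card G : ℝ) := by
    rw [← hs]
    refine le_of_eq_of_le (Finset.sum_map Finset.univ ⟨_, Subtype.val_injective (p := (· ∈ N))⟩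
      fun g => ‖χ g‖ ^ 2).symm ?_
    exact Finset.sum_le_sum_of_subset_of_nonneg (Finset.subset_univ _) fun _ _ _ => sq_nonneg _
  have hc : (0 : ℝ) < (Nat.card N : ℝ) := Nat.cast_pos.mpr Nat.card_pos
  rw [inv_mul_le_iff₀ hc, ← Nat.cast_mul, N.card_mul_index]
  exact hle

end Cfsg.Agent.CharApp
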