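/-
Invariant characters under coprime action.

* `conjEquiv`, `exists_linear_twist_of_abelian_quotient`
* `exists_fixed_abelian`: abelian quotient step
* `exists_invariant_above`: `G/N` solvable, an invariant `θ` has an invariant character above it
* `exists_invariant_below`: an invariant `χ` has an invariant constituent below
-/
import Cfsg.Agent.Lib.CharApp.Clifford
import Cfsg.Agent.Lib.Coprime.Basic
import Cfsg.Agent.Lib.Ito.Basic
import Cfsg.Agent.Lib.Char.Linear

set_option autoImplicit false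
set_option linter.style.haveILetI false

namespace Cfsg.Agent.CharApp

open Cfsg Cfsg.Agent.Char
open scoped commutatorElement

/-- Conjugation by a normalising element, as an automorphism of the subgroup. -/
def conjEquiv {Γ : Type*} [Group Γ] (H : Subgroup Γ) (x : Γ) (hx : ∀ h ∈ H, x * h * x⁻¹ ∈ H)
    (hx' : ∀ h ∈ H, x⁻¹ * h * x ∈ H) : H ≃* H where
  toFun h := ⟨x * h * x⁻¹, hx h h.2⟩
  invFun h := ⟨x⁻¹ * h * x, hx' h h.2⟩
  left_inv h := Subtype.ext (by simp [mul_assoc])
  right_inv h := Subtype.ext (by simp [mul_assoc])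
  map_mul' a b := Subtype.ext (by simp [mul_assoc])

@[simp] theorem conjEquiv_coe {Γ : Type*} [Group Γ] (H : Subgroup Γ) (x : Γ)
    (hx : ∀ h ∈ H, x * h * x⁻¹ ∈ H) (hx' : ∀ h ∈ H, x⁻¹ * h * x ∈ H) (h : H) :
    (conjEquiv H x hx hx' h : Γ) = x * h * x⁻¹ := rfl

section abelianQuotient

variable {G : Type*} [Group G]

theorem degree_one_of_trivOn [Finite G] (N : Subgroup G) (hab : ∀ x y : G, x * y * x⁻¹ * y⁻¹ ∈ N)
    {β : G → ℂ} (hβ : IsIrrCharacter G β) (ht : TrivOn N β) : β 1 = 1 := by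
  obtain ⟨n, ρ, hρ, rfl⟩ := hβ
  haveI := hρ
  haveI := nontrivial_of_isIrreducible ρ
  have hid : ∀ m : N, ρ (m : G) = LinearMap.id := fun m => by
    rw [← character_eq_finrank_iff, ht m, Representation.char_one]
  have hscal : ∀ z ∈ (⊤ : Subgroup G), ∃ c : ℂ, ρ z = c • (1 : Module.End ℂ (Fin n → ℂ)) := by
    intro z _
    obtain ⟨c, hc⟩ :=
      (Representation.IsIrreducible.algebraMap_intertwiningMap_bijective_of_isAlgClosed (ρ := ρ)).2
        ⟨ρ z, fun y => by
          have h := hid ⟨_, hab z y⟩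
          show ρ z * ρ y = ρ y * ρ z
          have e : ρ (z * y * z⁻¹ * y⁻¹) * (ρ y * ρ z) = ρ y * ρ z := by
            rw [h]; rfl
          rw [← map_mul, ← map_mul] at e
          rw [← map_mul, ← map_mul]
          refine Eq.trans ?_ e
          congr 1; group⟩
    refine ⟨c, ?_⟩
    have := congrArg Representation.IntertwiningMap.toLinearMap hc
    simp only [Algebra.algebraMap_eq_smul_one] at this
    exact this.symm
  have hd := Ito.finrank_dvd_index_of_scalar ρ ⊤ hscal
  rw [Subgroup.index_top, Nat.dvd_one] at hd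
  rw [Representation.char_one, hd, Nat.cast_one]

/-- Abelian quotient: the characters over `θ` differ by linear characters of the quotient. -/
theorem exists_linear_twist_of_abelian_quotient [Fintype G] (N : Subgroup G) [N.Normal] [Fintype N]
    (hab : ∀ x y : G, x * y * x⁻¹ * y⁻¹ ∈ N) {θ : N → ℂ} (hθ : IsIrrCharacter N θ) {χ φ : G → ℂ}
    (hχ : IsIrrCharacter G χ) (hφ : IsIrrCharacter G φ)
    (h1 : classInner (fun n : N => χ n) θ ≠ 0) (h2 : classInner (fun n : N => φ n) θ ≠ 0) :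
    ∃ l : G →* ℂ, (∀ n : N, l (n : G) = 1) ∧ φ = χ * (l : G → ℂ) := by
  classical
  haveI := Fintype.ofFinite (IrrCharacter G)
  by_contra hno
  push Not at hno
  -- `φ` is orthogonal to `(χ|N)^G = ∑ χ β`
  have hzero : classInner φ (indFun N (fun n : N => χ n)) = 0 := by
    have h := indFun_mul N (1 : N → ℂ) (IsIrrCharacter.isClassFunction hχ)
    rw [one_mul] at h
    rw [← h, indFun_one_eq_sum N, Finset.sum_mul, classInner_sum_right]
    refine Finset.sum_eq_zero fun β hβ => ?_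
    have ht := (Finset.mem_filter.mp hβ).2
    have hb1 := degree_one_of_trivOn N hab β.2 ht
    obtain ⟨l, hl⟩ := exists_hom_of_degree_one (IsIrrCharacter.isCharacter β.2) hb1
    have hln : ∀ n : N, l (n : G) = 1 := fun n => by rw [← hb1, ← ht n, ← hl]
    rw [smul_mul_assoc, classInner_smul_right, mul_comm (β : G → ℂ) χ, ← hl,
      classInner_irr_of_ne hφ (show IsIrrCharacter G (χ * (l : G → ℂ)) from
        IsIrrCharacter.mul_linear hχ l) (hno l hln), mul_zero]
  rw [frobenius_reciprocity' N _ (IsIrrCharacter.isClassFunction hφ)] at hzero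
  -- but the restrictions share the constituent `θ`
  haveI := Fintype.ofFinite (IrrCharacter N)
  obtain ⟨a, ha, hain⟩ := IsCharacter.decompose (IsCharacter.restrict (IsIrrCharacter.isCharacter hφ) N)
  choose b hb using fun ψ : IrrCharacter N => IsCharacter.classInner_nat
    (IsCharacter.restrict (IsIrrCharacter.isCharacter hχ) N) (IsIrrCharacter.isCharacter ψ.2)
  rw [classInner_eq_sum_mul ha] at hzero
  simp only [fun ψ : IrrCharacter N => classInner_comm_of_nat (hb ψ)] at hzero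
  have hz : ∑ ψ, a ψ * b ψ = 0 := by exact_mod_cast hzero
  rcases mul_eq_zero.mp (Finset.sum_eq_zero_iff.mp hz ⟨θ, hθ⟩ (Finset.mem_univ _)) with h | h
  · exact h2 (by
      have := hain ⟨θ, hθ⟩
      rw [h, Nat.cast_zero] at this
      exact this)
  · exact h1 (by
      have := hb ⟨θ, hθ⟩
      rw [h, Nat.cast_zero] at this
      exact this)

theorem exists_over [Fintype G] (N : Subgroup G) [Fintype N] {θ : N → ℂ} (hθ : IsIrrCharacter N θ) :
    ∃ χ : G → ℂ, IsIrrCharacter G χ ∧ classInner (fun n : N => χ n) θ ≠ 0 := by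
  obtain ⟨χ, hχ⟩ := exists_constituent (IsCharacter.indFun N (IsIrrCharacter.isCharacter hθ)) (by
    rw [indFun_one_apply]
    exact mul_ne_zero (Nat.cast_ne_zero.mpr Subgroup.index_ne_zero_of_finite)
      (IsIrrCharacter.apply_one_ne_zero hθ))
  refine ⟨χ, χ.2, fun h => hχ ?_⟩
  rw [frobenius_reciprocity N θ (IsIrrCharacter.isClassFunction χ.2), ← classInner_conj_symm, h,
    map_zero]

/-- Being a constituent passes down a chain. -/
theorem over_trans {K H : Type*} [Group K] [Fintype K] [Group H] [Fintype H] (i : H →* K)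
    {π : K → ℂ} (hπ : IsCharacter K π) {ψ : K → ℂ} (hψ : IsIrrCharacter K ψ) {θ : H → ℂ}
    (hθ : IsIrrCharacter H θ) (h1 : classInner π ψ ≠ 0)
    (h2 : classInner (fun h => ψ (i h)) θ ≠ 0) : classInner (fun h => π (i h)) θ ≠ 0 := by
  haveI := Fintype.ofFinite (IrrCharacter K)
  obtain ⟨c, hc, hin⟩ := IsCharacter.decompose hπ
  choose f hf using fun φ : IrrCharacter K => IsCharacter.classInner_nat
    (IsCharacter.comp_hom (IsIrrCharacter.isCharacter φ.2) i) (IsIrrCharacter.isCharacter hθ)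
  intro h0
  have hrw : (fun h => π (i h)) = ∑ φ : IrrCharacter K, (c φ : ℂ) • fun h => (φ : K → ℂ) (i h) := by
    funext h
    have := congrFun hc (i h)
    simpa [Finset.sum_apply] using this
  rw [hrw, classInner_sum_left] at h0
  simp only [classInner_smul_left, hf] at h0
  have hz : ∑ φ, c φ * f φ = 0 := by exact_mod_cast h0
  rcases mul_eq_zero.mp (Finset.sum_eq_zero_iff.mp hz ⟨ψ, hψ⟩ (Finset.mem_univ _)) with h | h
  · exact h1 (by
      have := hin ⟨ψ, hψ⟩
      rw [h, Nat.cast_zero] at this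
      exact this)
  · exact h2 (by
      have := hf ⟨ψ, hψ⟩
      rw [h, Nat.cast_zero] at this
      exact this)

theorem mul_pow_congr {a b χ : G → ℂ} (h : χ * a = χ * b) : ∀ m : ℕ, χ * a ^ m = χ * b ^ m := by
  intro m
  induction m with
  | zero => simp
  | succ m ih =>
    calc χ * a ^ (m + 1) = χ * a ^ m * a := by ring
      _ = χ * b ^ m * a := by rw [ih]
      _ = χ * a * b ^ m := by ring
      _ = χ * b * b ^ m := by rw [h]
      _ = χ * b ^ (m + 1) := by ring

theorem mul_prod_congr {ι : Type*} (χ : G → ℂ) (s : Finset ι) {f g : ι → G → ℂ}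
    (h : ∀ i ∈ s, χ * f i = χ * g i) : χ * ∏ i ∈ s, f i = χ * ∏ i ∈ s, g i := by
  classical
  induction s using Finset.induction_on with
  | empty => simp
  | insert a s ha ih =>
    rw [Finset.prod_insert ha, Finset.prod_insert ha]
    have h1 := h a (Finset.mem_insert_self a s)
    have h2 := ih fun i hi => h i (Finset.mem_insert_of_mem hi)
    calc χ * (f a * ∏ i ∈ s, f i) = χ * f a * ∏ i ∈ s, f i := by ring
      _ = χ * g a * ∏ i ∈ s, f i := by rw [h1]
      _ = g a * (χ * ∏ i ∈ s, f i) := by ring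
      _ = g a * (χ * ∏ i ∈ s, g i) := by rw [h2]
      _ = _ := by ring

/-- A group acting by automorphisms fixes a character above a fixed `θ`, abelian quotient. -/
theorem exists_fixed_abelian [Fintype G] (N : Subgroup G) [N.Normal] [Fintype N]
    (hab : ∀ x y : G, x * y * x⁻¹ * y⁻¹ ∈ N) {S : Type*} [Group S] [Fintype S] (σ : S →* MulAut G)
    (hcop : N.index.Coprime (Nat.card S)) (hN : ∀ s : S, ∀ n : N, σ s (n : G) ∈ N) {θ : N → ℂ}
    (hθ : IsIrrCharacter N θ) (hinv : ∀ (s : S) (n : N), θ ⟨σ s n, hN s n⟩ = θ n) :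
    ∃ χ : G → ℂ, IsIrrCharacter G χ ∧ classInner (fun n : N => χ n) θ ≠ 0 ∧
      ∀ (s : S) (g : G), χ (σ s g) = χ g := by
  classical
  obtain ⟨χ, hχ, hover⟩ := exists_over N hθ
  have hS : ∀ s : S, ∃ l : G →* ℂ, (∀ n : N, l (n : G) = 1) ∧ (fun g => χ (σ s g)) = χ * (l : G → ℂ) := by
    intro s
    refine exists_linear_twist_of_abelian_quotient N hab hθ hχ (IsIrrCharacter.comp_equiv hχ (σ s)) hover ?_
    let e : N ≃* N :=
      { toFun := fun n => ⟨σ s n, hN s n⟩
        invFun := fun n => ⟨(σ s).symm n, by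
          have := hN s⁻¹ n
          rwa [map_inv] at this⟩
        left_inv := fun n => Subtype.ext ((σ s).symm_apply_apply _)
        right_inv := fun n => Subtype.ext ((σ s).apply_symm_apply _)
        map_mul' := fun a b => Subtype.ext (map_mul (σ s) _ _) }
    have h := classInner_comp_equiv e (fun n : N => χ n) θ
    rw [show (fun n => θ (e n)) = θ from funext fun n => hinv s n] at h
    intro h0
    exact hover (h.symm.trans h0)
  choose l hl1 hl using hS
  have hlpow : ∀ (s : S) (g : G), l s g ^ N.index = 1 := fun s g => by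
    rw [← map_pow]
    exact hl1 s ⟨_, N.pow_index_mem g⟩
  -- the cocycle identity
  have hco : ∀ (s t : S) , χ * (fun g => l (t * s) g) = χ * fun g => l s g * l t (σ s g) := by
    intro s t
    funext g
    have h1 := congrFun (hl (t * s)) g
    have h2 := congrFun (hl t) (σ s g)
    have h3 := congrFun (hl s) g
    simp only [Pi.mul_apply, map_mul, MulAut.mul_apply] at h1 h2 h3 ⊢
    rw [← h1, h2, h3]; ring
  let C : G → ℂ := ∏ t : S, fun g => l t g
  obtain ⟨m, hm⟩ : ∃ m : ℕ, ∀ (s : S) (g : G), l s g ^ (Nat.card S * m) = l s g := by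
    rcases Nat.lt_or_ge 1 N.index with hi | hi
    · obtain ⟨m, -, hm⟩ := Nat.exists_mul_mod_eq_one_of_coprime hcop.symm hi
      exact ⟨m, fun s g => by rw [pow_eq_pow_mod _ (hlpow s g), hm, pow_one]⟩
    · have h0 : N.index ≠ 0 := Subgroup.index_ne_zero_of_finite
      refine ⟨0, fun s g => ?_⟩
      have := hlpow s g
      rw [show N.index = 1 by omega, pow_one] at this
      rw [mul_zero, pow_zero, this]
  have hfix : ∀ s : S, (fun g => (χ * C ^ m) (σ s g)) = χ * C ^ m := by
    intro s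
    have h1 : χ * C = χ * ((fun g => l s g ^ Nat.card S) * fun g => C (σ s g)) := by
      have := mul_prod_congr χ Finset.univ fun t (_ : t ∈ Finset.univ) => hco s t
      rw [Fintype.prod_equiv (Equiv.mulRight s) (fun t : S => fun g => l (t * s) g) (fun t => fun g => l t g)
        fun t => rfl] at this
      rw [show C = ∏ t : S, fun g => l t g from rfl, this]
      congr 1
      funext g
      simp [Finset.prod_apply, Finset.prod_mul_distrib, Finset.prod_const, C, Nat.card_eq_fintype_card]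
    have h2 := mul_pow_congr h1 m
    funext g
    have h3 := congrFun h2 g
    have h4 := congrFun (hl s) g
    simp only [Pi.mul_apply, Pi.pow_apply, mul_pow, ← pow_mul, hm] at h3 h4 ⊢
    rw [h4, h3]; ring
  let L : G →* ℂ :=
    { toFun := fun g => (C ^ m) g
      map_one' := by simp [C, Finset.prod_apply]
      map_mul' := fun a b => by simp [C, Finset.prod_apply, Finset.prod_mul_distrib, mul_pow] }
  refine ⟨χ * C ^ m, IsIrrCharacter.mul_linear hχ L, ?_, fun s g => congrFun (hfix s) g⟩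
  have e : (fun n : N => (χ * C ^ m) (n : G)) = fun n : N => χ n := by
    funext n
    simp [C, Finset.prod_apply, hl1]
  rw [e]
  exact hover

end abelianQuotient

section ambient

variable {Γ : Type*} [Group Γ] [Fintype Γ]

theorem conj_mem_of_forall {H : Subgroup Γ} {S : Subgroup Γ}
    (h : ∀ s ∈ S, ∀ x ∈ H, s * x * s⁻¹ ∈ H) {s : Γ} (hs : s ∈ S) :
    (∀ x ∈ H, s * x * s⁻¹ ∈ H) ∧ ∀ x ∈ H, s⁻¹ * x * s ∈ H :=
  ⟨h s hs, fun x hx => by simpa using h s⁻¹ (S.inv_mem hs) x hx⟩

/-- `G/N` solvable: an invariant character below lies under an invariant character. -/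
theorem exists_invariant_above (S N : Subgroup Γ) (hNS : ∀ s ∈ S, ∀ n ∈ N, s * n * s⁻¹ ∈ N) :
    ∀ (k : ℕ) (G : Subgroup Γ) [Fintype G] [Fintype N], N.relIndex G = k →
      (∀ s ∈ S, ∀ g ∈ G, s * g * s⁻¹ ∈ G) → ∀ (hNG : N ≤ G) [(N.subgroupOf G).Normal],
      (N.relIndex G).Coprime (Nat.card S) → Group.IsSolvable (G ⧸ N.subgroupOf G) →
      ∀ θ : IrrCharacter N,
      (∀ s ∈ S, ∀ g g' : N, (g' : Γ) = s * g * s⁻¹ → (θ : N → ℂ) g' = (θ : N → ℂ) g) →
      ∃ χ : IrrCharacter G, classInner (fun n : N => (χ : G → ℂ) ⟨n, hNG n.2⟩) (θ : N → ℂ) ≠ 0 ∧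
        (∀ s ∈ S, ∀ g g' : G, (g' : Γ) = s * g * s⁻¹ → (χ : G → ℂ) g' = (χ : G → ℂ) g) := by
  classical
  intro k
  induction k using Nat.strong_induction_on with
  | _ k ih =>
    intro G _ _ hk hnorm hNG _ hcop hsolv θ hinv
    by_cases h1 : N = G
    · subst h1
      refine ⟨θ, fun h => one_ne_zero (α := ℂ) ?_, hinv⟩
      rw [← classInner_irr_self θ.2]
      convert h
    -- `N₁ = N [G, G]`
    set N₁ : Subgroup Γ := N ⊔ ⁅G, G⁆ with hN₁
    have hGG : ⁅G, G⁆ ≤ G := Subgroup.commutator_le.mpr fun a ha b hb =>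
      G.mul_mem (G.mul_mem (G.mul_mem ha hb) (G.inv_mem ha)) (G.inv_mem hb)
    have hN1G : N₁ ≤ G := sup_le hNG hGG
    have hNN1 : N ≤ N₁ := le_sup_left
    have hcomm : ∀ x y : G, x * y * x⁻¹ * y⁻¹ ∈ N₁.subgroupOf G := fun x y =>
      Subgroup.mem_subgroupOf.mpr ((le_sup_right : ⁅G, G⁆ ≤ N₁) (Subgroup.commutator_mem_commutator x.2 y.2))
    haveI hn1 : (N₁.subgroupOf G).Normal := ⟨fun n hn g => by
      have h := (N₁.subgroupOf G).mul_mem (hcomm g n) hn
      simpa [mul_assoc] using h⟩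
    have hlt : N₁.relIndex G ≠ 1 := by
      intro he
      have hle : G ≤ N₁ := Subgroup.relIndex_eq_one.mp he
      -- the quotient would be perfect
      haveI : Nontrivial (G ⧸ N.subgroupOf G) := by
        rw [← Finite.one_lt_card_iff_nontrivial]
        have h0 : N.relIndex G ≠ 0 := Subgroup.index_ne_zero_of_finite (H := N.subgroupOf G)
        have h2 : N.relIndex G ≠ 1 := fun e => h1 (le_antisymm hNG (Subgroup.relIndex_eq_one.mp e))
        show 1 < N.relIndex G
        omega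
      haveI := hsolv
      have hcm := Group.IsSolvable.commutator_lt_top_of_nontrivial (G ⧸ N.subgroupOf G)
      refine hcm.ne (top_le_iff.mp fun q _ => ?_)
      obtain ⟨g, rfl⟩ := QuotientGroup.mk'_surjective (N.subgroupOf G) q
      have hsub : G ≤ (((commutator (G ⧸ N.subgroupOf G)).comap
          (QuotientGroup.mk' (N.subgroupOf G))).map G.subtype) := by
        refine hle.trans (sup_le (fun n hn => ⟨⟨n, hNG hn⟩, ?_, rfl⟩) (Subgroup.commutator_le.mpr ?_))
        · show QuotientGroup.mk' (N.subgroupOf G) ⟨n, hNG hn⟩ ∈ commutator (G ⧸ N.subgroupOf G)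
          have hz : QuotientGroup.mk' (N.subgroupOf G) ⟨n, hNG hn⟩ = 1 :=
            (QuotientGroup.eq_one_iff _).mpr (Subgroup.mem_subgroupOf.mpr hn)
          rw [hz]; exact one_mem _
        · intro a ha b hb
          refine ⟨⁅(⟨a, ha⟩ : G), ⟨b, hb⟩⁆, ?_, rfl⟩
          show QuotientGroup.mk' (N.subgroupOf G) _ ∈ commutator (G ⧸ N.subgroupOf G)
          rw [map_commutatorElement]
          exact Subgroup.commutator_mem_commutator (Subgroup.mem_top _) (Subgroup.mem_top _)
      obtain ⟨g', hg', he'⟩ := hsub g.2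
      obtain rfl : g' = g := Subtype.ext he'
      exact hg'
    have hmul := Subgroup.relIndex_mul_relIndex N N₁ G hNN1 hN1G
    have hpos : N.relIndex N₁ ≠ 0 := Subgroup.index_ne_zero_of_finite (H := N.subgroupOf N₁)
    have hpos' : N₁.relIndex G ≠ 0 := Subgroup.index_ne_zero_of_finite (H := N₁.subgroupOf G)
    have hsmall : N.relIndex N₁ < k := by
      rw [← hk, ← hmul]
      exact lt_mul_right (Nat.pos_of_ne_zero hpos) (by omega)
    have hnorm1 : ∀ s ∈ S, ∀ g ∈ N₁, s * g * s⁻¹ ∈ N₁ := by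
      intro s hs g hg
      have hle : N₁ ≤ N₁.comap (MulAut.conj s).toMonoidHom := by
        refine sup_le (fun n hn => ?_) (Subgroup.commutator_le.mpr fun a ha b hb => ?_)
        · exact hNN1 (hNS s hs n hn)
        · show MulAut.conj s ⁅a, b⁆ ∈ N₁
          rw [map_commutatorElement]
          exact (le_sup_right : ⁅G, G⁆ ≤ N₁) (Subgroup.commutator_mem_commutator (hnorm s hs a ha) (hnorm s hs b hb))
      exact hle hg
    haveI : (N.subgroupOf N₁).Normal := ⟨fun n hn g => by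
      have := (inferInstance : (N.subgroupOf G).Normal).conj_mem ⟨n, hN1G n.2⟩ hn ⟨g, hN1G g.2⟩
      exact this⟩
    haveI := hsolv
    have hsolv1 : Group.IsSolvable (N₁ ⧸ N.subgroupOf N₁) := by
      let f := QuotientGroup.map (N.subgroupOf N₁) (N.subgroupOf G) (Subgroup.inclusion hN1G)
        (fun n hn => hn)
      refine Group.isSolvable_of_isSolvable_injective (f := f) ?_
      rw [← MonoidHom.ker_eq_bot_iff, eq_bot_iff]
      intro q hq
      obtain ⟨n, rfl⟩ := QuotientGroup.mk'_surjective _ q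
      rw [MonoidHom.mem_ker] at hq
      exact (QuotientGroup.eq_one_iff n).mpr ((QuotientGroup.eq_one_iff (Subgroup.inclusion hN1G n)).mp hq)
    obtain ⟨θ₁, hθ₁, hinv1⟩ := ih _ hsmall N₁ rfl hnorm1 hNN1
      (hcop.coprime_dvd_left (hmul ▸ dvd_mul_right _ _)) hsolv1 θ hinv
    -- the abelian step
    let K := N₁.subgroupOf G
    haveI := Fintype.ofFinite K
    let e := Subgroup.subgroupOfEquivOfLe hN1G
    let σ : S →* MulAut G :=
      { toFun := fun s => conjEquiv G (s : Γ) (conj_mem_of_forall hnorm s.2).1 (conj_mem_of_forall hnorm s.2).2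
        map_one' := MulEquiv.ext fun g => Subtype.ext (show ((1 : Γ) * g * (1 : Γ)⁻¹) = g by simp)
        map_mul' := fun s t => MulEquiv.ext fun g => Subtype.ext (show ((s : Γ) * t) * g * ((s : Γ) * t)⁻¹ =
          (s : Γ) * ((t : Γ) * g * (t : Γ)⁻¹) * (s : Γ)⁻¹ by group) }
    have hσ : ∀ (s : S) (g : G), ((σ s g : G) : Γ) = (s : Γ) * g * (s : Γ)⁻¹ := fun s g => rfl
    have hKσ : ∀ s : S, ∀ n : K, σ s (n : G) ∈ K := fun s n => hnorm1 s s.2 _ n.2
    obtain ⟨χ, hχ, hover, hfix⟩ := exists_fixed_abelian K hcomm σ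
      (hcop.coprime_dvd_left (show N₁.relIndex G ∣ N.relIndex G from hmul ▸ dvd_mul_left _ _)) hKσ
      (θ := fun x => (θ₁ : N₁ → ℂ) (e x)) (IsIrrCharacter.comp_equiv θ₁.2 e)
      (fun s n => hinv1 s s.2 (e n) (e ⟨σ s n, hKσ s n⟩) rfl)
    refine ⟨⟨χ, hχ⟩, ?_, fun s hs g g' hgg' => ?_⟩
    · have h1' : classInner (fun x : N₁ => χ ⟨(x : Γ), hN1G x.2⟩) (θ₁ : N₁ → ℂ) ≠ 0 := by
        rw [← classInner_comp_equiv e]
        exact hover
      exact over_trans (Subgroup.inclusion hNN1)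
        (IsCharacter.comp_hom (IsIrrCharacter.isCharacter hχ) (Subgroup.inclusion hN1G)) θ₁.2 θ.2 h1' hθ₁
    · have : g' = σ ⟨s, hs⟩ g := Subtype.ext hgg'
      rw [this]
      exact hfix ⟨s, hs⟩ g

/-- An invariant character has an invariant constituent on a normal subgroup. -/
theorem exists_invariant_below (G S N : Subgroup Γ) [Fintype G] [Fintype N]
    (hnorm : ∀ s ∈ S, ∀ g ∈ G, s * g * s⁻¹ ∈ G) (hNG : N ≤ G) [hn : (N.subgroupOf G).Normal]
    (hNS : ∀ s ∈ S, ∀ n ∈ N, s * n * s⁻¹ ∈ N) (hcop : (N.relIndex G).Coprime (Nat.card S))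
    (hsolv : Group.IsSolvable S ∨ Group.IsSolvable (G ⧸ N.subgroupOf G)) (χ : IrrCharacter G)
    (hinv : ∀ s ∈ S, ∀ g g' : G, (g' : Γ) = s * g * s⁻¹ → (χ : G → ℂ) g' = (χ : G → ℂ) g) :
    ∃ θ : IrrCharacter N, classInner (fun n : N => (χ : G → ℂ) ⟨n, hNG n.2⟩) (θ : N → ℂ) ≠ 0 ∧
      (∀ s ∈ S, ∀ g g' : N, (g' : Γ) = s * g * s⁻¹ → (θ : N → ℂ) g' = (θ : N → ℂ) g) := by
  classical
  let res : N → ℂ := fun n => (χ : G → ℂ) ⟨n, hNG n.2⟩
  have hresc : IsCharacter N res :=
    IsCharacter.comp_hom (IsIrrCharacter.isCharacter χ.2) (Subgroup.inclusion hNG)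
  obtain ⟨θ, hθ⟩ := exists_constituent hresc (fun h => IsIrrCharacter.apply_one_ne_zero χ.2 h)
  set M : Subgroup Γ := Subgroup.normalizer (N : Set Γ) with hM
  have hGM : G ≤ M := fun g hg => Coprime.mem_normalizer_of_forall fun n hn' => by
    exact hn.conj_mem ⟨n, hNG hn'⟩ hn' ⟨g, hg⟩
  have hSM : S ≤ M := fun s hs => Coprime.mem_normalizer_of_forall (hNS s hs)
  have hMN : ∀ m : M, (∀ x ∈ N, (m : Γ) * x * (m : Γ)⁻¹ ∈ N) ∧ ∀ x ∈ N, (m : Γ)⁻¹ * x * m ∈ N :=
    fun m => ⟨fun x hx => (Subgroup.mem_normalizer_iff.mp m.2 x).mp hx,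
      fun x hx => by simpa using (Subgroup.mem_normalizer_iff.mp (M.inv_mem m.2) x).mp hx⟩
  let α : M → N ≃* N := fun m => conjEquiv N (m : Γ) (hMN m).1 (hMN m).2
  have hαmul : ∀ a b : M, ∀ n : N, α (a * b) n = α a (α b n) := fun a b n =>
    Subtype.ext (show ((a : Γ) * b) * n * ((a : Γ) * b)⁻¹ =
      (a : Γ) * ((b : Γ) * n * (b : Γ)⁻¹) * (a : Γ)⁻¹ by group)
  have hα1 : ∀ n : N, α 1 n = n := fun n => Subtype.ext (show (1 : Γ) * n * (1 : Γ)⁻¹ = n by simp)
  let T : Subgroup M :=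
    { carrier := {m | ∀ n : N, (θ : N → ℂ) (α m n) = (θ : N → ℂ) n}
      one_mem' := fun n => by rw [hα1]
      mul_mem' := fun {a b} (ha : ∀ n : N, (θ : N → ℂ) (α a n) = (θ : N → ℂ) n)
          (hb : ∀ n : N, (θ : N → ℂ) (α b n) = (θ : N → ℂ) n) n => by rw [hαmul, ha, hb]
      inv_mem' := fun {a} (ha : ∀ n : N, (θ : N → ℂ) (α a n) = (θ : N → ℂ) n) n => by
        rw [← ha (α a⁻¹ n), ← hαmul, mul_inv_cancel, hα1] }
  -- every element of `S` is corrected into `T` by an element of `G`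
  have hT : ∀ s, (hs : s ∈ S) → ∃ g, ∃ hg : g ∈ G, (⟨g * s, M.mul_mem (hGM hg) (hSM hs)⟩ : M) ∈ T := by
    intro s hs
    have hres : (fun n => res (α ⟨s, hSM hs⟩ n)) = res := funext fun n =>
      hinv s hs ⟨n, hNG n.2⟩ ⟨_, hNG (α ⟨s, hSM hs⟩ n).2⟩ rfl
    have h2 : classInner res (fun n => (θ : N → ℂ) (α ⟨s, hSM hs⟩ n)) ≠ 0 := by
      have h := classInner_comp_equiv (α ⟨s, hSM hs⟩) res (θ : N → ℂ)
      rw [hres] at h
      rw [h]; exact hθ
    let K := N.subgroupOf G
    haveI := Fintype.ofFinite K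
    let e := Subgroup.subgroupOfEquivOfLe hNG
    have a1 : classInner (fun x : K => (χ : G → ℂ) x) (fun x => (θ : N → ℂ) (e x)) ≠ 0 := by
      rw [show (fun x : K => (χ : G → ℂ) x) = fun x => res (e x) from rfl, classInner_comp_equiv e]
      exact hθ
    have a2 : classInner (fun x : K => (χ : G → ℂ) x)
        (fun x => (θ : N → ℂ) (α ⟨s, hSM hs⟩ (e x))) ≠ 0 := by
      rw [show (fun x : K => (χ : G → ℂ) x) = fun x => res (e x) from rfl,
        classInner_comp_equiv e res (fun n => (θ : N → ℂ) (α ⟨s, hSM hs⟩ n))]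
      exact h2
    obtain ⟨g, hg⟩ := CliffordChar.constituents_conjugate K χ.2
      (IsIrrCharacter.comp_equiv (IsIrrCharacter.comp_equiv θ.2 (α ⟨s, hSM hs⟩)) e)
      (IsIrrCharacter.comp_equiv θ.2 e) a2 a1
    refine ⟨((s : Γ) * (g : Γ)⁻¹ * (s : Γ)⁻¹), hnorm s hs _ (G.inv_mem g.2), fun n => ?_⟩
    have h := congrFun hg (e.symm n)
    rw [CliffordChar.conjFun_apply] at h
    simp only [MulEquiv.apply_symm_apply] at h
    rw [← h]
    refine congrArg _ (Subtype.ext ?_)
    show s * (g : Γ)⁻¹ * s⁻¹ * s * n * (s * (g : Γ)⁻¹ * s⁻¹ * s)⁻¹ = s * ((g : Γ)⁻¹ * n * g) * s⁻¹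
    group
  -- Glauberman's lemma in `M / N`
  haveI hNM : (N.subgroupOf M).Normal := Subgroup.normal_in_normalizer
  let π := QuotientGroup.mk' (N.subgroupOf M)
  have hNT : N.subgroupOf M ≤ T := fun m hm n =>
    IsIrrCharacter.isClassFunction θ.2 n ⟨m, hm⟩
  let A := (S.subgroupOf M).map π
  let K' := (G.subgroupOf M).map π
  have hAK : A ≤ Subgroup.normalizer (K' : Set (M ⧸ N.subgroupOf M)) := by
    rintro _ ⟨s, hs, rfl⟩
    refine Coprime.mem_normalizer_of_forall ?_
    rintro _ ⟨g, hg, rfl⟩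
    exact ⟨s * g * s⁻¹, hnorm s hs g hg, by simp⟩
  have hK'card : Nat.card K' = N.relIndex G := by
    have h1 : Nat.card K' = (N.subgroupOf M).relIndex (G.subgroupOf M) := by
      rw [show K' = (π.domRestrict (G.subgroupOf M)).range from (MonoidHom.domRestrict_range _ _).symm,
        ← Subgroup.index_ker]
      simp [Subgroup.relIndex, MonoidHom.ker_domRestrict, π]
    rw [h1, Subgroup.relIndex_subgroupOf hGM]
  have hAcard : Nat.card A ∣ Nat.card S := by
    rw [show Nat.card S = Nat.card (S.subgroupOf M) from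
      (Nat.card_congr (Subgroup.subgroupOfEquivOfLe hSM).toEquiv).symm]
    exact Subgroup.card_map_dvd _ π
  have hcop' : (Nat.card A).Coprime (Nat.card K') := by
    rw [hK'card]; exact (hcop.symm).coprime_dvd_left hAcard
  have hsolv' : Group.IsSolvable A ∨ Group.IsSolvable K' := by
    rcases hsolv with h | h
    · refine Or.inl ?_
      haveI := h
      haveI : Group.IsSolvable (S.subgroupOf M) :=
        Group.isSolvable_of_isSolvable_injective (f := (Subgroup.subgroupOfEquivOfLe hSM).toMonoidHom)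
          (Subgroup.subgroupOfEquivOfLe hSM).injective
      exact Group.isSolvable_of_surjective (f := π.subgroupMap (S.subgroupOf M))
        (π.subgroupMap_surjective _)
    · refine Or.inr ?_
      haveI := h
      let f : G ⧸ N.subgroupOf G →* M ⧸ N.subgroupOf M :=
        QuotientGroup.map (N.subgroupOf G) (N.subgroupOf M) (Subgroup.inclusion hGM) (fun n hn => hn)
      have hK : K' = f.range := by
        ext q
        constructor
        · rintro ⟨g, hg, rfl⟩
          exact ⟨QuotientGroup.mk' _ ⟨g, hg⟩, rfl⟩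
        · rintro ⟨q', rfl⟩
          obtain ⟨g, rfl⟩ := QuotientGroup.mk'_surjective _ q'
          exact ⟨Subgroup.inclusion hGM g, g.2, rfl⟩
      rw [hK]
      exact Group.isSolvable_of_surjective (f := f.rangeRestrict) f.rangeRestrict_surjective
  obtain ⟨q, hq, hle⟩ := Coprime.exists_conj_le_of_forall hAK hcop' hsolv' (T.map π) (by
    rintro _ ⟨s, hs, rfl⟩
    obtain ⟨g, hg, hgT⟩ := hT s hs
    exact ⟨π ⟨g, hGM hg⟩, ⟨_, hg, rfl⟩, _, hgT, by rw [← map_mul]; rfl⟩)
  obtain ⟨n₀, hn₀, rfl⟩ := hq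
  refine ⟨⟨fun n => (θ : N → ℂ) (α n₀ n), IsIrrCharacter.comp_equiv θ.2 (α n₀)⟩, ?_, ?_⟩
  · have hres : (fun n => res (α n₀ n)) = res := funext fun n =>
      IsIrrCharacter.isClassFunction χ.2 ⟨n, hNG n.2⟩ ⟨n₀, hn₀⟩
    have h := classInner_comp_equiv (α n₀) res (θ : N → ℂ)
    rw [hres] at h
    show classInner res _ ≠ 0
    rw [h]; exact hθ
  · intro s hs x x' hxx'
    have hmem : n₀ * ⟨s, hSM hs⟩ * n₀⁻¹ ∈ T := by
      have hmem' : π n₀ * π ⟨s, hSM hs⟩ * (π n₀)⁻¹ ∈ T.map π :=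
        hle (Coprime.conj_mem_conj.mpr ⟨_, hs, rfl⟩)
      obtain ⟨t, ht, hte⟩ := hmem'
      rw [← map_inv, ← map_mul, ← map_mul] at hte
      have h2 : t⁻¹ * (n₀ * ⟨s, hSM hs⟩ * n₀⁻¹) ∈ N.subgroupOf M :=
        (QuotientGroup.eq).mp hte
      simpa using T.mul_mem ht (hNT h2)
    show (θ : N → ℂ) (α n₀ x') = (θ : N → ℂ) (α n₀ x)
    have hx' : x' = α ⟨s, hSM hs⟩ x := Subtype.ext hxx'
    rw [hx', ← hαmul]
    have h := hmem (α n₀ x)
    rw [← hαmul] at h
    rwa [inv_mul_cancel_right] at h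

end ambient

end Cfsg.Agent.CharApp
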