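/-
Degrees of irreducible characters and group structure.

Main results: `apply_one`, `apply_commutator_of_linear`, `commutator_le_of_forall`,
`hasNormalPComplement_of_dvd` (Thompson), `exists_normal_pComplement`, `degree_over`,
`degree_dvd_of_over`, `restrict_inner_self`.
-/
import Cfsg.Agent.Lib.CharApp.Clifford
import Cfsg.Agent.Lib.CharApp.CoprimeFixed
import Cfsg.Agent.Lib.CentralChar.Fixed
import Cfsg.Agent.Lib.Transfer.Tate
import Cfsg.Agent.Lib.Char.Linear
import Cfsg.Agent.Lib.Char.Integral
import Cfsg.Agent.Lib.TwoClassChar.Basic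

set_option autoImplicit false
set_option linter.style.haveILetI false

namespace Cfsg.Agent.CharApp.DegreeSets

open Cfsg Cfsg.Agent.Char
open scoped commutatorElement

variable {G : Type*} [Group G] [Finite G]

theorem apply_one {χ : G → ℂ} (h : IsIrrCharacter G χ) : χ 1 = (charDegree χ : ℂ) :=
  TwoClassChar.deg_eq h

/-- A linear irreducible character takes the value one on the derived subgroup. -/
theorem apply_commutator_of_linear {χ : G → ℂ} (hχ : IsIrrCharacter G χ) (h : charDegree χ = 1)
    {x : G} (hx : x ∈ commutator G) : χ x = χ 1 := by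
  obtain ⟨l, rfl⟩ := exists_hom_of_degree_one (IsIrrCharacter.isCharacter hχ)
    (by rw [apply_one hχ, h, Nat.cast_one])
  have := Abelianization.commutator_subset_ker l.toHomUnits hx
  rw [MonoidHom.mem_ker] at this
  rw [map_one, ← MonoidHom.coe_toHomUnits, this, Units.val_one]

/-- **Thompson's theorem**: if every nonlinear degree is divisible by `p` there is a normal
`p`-complement. -/
theorem hasNormalPComplement_of_dvd (p : ℕ) [Fact p.Prime]
    (hdeg : ∀ χ : IrrCharacter G, charDegree (χ : G → ℂ) ≠ 1 → p ∣ charDegree (χ : G → ℂ)) :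
    HasNormalPComplement p G := by
  refine Transfer.hasNormalPComplement_of_commutator_inf_le (default : Sylow p G) fun x hx => ?_
  refine CentralChar.mem_commutator_of_ker _ (Sylow.not_dvd_index _) hx.2 fun χ hχ => ?_
  exact apply_commutator_of_linear χ.2 (by_contra fun h => hχ (hdeg χ h)) hx.1

theorem exists_normal_pComplement (p : ℕ) [Fact p.Prime]
    (hdeg : ∀ χ : IrrCharacter G, charDegree (χ : G → ℂ) ≠ 1 → p ∣ charDegree (χ : G → ℂ)) :
    ∃ N : Subgroup G, N.Normal ∧ (Nat.card N).Coprime p ∧ ∃ k : ℕ, N.index = p ^ k := by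
  obtain ⟨P, N, hN, hc⟩ := hasNormalPComplement_of_dvd p hdeg
  obtain ⟨k, hk⟩ := P.2.exists_card_eq
  refine ⟨N, hN, ?_, k, by rw [hc.symm.index_eq_card, hk]⟩
  rw [Nat.coprime_comm, (Fact.out : p.Prime).coprime_iff_not_dvd, ← hc.index_eq_card]
  exact P.not_dvd_index

/-- Degree of an irreducible character over an irreducible character of a normal subgroup. -/
theorem degree_over (N : Subgroup G) [N.Normal] [Fintype N] {χ : G → ℂ} (hχ : IsIrrCharacter G χ)
    {θ : N → ℂ} (hθ : IsIrrCharacter N θ) (h : classInner (fun n : N => χ n) θ ≠ 0) :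
    ∃ e : ℕ, 0 < e ∧ classInner (fun n : N => χ n) θ = e ∧
      charDegree χ = e * (inertia N θ).index * charDegree θ ∧
      classInner (fun n : N => χ n) (fun n : N => χ n) = (e : ℂ) ^ 2 * (inertia N θ).index := by
  classical
  haveI := Fintype.ofFinite G
  haveI := Fintype.ofFinite (IrrCharacter N)
  have hc := IsCharacter.restrict (IsIrrCharacter.isCharacter hχ) N
  obtain ⟨m, -, hm⟩ := IsCharacter.decompose hc
  have he : classInner (fun n : N => χ n) θ = m ⟨θ, hθ⟩ := hm ⟨θ, hθ⟩
  set e := m ⟨θ, hθ⟩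
  refine ⟨e, Nat.pos_of_ne_zero fun h0 => h (by rw [he, h0, Nat.cast_zero]), he, ?_, ?_⟩
  · have := restrict_degree N hχ hθ h
    rw [apply_one hχ, apply_one hθ, he] at this
    exact_mod_cast this
  · have heq := CliffordChar.restrict_eq N hχ hθ h
    rw [classInner_orbitSum_self N hθ, he] at heq
    have hsum : classInner (CliffordChar.orbitSum N θ) (fun n : N => χ n) =
        (Nat.card G : ℂ) * e := by
      simp only [CliffordChar.orbitSum, classInner_sum_left]
      rw [Finset.sum_congr rfl fun x _ => classInner_comm_of_nat (m := e)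
        ((CliffordChar.classInner_restrict_conjFun N (IsIrrCharacter.isClassFunction hχ) x θ).trans he),
        Finset.sum_const, Finset.card_univ, nsmul_eq_mul, Nat.card_eq_fintype_card]
    conv_lhs => arg 1; rw [heq]
    rw [classInner_smul_left, hsum, card_eq_index_mul (inertia N θ)]
    have : (Nat.card (inertia N θ) : ℂ) ≠ 0 := Nat.cast_ne_zero.mpr Nat.card_pos.ne'
    field_simp

theorem degree_dvd_of_over (N : Subgroup G) [N.Normal] [Fintype N] {χ : G → ℂ}
    (hχ : IsIrrCharacter G χ) {θ : N → ℂ} (hθ : IsIrrCharacter N θ)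
    (h : classInner (fun n : N => χ n) θ ≠ 0) : charDegree θ ∣ charDegree χ := by
  obtain ⟨e, -, -, hd, -⟩ := degree_over N hχ hθ h
  exact hd ▸ dvd_mul_left _ _

/-- The degree of an irreducible character of a normal subgroup divides some degree of the group. -/
theorem exists_degree_dvd (N : Subgroup G) [N.Normal] {θ : N → ℂ} (hθ : IsIrrCharacter N θ) :
    ∃ χ : IrrCharacter G, charDegree θ ∣ charDegree (χ : G → ℂ) := by
  haveI := Fintype.ofFinite G
  haveI := Fintype.ofFinite N
  obtain ⟨χ, hχ, h⟩ := exists_over N hθ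
  exact ⟨⟨χ, hχ⟩, degree_dvd_of_over N hχ hθ h⟩

/-- A normal subgroup whose order is prime to every nonlinear degree has all characters linear. -/
theorem comm_of_coprime (N : Subgroup G) [N.Normal]
    (h : ∀ χ : IrrCharacter G, charDegree (χ : G → ℂ) ≠ 1 →
      (Nat.card N).Coprime (charDegree (χ : G → ℂ))) (a b : N) : a * b = b * a := by
  refine comm_of_forall_degree_one (fun θ => ?_) a b
  obtain ⟨χ, hd⟩ := exists_degree_dvd N θ.2
  rw [apply_one θ.2, Nat.cast_eq_one]
  by_cases h1 : charDegree (χ : G → ℂ) = 1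
  · exact Nat.dvd_one.1 (h1 ▸ hd)
  · obtain ⟨d, -, hd1, hd2⟩ := IsIrrCharacter.degree_dvd_card θ.2
    rw [apply_one θ.2, Nat.cast_inj] at hd1
    exact Nat.eq_one_of_dvd_coprimes (h χ h1) (hd1 ▸ hd2) hd

end Cfsg.Agent.CharApp.DegreeSets
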