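/-
Brauer's permutation lemma and real characters.
* `fixed_count`: if precomposition with `f` preserves `Irr G` and `f` respects conjugacy, then
  the number of fixed irreducible characters equals the number of fixed classes
* `card_fixed_automorphism`, `card_real_irr`, `real_class_of_odd`, `real_irr_of_odd`
* `odd_degree_sq`, `card_modEq_sixteen`
-/
import Cfsg.Agent.Lib.Char.Orth

set_option autoImplicit false

namespace Cfsg.Agent.CharApp

open Cfsg
open scoped ComplexConjugate

variable {G : Type*} [Group G] [Finite G]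

theorem fixed_count (f : G → G) (hf : ∀ χ : IrrCharacter G, IsIrrCharacter G ((χ : G → ℂ) ∘ f))
    (hconj : ∀ g h : G, IsConj g h → IsConj (f g) (f h)) :
    Nat.card {χ : IrrCharacter G // (χ : G → ℂ) ∘ f = (χ : G → ℂ)} =
      Nat.card {C : ConjClasses G // ∀ g : G, ConjClasses.mk g = C → IsConj (f g) g} := by
  classical
  haveI := Fintype.ofFinite G
  haveI := Fintype.ofFinite (IrrCharacter G)
  haveI := Fintype.ofFinite (ConjClasses G)
  let P : ConjClasses G → Prop := fun C => ∀ g : G, ConjClasses.mk g = C → IsConj (f g) g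
  apply Nat.cast_injective (R := ℂ)
  have h1 : (Nat.card {χ : IrrCharacter G // (χ : G → ℂ) ∘ f = (χ : G → ℂ)} : ℂ) =
      ∑ χ : IrrCharacter G, classInner ((χ : G → ℂ) ∘ f) (χ : G → ℂ) := by
    rw [Finset.sum_congr rfl fun χ _ => Char.classInner_irr (hf χ) χ.2]
    simp [Finset.sum_boole, Nat.card_eq_fintype_card, Fintype.card_subtype]
  rw [h1]
  simp only [classInner, ← Finset.mul_sum]
  rw [Finset.sum_comm]
  simp only [Function.comp_apply]
  rw [Finset.sum_congr rfl fun g _ => Char.column_orth (f g) g,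
    inv_mul_eq_iff_eq_mul₀ (Nat.cast_ne_zero.mpr Nat.card_pos.ne'),
    ← Finset.sum_fiberwise Finset.univ ConjClasses.mk]
  have key : ∀ C : ConjClasses G,
      (∑ g ∈ Finset.univ.filter (fun g => ConjClasses.mk g = C),
        if IsConj (f g) g then (Nat.card (Subgroup.centralizer ({f g} : Set G)) : ℂ) else 0) =
      (Nat.card G : ℂ) * (if P C then 1 else 0) := by
    intro C
    obtain ⟨a, rfl⟩ := ConjClasses.mk_surjective C
    have hiff : ∀ g : G, ConjClasses.mk g = ConjClasses.mk a → (IsConj (f g) g ↔ IsConj (f a) a) := by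
      intro g hg
      have hga := ConjClasses.mk_eq_mk_iff_isConj.mp hg
      exact ⟨fun h => ((hconj g a hga).symm.trans h).trans hga,
        fun h => ((hconj g a hga).trans h).trans hga.symm⟩
    by_cases ha : IsConj (f a) a
    · rw [if_pos (show P (ConjClasses.mk a) from fun g hg => (hiff g hg).mpr ha), mul_one,
        Finset.sum_congr rfl (g := fun _ => (Nat.card (Subgroup.centralizer ({a} : Set G)) : ℂ))]
      · rw [Finset.sum_const, nsmul_eq_mul, ← Nat.cast_mul]
        congr 1
        rw [← Char.card_conjugates_mul_card_centralizer a]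
        congr 1
        rw [Nat.card_eq_fintype_card, ← Set.toFinset_card]
        congr 1
        ext g
        simp only [Set.mem_toFinset, Set.mem_ofPred_eq, Finset.mem_filter, Finset.mem_univ,
          true_and, ConjClasses.mk_eq_mk_iff_isConj]
        exact isConj_comm
      · intro g hg
        have hg' := (Finset.mem_filter.mp hg).2
        rw [if_pos ((hiff g hg').mpr ha)]
        have hca : IsConj (f g) a :=
          ((hiff g hg').mpr ha).trans (ConjClasses.mk_eq_mk_iff_isConj.mp hg')
        congr 1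
        have hc1 := Char.card_conjugates_mul_card_centralizer (f g)
        have hc2 := Char.card_conjugates_mul_card_centralizer a
        have he : ({x : G | IsConj (f g) x} : Set G) = {x : G | IsConj a x} :=
          Set.ext fun x => ⟨fun k => hca.symm.trans k, fun k => hca.trans k⟩
        rw [he] at hc1
        haveI : Nonempty {x : G | IsConj a x} := ⟨⟨a, IsConj.refl a⟩⟩
        exact Nat.eq_of_mul_eq_mul_left Nat.card_pos (hc1.trans hc2.symm)
    · rw [if_neg (fun h : P (ConjClasses.mk a) => ha (h a rfl)), mul_zero]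
      exact Finset.sum_eq_zero fun g hg => if_neg fun h => ha ((hiff g (Finset.mem_filter.mp hg).2).mp h)
  rw [Finset.sum_congr rfl fun C _ => key C, ← Finset.mul_sum]
  simp [P, Finset.sum_boole, Nat.card_eq_fintype_card, Fintype.card_subtype]

theorem card_fixed_automorphism (α : G ≃* G) :
    Nat.card {C : ConjClasses G // ConjClasses.map α.toMonoidHom C = C} =
      Nat.card {χ : IrrCharacter G // (χ : G → ℂ) ∘ α = (χ : G → ℂ)} := by
  rw [fixed_count α (fun χ => Char.IsIrrCharacter.comp_equiv χ.2 α)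
    (fun g h hgh => α.toMonoidHom.map_isConj hgh)]
  refine Nat.card_congr (Equiv.subtypeEquivRight fun C => ⟨fun h g hg => ?_, fun h => ?_⟩)
  · subst hg
    exact ConjClasses.mk_eq_mk_iff_isConj.mp h
  · obtain ⟨g, rfl⟩ := ConjClasses.mk_surjective C
    exact ConjClasses.mk_eq_mk_iff_isConj.mpr (h g rfl)

theorem isReal_iff {χ : G → ℂ} (hχ : IsCharacter G χ) :
    (∀ g : G, (χ g).im = 0) ↔ χ ∘ (fun g => g⁻¹) = χ := by
  haveI := Fintype.ofFinite G
  simp [funext_iff, Char.IsCharacter.apply_inv hχ, Complex.conj_eq_iff_im]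

theorem card_real_irr :
    Nat.card {χ : IrrCharacter G // ∀ g : G, ((χ : G → ℂ) g).im = 0} =
      Nat.card {C : ConjClasses G // ∀ g : G, ConjClasses.mk g = C → IsConj g g⁻¹} := by
  haveI := Fintype.ofFinite G
  have h := fixed_count (fun g : G => g⁻¹) (fun χ => by
      have := Char.IsIrrCharacter.conj χ.2
      rwa [show (χ : G → ℂ) ∘ (fun g => g⁻¹) = fun g => conj ((χ : G → ℂ) g) from
        funext fun g => Char.IsCharacter.apply_inv (Char.IsIrrCharacter.isCharacter χ.2) g])
    (fun g h hgh => by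
      obtain ⟨c, rfl⟩ := isConj_iff.mp hgh
      exact isConj_iff.mpr ⟨c, by group⟩)
  rw [Nat.card_congr (Equiv.subtypeEquivRight fun χ : IrrCharacter G =>
    isReal_iff (Char.IsIrrCharacter.isCharacter χ.2)), h]
  exact Nat.card_congr (Equiv.subtypeEquivRight fun C =>
    ⟨fun h g hg => (h g hg).symm, fun h g hg => (h g hg).symm⟩)

theorem eq_one_of_real_of_odd (hodd : Odd (Nat.card G)) {g : G} (h : IsConj g g⁻¹) : g = 1 := by
  obtain ⟨c, hc⟩ := isConj_iff.mp h
  have h2 : c ^ 2 * g = g * c ^ 2 := by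
    have e1 : c * g⁻¹ * c⁻¹ = g := by
      have := congrArg (fun x => x⁻¹) hc
      simpa [mul_assoc] using this
    rw [pow_two]
    calc c * c * g = c * (c * g * c⁻¹) * c⁻¹ * (c * c) := by group
      _ = c * g⁻¹ * c⁻¹ * (c * c) := by rw [hc]
      _ = g * (c * c) := by rw [e1]
  have hcoc : Nat.Coprime (orderOf c) 2 :=
    Nat.coprime_two_right.mpr (hodd.of_dvd_nat (orderOf_dvd_natCard c))
  obtain ⟨m, hm⟩ := exists_pow_eq_self_of_coprime hcoc.symm
  have h3 : Commute c g := by
    have : Commute ((c ^ 2) ^ m) g := Commute.pow_left h2 m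
    rwa [hm] at this
  rw [h3.eq, mul_assoc, mul_inv_cancel, mul_one, eq_inv_iff_mul_eq_one, ← pow_two] at hc
  obtain ⟨m', hm'⟩ := exists_pow_eq_self_of_coprime
    (Nat.coprime_two_right.mpr (hodd.of_dvd_nat (orderOf_dvd_natCard g))).symm
  rw [← hm', hc, one_pow]

theorem real_irr_of_odd (hodd : Odd (Nat.card G)) {χ : G → ℂ} (hχ : IsIrrCharacter G χ)
    (hreal : ∀ g : G, (χ g).im = 0) : χ = fun _ => 1 := by
  have h1 : Nat.card {C : ConjClasses G // ∀ g : G, ConjClasses.mk g = C → IsConj g g⁻¹} = 1 := by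
    rw [Nat.card_eq_one_iff_exists]
    refine ⟨⟨ConjClasses.mk 1, fun g hg => ?_⟩, fun C => Subtype.ext ?_⟩
    · rw [ConjClasses.mk_eq_mk_iff_isConj, isConj_one_left] at hg
      rw [hg, inv_one]
    · obtain ⟨g, hg⟩ := ConjClasses.mk_surjective C.1
      rw [← hg, eq_one_of_real_of_odd hodd (C.2 g hg)]
  rw [← card_real_irr, Nat.card_eq_one_iff_unique] at h1
  haveI := h1.1
  have := @Subsingleton.elim _ h1.1
    (⟨⟨χ, hχ⟩, hreal⟩ : {χ : IrrCharacter G // ∀ g : G, ((χ : G → ℂ) g).im = 0})
    ⟨⟨1, Char.isIrrCharacter_one⟩, fun g => by simp⟩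
  exact congrArg (fun x : {χ : IrrCharacter G // ∀ g : G, ((χ : G → ℂ) g).im = 0} => x.1.1) this

end Cfsg.Agent.CharApp
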