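/-
Clifford correspondence for a subgroup containing the inertia group.

Main results: `degree_in`, `induced_irr`, `exists_under`, `under_unique`.
-/
import Cfsg.Agent.Lib.CharApp.DegreeSets

set_option autoImplicit false
set_option linter.style.haveILetI false

namespace Cfsg.Agent.CharApp.OverStab

open Cfsg Cfsg.Agent.Char Cfsg.Agent.CharApp.DegreeSets

variable {G : Type*} [Group G] [Fintype G] (N : Subgroup G) [hN : N.Normal] [Fintype N]
  (T : Subgroup G) [Fintype T] (hNT : N ≤ T)

/-- The multiplicity of `θ` in the restriction to `N` of a function on `T`. -/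
noncomputable def mult (η : T → ℂ) (θ : N → ℂ) : ℂ :=
  classInner (fun n : N => η ⟨(n : G), hNT n.2⟩) θ

variable {θ : N → ℂ} (hθ : IsIrrCharacter N θ) (hI : inertia N θ ≤ T)
include hθ

theorem degree_in {η : T → ℂ} (hη : IsIrrCharacter T η) (h : mult N T hNT η θ ≠ 0) :
    ∃ e : ℕ, 0 < e ∧ mult N T hNT η θ = e ∧
      charDegree η = e * (inertia N θ).relIndex T * charDegree θ := by
  classical
  set N' := N.subgroupOf T
  let e := Subgroup.subgroupOfEquivOfLe hNT
  have hθ' : IsIrrCharacter N' (fun n => θ (e n)) := IsIrrCharacter.comp_equiv hθ e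
  haveI := Fintype.ofFinite N'
  have hm : classInner (fun n : N' => η n) (fun n => θ (e n)) = mult N T hNT η θ :=
    classInner_comp_equiv e (fun n : N => η ⟨(n : G), hNT n.2⟩) θ
  obtain ⟨k, hk, hk1, hk2, -⟩ := degree_over N' hη hθ' (hm ▸ h)
  have hin : inertia N' (fun n => θ (e n)) = (inertia N θ).subgroupOf T := by
    ext x
    rw [Subgroup.mem_subgroupOf, mem_inertia_iff, mem_inertia_iff]
    constructor
    · intro hx n
      exact hx ⟨⟨(n : G), hNT n.2⟩, n.2⟩
    · intro hx n
      exact hx (e n)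
  refine ⟨k, hk, hm ▸ hk1, ?_⟩
  rw [hk2, hin, show charDegree (fun n => θ (e n)) = charDegree θ by simp [charDegree]]
  rfl

omit hθ in
theorem mult_restrict [Fintype (IrrCharacter T)] {π : G → ℂ} {c : IrrCharacter T → ℕ}
    (hc : (fun t : T => π t) = ∑ φ : IrrCharacter T, (c φ : ℂ) • (φ : T → ℂ)) (θ : N → ℂ) :
    classInner (fun n : N => π n) θ = ∑ φ : IrrCharacter T, (c φ : ℂ) * mult N T hNT φ θ := by
  have e : (fun n : N => π n) =
      ∑ φ : IrrCharacter T, (c φ : ℂ) • (fun n : N => (φ : T → ℂ) ⟨(n : G), hNT n.2⟩) := by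
    funext n
    have := congrFun hc ⟨(n : G), hNT n.2⟩
    simpa using this
  rw [e, classInner_sum_left]
  exact Finset.sum_congr rfl fun φ _ => classInner_smul_left _ _ _

/-- The multiplicity seen in the group bounds those seen below. -/
theorem mult_le {χ : G → ℂ} (hχ : IsIrrCharacter G χ) {e : ℕ}
    (he : classInner (fun n : N => χ n) θ = e) (s : Finset (IrrCharacter T)) {f : IrrCharacter T → ℕ}
    (hf : ∀ η ∈ s, mult N T hNT η θ = f η ∧ classInner (fun t : T => χ t) (η : T → ℂ) ≠ 0) :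
    ∑ η ∈ s, f η ≤ e := by
  classical
  haveI := Fintype.ofFinite (IrrCharacter T)
  obtain ⟨c, hc, hc'⟩ := IsCharacter.decompose
    (IsCharacter.restrict (IsIrrCharacter.isCharacter hχ) T)
  choose g hg using fun η : IrrCharacter T => IsCharacter.classInner_nat
    (IsCharacter.comp_hom (IsIrrCharacter.isCharacter η.2) (Subgroup.inclusion hNT))
    (IsIrrCharacter.isCharacter hθ)
  have hsum : e = ∑ η : IrrCharacter T, c η * g η := by
    have := mult_restrict N T hNT hc θ
    rw [he] at this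
    have e1 : ∀ η : IrrCharacter T, mult N T hNT η θ = g η := fun η => hg η
    simp only [e1] at this
    exact_mod_cast this
  rw [hsum]
  refine le_trans (Finset.sum_le_sum fun η hη => ?_) (Finset.sum_le_sum_of_subset (Finset.subset_univ s))
  obtain ⟨h1, h2⟩ := hf η hη
  have hgf : f η = g η := by
    have := (hg η).symm.trans h1
    exact_mod_cast this.symm
  rw [hgf]
  exact Nat.le_mul_of_pos_left _ (Nat.pos_of_ne_zero fun h0 => h2 (by rw [hc', h0, Nat.cast_zero]))

include hI

theorem induced_aux {η : T → ℂ} (hη : IsIrrCharacter T η) (h : mult N T hNT η θ ≠ 0)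
    {χ : G → ℂ} (hχ : IsIrrCharacter G χ) (hne : classInner (indFun T η) χ ≠ 0) :
    indFun T η = χ ∧ classInner (fun n : N => χ n) θ = mult N T hNT η θ := by
  classical
  obtain ⟨e', he'0, he', hdeg'⟩ := degree_in N T hNT hθ hη h
  have hne' : classInner (fun t : T => χ t) η ≠ 0 := by
    rw [← classInner_conj_symm, map_ne_zero,
      ← frobenius_reciprocity T η (IsIrrCharacter.isClassFunction hχ)]
    exact hne
  obtain ⟨e, he⟩ := IsCharacter.classInner_nat (IsCharacter.restrict (IsIrrCharacter.isCharacter hχ) N)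
    (IsIrrCharacter.isCharacter hθ)
  have hle := mult_le N T hNT hθ hχ he {⟨η, hη⟩} (f := fun _ => e')
    (fun φ hφ => by rw [Finset.mem_singleton.1 hφ]; exact ⟨he', hne'⟩)
  rw [Finset.sum_singleton] at hle
  obtain ⟨e₁, -, he₁, hdeg, -⟩ := degree_over N hχ hθ (by
    rw [he]; exact Nat.cast_ne_zero.2 (by omega))
  obtain rfl : e₁ = e := by
    have := he₁.symm.trans he
    exact_mod_cast this
  have hπ : indFun T η 1 = ((T.index * charDegree η : ℕ) : ℂ) := by
    rw [indFun_one_apply, apply_one hη]; push_cast; rfl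
  obtain ⟨m, hm⟩ := IsCharacter.classInner_nat (IsCharacter.indFun T (IsIrrCharacter.isCharacter hη))
    (IsIrrCharacter.isCharacter hχ)
  have hb := classInner_nat_le_degree (IsCharacter.indFun T (IsIrrCharacter.isCharacter hη)) hχ hm hπ
    (apply_one hχ)
  have hm0 : 0 < m := Nat.pos_of_ne_zero fun h0 => hne (by rw [hm, h0, Nat.cast_zero])
  have hidx : T.index * charDegree η = e' * (inertia N θ).index * charDegree θ := by
    rw [hdeg', ← Subgroup.relIndex_mul_index hI]; ring
  have h1 : e₁ * (inertia N θ).index * charDegree θ ≤ e' * (inertia N θ).index * charDegree θ := by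
    rw [← hdeg, ← hidx]
    exact le_trans (Nat.le_mul_of_pos_left _ hm0) hb
  have h2 : e₁ ≤ e' := Nat.le_of_mul_le_mul_right (Nat.le_of_mul_le_mul_right h1
    (TwoClassChar.deg_pos hθ)) (Nat.pos_of_ne_zero Subgroup.index_ne_zero_of_finite)
  have hee : e₁ = e' := le_antisymm h2 hle
  refine ⟨eq_of_constituent_of_degree (IsCharacter.indFun T (IsIrrCharacter.isCharacter hη)) hχ hne
    hπ ?_, by rw [he, hee, he']⟩
  rw [apply_one hχ, hdeg, hidx, hee]

theorem induced_irr {η : T → ℂ} (hη : IsIrrCharacter T η) (h : mult N T hNT η θ ≠ 0) :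
    IsIrrCharacter G (indFun T η) ∧
      classInner (fun n : N => indFun T η n) θ = mult N T hNT η θ := by
  obtain ⟨χ, hχ⟩ := exists_constituent (IsCharacter.indFun T (IsIrrCharacter.isCharacter hη)) (by
    rw [indFun_one_apply]
    exact mul_ne_zero (Nat.cast_ne_zero.mpr Subgroup.index_ne_zero_of_finite)
      (IsIrrCharacter.apply_one_ne_zero hη))
  obtain ⟨h1, h2⟩ := induced_aux N T hNT hθ hI hη h χ.2 hχ
  exact ⟨h1 ▸ χ.2, by rw [h1]; exact h2⟩

theorem exists_under {χ : G → ℂ} (hχ : IsIrrCharacter G χ)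
    (h : classInner (fun n : N => χ n) θ ≠ 0) :
    ∃ η : IrrCharacter T, mult N T hNT η θ ≠ 0 ∧ indFun T (η : T → ℂ) = χ := by
  classical
  haveI := Fintype.ofFinite (IrrCharacter T)
  obtain ⟨c, hc, hc'⟩ := IsCharacter.decompose
    (IsCharacter.restrict (IsIrrCharacter.isCharacter hχ) T)
  rw [mult_restrict N T hNT hc θ] at h
  obtain ⟨η, -, hη⟩ := Finset.exists_ne_zero_of_sum_ne_zero h
  refine ⟨η, (mul_ne_zero_iff.1 hη).2, (induced_aux N T hNT hθ hI η.2 (mul_ne_zero_iff.1 hη).2 hχ ?_).1⟩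
  rw [frobenius_reciprocity T _ (IsIrrCharacter.isClassFunction hχ), ← classInner_conj_symm, hc',
    map_ne_zero]
  exact (mul_ne_zero_iff.1 hη).1

theorem under_unique {η₁ η₂ : IrrCharacter T} (h₁ : mult N T hNT η₁ θ ≠ 0)
    (h₂ : mult N T hNT η₂ θ ≠ 0) (h : indFun T (η₁ : T → ℂ) = indFun T (η₂ : T → ℂ)) : η₁ = η₂ := by
  classical
  by_contra hne
  obtain ⟨hirr, hm₁⟩ := induced_irr N T hNT hθ hI η₁.2 h₁
  obtain ⟨-, hm₂⟩ := induced_irr N T hNT hθ hI η₂.2 h₂
  obtain ⟨e₁, he₁0, he₁, -⟩ := degree_in N T hNT hθ η₁.2 h₁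
  obtain ⟨e₂, he₂0, he₂, -⟩ := degree_in N T hNT hθ η₂.2 h₂
  have hcon : ∀ η : IrrCharacter T, indFun T (η : T → ℂ) = indFun T (η₁ : T → ℂ) →
      classInner (fun t : T => indFun T (η₁ : T → ℂ) t) (η : T → ℂ) ≠ 0 := fun η hη => by
    rw [← classInner_conj_symm, map_ne_zero,
      ← frobenius_reciprocity T _ (IsIrrCharacter.isClassFunction hirr), hη,
      classInner_irr_self hirr]
    exact one_ne_zero
  have hle := mult_le N T hNT hθ hirr (hm₁.trans he₁) {η₁, η₂}
    (f := fun η => if η = η₁ then e₁ else e₂) (fun η hη => by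
      rcases Finset.mem_insert.1 hη with rfl | hη
      · simp only [if_pos]; exact ⟨he₁, hcon _ rfl⟩
      · rw [Finset.mem_singleton.1 hη, if_neg (Ne.symm hne)]
        exact ⟨he₂, hcon _ h.symm⟩)
  rw [Finset.sum_pair hne] at hle
  simp only [if_pos, if_neg (Ne.symm hne)] at hle
  omega

end Cfsg.Agent.CharApp.OverStab
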