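/-
The Fong–Reynolds correspondence of blocks over a block of a normal subgroup.

Main results: `inducedCentralChar_eq`, `omega_indFun_blockCoeff`, `fong_reynolds`.
-/
import Cfsg.Agent.Lib.CharApp.OverStab
import Cfsg.Agent.Lib.BlocksNormal.Cover

set_option autoImplicit false
set_option linter.style.haveILetI false

open scoped ComplexConjugate

namespace Cfsg.Agent.FongReynolds

open Cfsg Cfsg.Agent.Blocks Cfsg.Agent.CharApp

variable {p : ℕ} {M : Ideal AlgInt} {G : Type*} [Group G] [Fintype G]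

theorem inducedCentralChar_eq (hM : IsPModular p M) (T : Subgroup G) [Fintype T]
    (ψ : IrrCharacter T) {χ : IrrCharacter G}
    (h : indFun T (ψ : T → ℂ) = (χ : G → ℂ)) (g : G) :
    inducedCentralChar T (ψ : T → ℂ) g = centralChar (χ : G → ℂ) g := by
  classical
  rw [inducedCentralChar_eq_omega hM, omega_eq_sum, ← omega_classInd, omega_eq_sum]
  have hψ1 := irr_one_ne_zero ψ
  have hcl : IsClassFunction G (fun x : G => conj (classInd g x)) := fun x y =>
    congrArg conj (isClassFunction_classInd g x y)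
  have h1 := Char.frobenius_reciprocity T (ψ : T → ℂ) hcl
  simp only [classInner, Complex.conj_conj] at h1
  have h2 : (Nat.card G : ℂ) = (T.index : ℂ) * (Nat.card T : ℂ) := card_eq_index_mul T
  have hT0 : (Nat.card T : ℂ) ≠ 0 := Nat.cast_ne_zero.2 Nat.card_pos.ne'
  have hi0 : (T.index : ℂ) ≠ 0 := Nat.cast_ne_zero.2 Subgroup.index_ne_zero_of_finite
  have hA : ∑ x : G, classInd g x * (χ : G → ℂ) x = ∑ x : G, indFun T (ψ : T → ℂ) x * classInd g x :=
    Finset.sum_congr rfl fun x _ => by rw [h, mul_comm]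
  have hB : ∑ x : T, classInd g (x : G) * (ψ : T → ℂ) x = ∑ x : T, (ψ : T → ℂ) x * classInd g (x : G) :=
    Finset.sum_congr rfl fun x _ => mul_comm _ _
  rw [hA, hB, ← h, Char.indFun_one_apply]
  set A := ∑ x : G, indFun T (ψ : T → ℂ) x * classInd g x
  set C := ∑ x : T, (ψ : T → ℂ) x * classInd g (x : G)
  rw [h2] at h1
  field_simp at h1 ⊢
  linear_combination -h1

/-- The trace of a block idempotent, evaluated at an induced character. -/
theorem omega_indFun_blockCoeff (T : Subgroup G) [Fintype T] [Fintype (IrrCharacter T)]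
    (B' : Set (IrrCharacter T)) [DecidablePred (· ∈ B')] (χ : IrrCharacter G) :
    omega (χ : G → ℂ) (indFun T (blockCoeff B')) =
      (T.index : ℂ) * (∑ η ∈ Finset.univ.filter (· ∈ B'),
        classInner (fun t : T => (χ : G → ℂ) t) (η : T → ℂ) * (η : T → ℂ) 1) / (χ : G → ℂ) 1 := by
  rw [omega_eq_sum]
  congr 1
  have hcl : IsClassFunction G (fun x : G => conj ((χ : G → ℂ) x)) := fun x y =>
    congrArg conj (irr_class χ x y)
  have h1 := Char.frobenius_reciprocity T (blockCoeff B') hcl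
  simp only [classInner, Complex.conj_conj] at h1
  have hT0 : (Nat.card T : ℂ) ≠ 0 := Nat.cast_ne_zero.2 Nat.card_pos.ne'
  have hi0 : (T.index : ℂ) ≠ 0 := Nat.cast_ne_zero.2 Subgroup.index_ne_zero_of_finite
  rw [card_eq_index_mul T] at h1
  have h2 : ∑ t : T, blockCoeff B' t * (χ : G → ℂ) (t : G) =
      ∑ η ∈ Finset.univ.filter (· ∈ B'),
        classInner (fun t : T => (χ : G → ℂ) t) (η : T → ℂ) * (η : T → ℂ) 1 := by
    simp only [blockCoeff_eq_ofOmega, ofOmega_eq_sum, classInner, Finset.mul_sum, Finset.sum_mul]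
    rw [Finset.sum_comm, ← Finset.sum_filter_of_ne (p := (· ∈ B'))]
    · refine Finset.sum_congr rfl fun η hη => Finset.sum_congr rfl fun t _ => ?_
      rw [blockInd_of_mem (Finset.mem_filter.1 hη).2]
      ring
    · intro η _ hne
      by_contra hη
      exact hne (Finset.sum_eq_zero fun t _ => by rw [blockInd_of_notMem hη]; ring)
  rw [← h2]
  field_simp at h1
  linear_combination h1

theorem memR_indFun (hM : IsPModular p M) (T : Subgroup G) [Fintype T] {z : T → ℂ}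
    (hz : IsClassFunction T z) (hR : ∀ t, MemLocalRing M (z t)) (g : G) :
    MemLocalRing M (indFun T z g) := by
  classical
  haveI := Fintype.ofFinite (G ⧸ T)
  set F : G → ℂ := fun x => extendByZero T z (x⁻¹ * g * x)
  have hF : ∀ x : G, ∀ t ∈ T, F (x * t) = F x := by
    intro x t ht
    simp only [F]
    by_cases hm : x⁻¹ * g * x ∈ T
    · have hm' : (x * t)⁻¹ * g * (x * t) ∈ T := by
        have := T.mul_mem (T.mul_mem (T.inv_mem ht) hm) ht
        simpa [mul_assoc] using this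
      rw [Char.extendByZero_mem T z hm', Char.extendByZero_mem T z hm,
        ← hz ⟨x⁻¹ * g * x, hm⟩ ⟨t⁻¹, T.inv_mem ht⟩]
      exact congrArg z (Subtype.ext (by simp [mul_assoc]))
    · rw [Char.extendByZero_not_mem T z hm, Char.extendByZero_not_mem]
      intro hm'
      apply hm
      have := T.mul_mem (T.mul_mem ht hm') (T.inv_mem ht)
      simpa [mul_assoc] using this
  have hsum : ∑ x : G, F x = (Nat.card T : ℂ) * ∑ q : G ⧸ T, F q.out := by
    rw [← Fintype.sum_equiv (Subgroup.groupEquivQuotientProdSubgroup (s := T)).symm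
      (fun q => F ((Subgroup.groupEquivQuotientProdSubgroup (s := T)).symm q)) F (fun _ => rfl),
      Fintype.sum_prod_type, Finset.mul_sum]
    refine Finset.sum_congr rfl fun q _ => ?_
    rw [Finset.sum_congr rfl fun (t : T) _ => ?_, Finset.sum_const, Finset.card_univ, nsmul_eq_mul,
      Nat.card_eq_fintype_card]
    obtain ⟨y, hy, e⟩ : ∃ y ∈ T, (Subgroup.groupEquivQuotientProdSubgroup (s := T)).symm (q, t) =
        q.out * y := by
      refine ⟨q.out⁻¹ * (Subgroup.groupEquivQuotientProdSubgroup (s := T)).symm (q, t), ?_, by group⟩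
      rw [← QuotientGroup.eq, QuotientGroup.out_eq']
      have := (Subgroup.groupEquivQuotientProdSubgroup (s := T)).apply_symm_apply (q, t)
      exact (congrArg Prod.fst this).symm
    rw [e, hF _ y hy]
  rw [Cfsg.indFun, hsum, inv_mul_cancel_left₀ (Nat.cast_ne_zero.2 Nat.card_pos.ne')]
  refine memR_sum hM _ fun q _ => ?_
  by_cases hm : q.out⁻¹ * g * q.out ∈ T
  · simp only [F, Char.extendByZero_mem T z hm]; exact hR _
  · simp only [F, Char.extendByZero_not_mem T z hm]; exact memR_zero hM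

variable (N : Subgroup G) [hN : N.Normal] [Fintype N] (T : Subgroup G) [Fintype T] (hNT : N ≤ T)

/-- `T` is the stabiliser of the block `b`. -/
def IsBlockStab (b : Set (IrrCharacter N)) : Prop :=
  ∀ g : G, g ∈ T ↔ ∀ θ ∈ b, ∀ θ' : IrrCharacter N,
    (∀ n : N, (θ' : N → ℂ) n = (θ : N → ℂ) ⟨g * n * g⁻¹, hN.conj_mem n n.2 g⟩) → θ' ∈ b

/-- `B'` covers `b`. -/
def Covers (B' : Set (IrrCharacter T)) (b : Set (IrrCharacter N)) : Prop :=
  ∃ ψ ∈ B', ∃ θ ∈ b, classInner (fun n : N => (ψ : T → ℂ) ⟨(n : G), hNT n.2⟩) (θ : N → ℂ) ≠ 0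

variable {N T} {b : Set (IrrCharacter N)} (hM : IsPModular p M) (hb : IsPBlock M b)
  (hT : IsBlockStab N T b)
include hM hb hT

/-- An element moving one member of `b` into `b` lies in the stabiliser. -/
theorem mem_of_conjIrr {x : G} {θ : IrrCharacter N} (hθ : θ ∈ b)
    (hx : BlocksNormal.conjIrr N x θ ∈ b) : x ∈ T := by
  rw [← inv_mem_iff, hT]
  intro φ hφ φ' hφ'
  have hv : φ' = BlocksNormal.conjIrr N x φ := by
    refine Subtype.ext (funext fun n => ?_)
    rw [hφ']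
    exact congrArg _ (Subtype.ext (by simp))
  rw [isPBlock_eq_blockOf hM hb hx, hv]
  exact BlocksNormal.sameBlock_conjIrr N x (sameBlock_of_mem hM hb hθ hφ)

theorem inertia_le {θ : IrrCharacter N} (hθ : θ ∈ b) : inertia N (θ : N → ℂ) ≤ T := fun x hx =>
  mem_of_conjIrr hM hb hT hθ (by
    rwa [show BlocksNormal.conjIrr N x θ = θ from Subtype.ext hx])

/-- Above `b` a member of a block of `T` covering `b`. -/
theorem over_of_covers {B' : Set (IrrCharacter T)} (hB' : IsPBlock M B')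
    (hcov : Covers N T hNT B' b) {ψ : IrrCharacter T} (hψ : ψ ∈ B') :
    ∃ θ ∈ b, OverStab.mult N T hNT ψ (θ : N → ℂ) ≠ 0 := by
  obtain ⟨ψ₀, hψ₀, θ₀, hθ₀, h0⟩ := hcov
  let e := Subgroup.subgroupOfEquivOfLe hNT
  haveI := Fintype.ofFinite (N.subgroupOf T)
  set b' : Set (IrrCharacter (N.subgroupOf T)) :=
    blockOf M (BrauerPairs.pullIrr e θ₀ : N.subgroupOf T → ℂ)
  obtain ⟨φ, hφ⟩ := BlocksNormal.exists_constituent (N.subgroupOf T) ψ
  have h0' : classInner (fun n : N.subgroupOf T => (ψ₀ : T → ℂ) n)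
      (BrauerPairs.pullIrr e θ₀ : N.subgroupOf T → ℂ) ≠ 0 := by
    have := Char.classInner_comp_equiv e (fun n : N => (ψ₀ : T → ℂ) ⟨(n : G), hNT n.2⟩) (θ₀ : N → ℂ)
    exact this.trans_ne h0
  obtain ⟨g, hg⟩ := BlocksNormal.exists_conjIrr_mem_of_sameBlock (N.subgroupOf T) hM (b := b')
    ⟨_, rfl⟩ (sameBlock_of_mem hM hB' hψ₀ hψ) (mem_blockOf_self hM _) h0' hφ
  set φ' := BlocksNormal.conjIrr (N.subgroupOf T) g φ
  refine ⟨BrauerPairs.pullIrr e.symm φ', ?_, ?_⟩
  · rw [isPBlock_eq_blockOf hM hb hθ₀]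
    have h1 : SameBlock M (fun y => (θ₀ : N → ℂ) (e y))
        (fun y => (BrauerPairs.pullIrr e.symm φ' : N → ℂ) (e y)) := by
      simp only [BrauerPairs.pullIrr_apply, MulEquiv.symm_apply_apply]
      exact hg
    exact (BrauerPairs.sameBlock_comp_equiv e _ _).1 h1
  · have h2 := Char.classInner_comp_equiv e (fun n : N => (ψ : T → ℂ) ⟨(n : G), hNT n.2⟩)
      (BrauerPairs.pullIrr e.symm φ' : N → ℂ)
    simp only [BrauerPairs.pullIrr_apply, MulEquiv.symm_apply_apply] at h2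
    rw [← BlocksNormal.constituent_conjIrr (N.subgroupOf T) g] at hφ
    intro h3
    exact hφ (h2.trans h3)

theorem induced_irr {B' : Set (IrrCharacter T)} (hB' : IsPBlock M B') (hcov : Covers N T hNT B' b)
    {ψ : IrrCharacter T} (hψ : ψ ∈ B') : IsIrrCharacter G (indFun T (ψ : T → ℂ)) := by
  obtain ⟨θ, hθ, hm⟩ := over_of_covers hNT hM hb hT hB' hcov hψ
  exact (OverStab.induced_irr N T hNT θ.2 (inertia_le hM hb hT hθ) ψ.2 hm).1

/-- The characters of `T` over `b` with the same induced character are equal. -/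
theorem eq_of_induced {η₁ η₂ : IrrCharacter T} {θ₁ θ₂ : IrrCharacter N} (hθ₁ : θ₁ ∈ b)
    (hθ₂ : θ₂ ∈ b) (h₁ : OverStab.mult N T hNT η₁ (θ₁ : N → ℂ) ≠ 0)
    (h₂ : OverStab.mult N T hNT η₂ (θ₂ : N → ℂ) ≠ 0)
    (h : indFun T (η₁ : T → ℂ) = indFun T (η₂ : T → ℂ)) : η₁ = η₂ := by
  obtain ⟨hirr, hm₁⟩ := OverStab.induced_irr N T hNT θ₁.2 (inertia_le hM hb hT hθ₁) η₁.2 h₁
  obtain ⟨-, hm₂⟩ := OverStab.induced_irr N T hNT θ₂.2 (inertia_le hM hb hT hθ₂) η₂.2 h₂
  rw [← h] at hm₂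
  obtain ⟨x, hx⟩ := CliffordChar.constituents_conjugate N hirr θ₁.2 θ₂.2
    (hm₁.trans_ne h₁) (hm₂.trans_ne h₂)
  have hxT : x ∈ T := mem_of_conjIrr hM hb hT hθ₁
    (by rwa [show BlocksNormal.conjIrr N x θ₁ = θ₂ from Subtype.ext hx])
  refine OverStab.under_unique N T hNT θ₂.2 (inertia_le hM hb hT hθ₂) ?_ h₂ h
  have e : OverStab.mult N T hNT η₁ (θ₂ : N → ℂ) = OverStab.mult N T hNT η₁ (θ₁ : N → ℂ) := by
    simp only [OverStab.mult]
    rw [← hx]
    conv_lhs => arg 1; rw [show (fun n : N => (η₁ : T → ℂ) ⟨(n : G), hNT n.2⟩) =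
      CliffordChar.conjFun N x (fun n : N => (η₁ : T → ℂ) ⟨(n : G), hNT n.2⟩) from funext fun n => by
        rw [CliffordChar.conjFun]
        have h3 := irr_class η₁ ⟨(n : G), hNT n.2⟩ ⟨x⁻¹, T.inv_mem hxT⟩
        rw [← h3]
        exact congrArg _ (Subtype.ext (by simp))]
    exact CliffordChar.classInner_conjFun N x _ _
  rw [e]
  exact h₁

/-- The trace of the idempotent of a block over `b` picks out the characters induced from it. -/
theorem omega_trace {B' : Set (IrrCharacter T)} (hB' : IsPBlock M B') (hcov : Covers N T hNT B' b)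
    {ψ : IrrCharacter T} {θ : IrrCharacter N} (hθ : θ ∈ b)
    (hm : OverStab.mult N T hNT ψ (θ : N → ℂ) ≠ 0) {χ : IrrCharacter G}
    (h : indFun T (ψ : T → ℂ) = (χ : G → ℂ)) :
    omega (χ : G → ℂ) (indFun T (blockCoeff B')) = blockInd B' ψ := by
  classical
  haveI := Fintype.ofFinite (IrrCharacter T)
  rw [omega_indFun_blockCoeff]
  have key : ∀ η ∈ Finset.univ.filter (· ∈ B'),
      classInner (fun t : T => (χ : G → ℂ) t) (η : T → ℂ) * (η : T → ℂ) 1 =
        if η = ψ then (η : T → ℂ) 1 else 0 := by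
    intro η hη
    have hηB := (Finset.mem_filter.1 hη).2
    obtain ⟨θ', hθ', hm'⟩ := over_of_covers hNT hM hb hT hB' hcov hηB
    obtain ⟨hirr, -⟩ := OverStab.induced_irr N T hNT θ'.2 (inertia_le hM hb hT hθ') η.2 hm'
    rw [← Char.classInner_conj_symm,
      ← Char.frobenius_reciprocity T _ (irr_class χ)]
    by_cases he : η = ψ
    · rw [if_pos he, he, h, Char.classInner_irr_self χ.2, map_one, one_mul]
    · rw [if_neg he]
      have hne : indFun T (η : T → ℂ) ≠ (χ : G → ℂ) := fun e =>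
        he (eq_of_induced hNT hM hb hT hθ' hθ hm' hm (e.trans h.symm))
      rw [Char.classInner_irr_of_ne hirr χ.2 hne, map_zero, zero_mul]
  rw [Finset.sum_congr rfl key, Finset.sum_ite_eq']
  by_cases hψ : ψ ∈ B'
  · rw [if_pos (by simp [hψ]), blockInd_of_mem hψ, div_eq_one_iff_eq (irr_one_ne_zero χ), ← h,
      Char.indFun_one_apply]
  · rw [if_neg (by simp [hψ]), blockInd_of_notMem hψ, mul_zero, zero_div]

/-- Characters induced from one block of `T` over `b` fill a block of `G`. -/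
theorem mem_iff_of_sameBlock {B' : Set (IrrCharacter T)} (hB' : IsPBlock M B')
    (hcov : Covers N T hNT B' b) {ψ : IrrCharacter T} (hψ : ψ ∈ B') {χ : IrrCharacter G}
    (h : indFun T (ψ : T → ℂ) = (χ : G → ℂ)) (χ' : IrrCharacter G) :
    χ' ∈ blockOf M (χ : G → ℂ) ↔ ∃ ψ' ∈ B', (χ' : G → ℂ) = indFun T (ψ' : T → ℂ) := by
  obtain ⟨θ, hθ, hm⟩ := over_of_covers hNT hM hb hT hB' hcov hψ
  constructor
  · intro hs
    have hχθ : classInner (fun n : N => (χ : G → ℂ) n) (θ : N → ℂ) ≠ 0 := by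
      have := (OverStab.induced_irr N T hNT θ.2 (inertia_le hM hb hT hθ) ψ.2 hm).2
      rw [h] at this
      exact this.trans_ne hm
    obtain ⟨φ, hφ⟩ := BlocksNormal.exists_constituent N χ'
    obtain ⟨g, hg⟩ := BlocksNormal.exists_conjIrr_mem_of_sameBlock N hM hb hs hθ hχθ hφ
    rw [← BlocksNormal.constituent_conjIrr N g] at hφ
    obtain ⟨η, hη, he⟩ := OverStab.exists_under N T hNT (BlocksNormal.conjIrr N g φ).2
      (inertia_le hM hb hT hg) χ'.2 hφ
    refine ⟨η, ?_, he.symm⟩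
    by_contra hnot
    have hz := isClassFunction_blockCoeff B'
    have h1 := intRing_congr hM (omega_mem_intRing hM
      (Char.indFun_isClassFunction T (blockCoeff B'))
      (memR_indFun hM T hz (memR_blockCoeff hM hB'))) hs
    simp only [omegaFun, omega_trace hNT hM hb hT hB' hcov hθ hm h,
      omega_trace hNT hM hb hT hB' hcov hg hη he, blockInd_of_mem hψ, blockInd_of_notMem hnot,
      sub_zero] at h1
    exact not_memI_one hM h1
  · rintro ⟨ψ', hψ', e⟩ g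
    rw [← inducedCentralChar_eq hM T ψ h g, ← inducedCentralChar_eq hM T ψ' e.symm g]
    exact inducedCentralChar_congr_sameBlock hM hB' hψ hψ' g

theorem isInducedBlock {B' : Set (IrrCharacter T)} (hB' : IsPBlock M B') {ψ : IrrCharacter T}
    (hψ : ψ ∈ B') {χ : IrrCharacter G} (h : indFun T (ψ : T → ℂ) = (χ : G → ℂ)) :
    IsInducedBlock M T B' (blockOf M (χ : G → ℂ)) := by
  refine ⟨hB', ⟨χ, rfl⟩, fun ξ hξ χ' hχ' g => ?_⟩
  refine memI_sub_trans hM (inducedCentralChar_congr_sameBlock hM hB' hξ hψ g) ?_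
  rw [inducedCentralChar_eq hM T ψ h g]
  exact hχ' g

theorem fong_reynolds :
    (∀ B' : Set (IrrCharacter T), IsPBlock M B' → Covers N T hNT B' b →
      ∃ B : Set (IrrCharacter G), IsInducedBlock M T B' B ∧
        (∃ χ ∈ B, ∃ θ ∈ b, classInner (fun n : N => (χ : G → ℂ) n) (θ : N → ℂ) ≠ 0) ∧
        (∀ ψ ∈ B', IsIrrCharacter G (indFun T (ψ : T → ℂ))) ∧
        ∀ χ : IrrCharacter G, χ ∈ B ↔ ∃ ψ ∈ B', (χ : G → ℂ) = indFun T (ψ : T → ℂ)) ∧
    (∀ B'₁ B'₂ : Set (IrrCharacter T), IsPBlock M B'₁ → IsPBlock M B'₂ → Covers N T hNT B'₁ b →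
      Covers N T hNT B'₂ b → ∀ B : Set (IrrCharacter G),
        IsInducedBlock M T B'₁ B → IsInducedBlock M T B'₂ B → B'₁ = B'₂) ∧
    (∀ B : Set (IrrCharacter G), IsPBlock M B →
      (∃ χ ∈ B, ∃ θ ∈ b, classInner (fun n : N => (χ : G → ℂ) n) (θ : N → ℂ) ≠ 0) →
      ∃ B' : Set (IrrCharacter T), IsPBlock M B' ∧ Covers N T hNT B' b ∧
        IsInducedBlock M T B' B) := by
  refine ⟨fun B' hB' hcov => ?_, fun B₁ B₂ hB₁ hB₂ hc₁ hc₂ B hi₁ hi₂ => ?_, fun B hB hcov => ?_⟩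
  · obtain ⟨ψ, hψ⟩ := isPBlock_nonempty hM hB'
    obtain ⟨θ, hθ, hm⟩ := over_of_covers hNT hM hb hT hB' hcov hψ
    obtain ⟨hirr, hm'⟩ := OverStab.induced_irr N T hNT θ.2 (inertia_le hM hb hT hθ) ψ.2 hm
    refine ⟨blockOf M (indFun T (ψ : T → ℂ)),
      isInducedBlock hM hb hT hB' hψ (χ := ⟨_, hirr⟩) rfl,
      ⟨⟨_, hirr⟩, mem_blockOf_self hM ⟨_, hirr⟩, θ, hθ, hm'.trans_ne hm⟩,
      fun η hη => induced_irr hNT hM hb hT hB' hcov hη,
      mem_iff_of_sameBlock hNT hM hb hT hB' hcov hψ (χ := ⟨_, hirr⟩) rfl⟩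
  · obtain ⟨ψ₁, hψ₁⟩ := isPBlock_nonempty hM hB₁
    obtain ⟨ψ₂, hψ₂⟩ := isPBlock_nonempty hM hB₂
    obtain ⟨χ, hχ⟩ := isPBlock_nonempty hM hi₁.2.1
    have hs : SameBlock M (indFun T (ψ₁ : T → ℂ)) (indFun T (ψ₂ : T → ℂ)) := fun g => by
      have e₁ := inducedCentralChar_eq hM T ψ₁
        (χ := ⟨_, induced_irr hNT hM hb hT hB₁ hc₁ hψ₁⟩) rfl g
      have e₂ := inducedCentralChar_eq hM T ψ₂
        (χ := ⟨_, induced_irr hNT hM hb hT hB₂ hc₂ hψ₂⟩) rfl g
      rw [← e₁, ← e₂]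
      exact memI_sub_trans hM (hi₁.2.2 ψ₁ hψ₁ χ hχ g) (memI_sub_comm (hi₂.2.2 ψ₂ hψ₂ χ hχ g))
    obtain ⟨η, hη, he⟩ := (mem_iff_of_sameBlock hNT hM hb hT hB₁ hc₁ hψ₁
      (χ := ⟨_, induced_irr hNT hM hb hT hB₁ hc₁ hψ₁⟩) rfl
      ⟨_, induced_irr hNT hM hb hT hB₂ hc₂ hψ₂⟩).1 hs
    obtain ⟨θ₁, hθ₁, hm₁⟩ := over_of_covers hNT hM hb hT hB₁ hc₁ hη
    obtain ⟨θ₂, hθ₂, hm₂⟩ := over_of_covers hNT hM hb hT hB₂ hc₂ hψ₂
    obtain rfl := eq_of_induced hNT hM hb hT hθ₂ hθ₁ hm₂ hm₁ he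
    rw [isPBlock_eq_blockOf hM hB₁ hη, isPBlock_eq_blockOf hM hB₂ hψ₂]
  · obtain ⟨χ, hχ, θ, hθ, hne⟩ := hcov
    obtain ⟨η, hm, he⟩ := OverStab.exists_under N T hNT θ.2 (inertia_le hM hb hT hθ) χ.2 hne
    refine ⟨blockOf M (η : T → ℂ), ⟨η, rfl⟩, ⟨η, mem_blockOf_self hM η, θ, hθ, hm⟩, ?_⟩
    rw [isPBlock_eq_blockOf hM hB hχ]
    exact isInducedBlock hM hb hT ⟨η, rfl⟩ (mem_blockOf_self hM η) he

end Cfsg.Agent.FongReynolds
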