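/-
Coset parts of central elements of a group algebra, and Brauer's covering theorem: every member of
a covered block lies under the covering block.

Main results: `part`, `part_mul_swap`, `fixed_part`, `exists_under_of_covers`.
-/
import Cfsg.Agent.Lib.BrauerPairs.BlockIdem
import Cfsg.Agent.Lib.Blocks.Trace
import Cfsg.Agent.Lib.Blocks.Defect
import Cfsg.Agent.Lib.Char.Induced

set_option autoImplicit false
set_option linter.style.haveILetI false

open scoped ComplexConjugate

namespace Cfsg.Agent.CosetParts

open Cfsg Cfsg.Agent.Blocks Cfsg.Agent.BrauerPairs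

section generic

variable {k : Type*} [CommRing k] {G : Type*} [Group G] (N : Subgroup G) [N.Normal]

open scoped Classical in
/-- The part of an element supported on a coset of `N`. -/
noncomputable def part (q : G ⧸ N) (a : MonoidAlgebra k G) : MonoidAlgebra k G :=
  MonoidAlgebra.ofCoeff (a.coeff.filter fun x => (x : G ⧸ N) = q)

open scoped Classical in
theorem coeff_part (q : G ⧸ N) (a : MonoidAlgebra k G) (x : G) :
    (part N q a).coeff x = if (x : G ⧸ N) = q then a.coeff x else 0 := by
  rw [part, MonoidAlgebra.coeff_ofCoeff, Finsupp.filter_apply]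

/-- Support in a coset. -/
def SuppC (q : G ⧸ N) (a : MonoidAlgebra k G) : Prop := ∀ x : G, (x : G ⧸ N) ≠ q → a.coeff x = 0

theorem suppC_part (q : G ⧸ N) (a : MonoidAlgebra k G) : SuppC N q (part N q a) := fun x hx => by
  rw [coeff_part, if_neg hx]

variable [Fintype G]

theorem SuppC.mul {q r : G ⧸ N} {a b : MonoidAlgebra k G} (ha : SuppC N q a) (hb : SuppC N r b) :
    SuppC N (q * r) (a * b) := fun x hx => by
  rw [coeff_mul_eq_sum]
  refine Finset.sum_eq_zero fun y _ => ?_
  by_cases hy : (y : G ⧸ N) = q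
  · rw [hb (y⁻¹ * x) fun h => hx ?_, mul_zero]
    rw [← hy, ← h, ← QuotientGroup.mk_mul, mul_inv_cancel_left]
  · rw [ha y hy, zero_mul]

theorem SuppC.pow {q : G ⧸ N} {a : MonoidAlgebra k G} (ha : SuppC N q a) :
    ∀ n : ℕ, SuppC N (q ^ n) (a ^ n) := by
  intro n
  induction n with
  | zero =>
    intro x hx
    rw [pow_zero]
    exact SuppIn.one (H := N) x fun h => hx (by rw [pow_zero]; exact (QuotientGroup.eq_one_iff x).2 h)
  | succ n ih => rw [pow_succ, pow_succ]; exact ih.mul N ha

omit [Fintype G] in
theorem suppIn_of_suppC {a : MonoidAlgebra k G} (ha : SuppC N 1 a) : SuppIn N a := fun x hx =>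
  ha x fun h => hx ((QuotientGroup.eq_one_iff x).1 h)

theorem sum_part [Fintype (G ⧸ N)] (a : MonoidAlgebra k G) : ∑ q : G ⧸ N, part N q a = a := by
  classical
  ext x
  rw [MonoidAlgebra.coeff_sum, Finsupp.finsetSum_apply]
  simp [coeff_part]

omit [Fintype G] in
theorem fixed_part (q : G ⧸ N) {E : MonoidAlgebra k G} (hE : Fixed ⊤ E) :
    Fixed N (part N q E) := fun u hu => by
  classical
  ext x
  rw [coeff_cj, coeff_part, coeff_part]
  have h1 : ((u⁻¹ * x * u : G) : G ⧸ N) = (x : G ⧸ N) := by
    rw [QuotientGroup.mk_mul, QuotientGroup.mk_mul, QuotientGroup.mk_inv,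
      (QuotientGroup.eq_one_iff u).2 hu, inv_one, one_mul, mul_one]
  have h2 : E.coeff (u⁻¹ * x * u) = E.coeff x := by
    simpa using coeff_conj_of_fixed hE (Subgroup.mem_top u⁻¹) x
  rw [h1, h2]

theorem part_mul_swap (q r : G ⧸ N) {E : MonoidAlgebra k G} (hE : Fixed ⊤ E) :
    part N q E * part N r E = part N r E * part N (r⁻¹ * q * r) E := by
  classical
  ext x
  rw [coeff_mul_eq_sum, coeff_mul_eq_sum]
  let e : G ≃ G :=
    { toFun := fun y => y⁻¹ * x
      invFun := fun w => x * w⁻¹
      left_inv := fun y => by simp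
      right_inv := fun w => by simp }
  refine Fintype.sum_equiv e _ _ fun y => ?_
  show _ = (part N r E).coeff (y⁻¹ * x) * (part N (r⁻¹ * q * r) E).coeff ((y⁻¹ * x)⁻¹ * x)
  rw [mul_comm]
  by_cases hr : ((y⁻¹ * x : G) : G ⧸ N) = r
  · congr 1
    have h1 : (y⁻¹ * x)⁻¹ * x = x⁻¹ * y * x := by group
    have h2 : E.coeff (x⁻¹ * y * x) = E.coeff y := by
      simpa using coeff_conj_of_fixed hE (Subgroup.mem_top x⁻¹) y
    rw [h1, coeff_part, coeff_part, h2, ← hr]
    congr 1
    refine propext ⟨fun h => ?_, fun h => ?_⟩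
    · rw [← h]; simp [mul_assoc]
    · have e1 : ((y⁻¹ * x : G) : G ⧸ N)⁻¹ * q * ((y⁻¹ * x : G) : G ⧸ N) =
          ((y⁻¹ * x : G) : G ⧸ N)⁻¹ * (y : G ⧸ N) * ((y⁻¹ * x : G) : G ⧸ N) := by
        rw [← h]; simp [mul_assoc]
      exact (mul_left_cancel (mul_right_cancel e1)).symm
  · rw [suppC_part N r E _ hr, zero_mul, zero_mul]

theorem part_mul_suppIn (q : G ⧸ N) (a : MonoidAlgebra k G) {v : MonoidAlgebra k G}
    (hv : SuppIn N v) : part N q a * v = part N q (a * v) := by
  classical
  ext x
  rw [coeff_mul_eq_sum, coeff_part, coeff_mul_eq_sum]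
  have key : ∀ y : G, (part N q a).coeff y * v.coeff (y⁻¹ * x) =
      if (x : G ⧸ N) = q then a.coeff y * v.coeff (y⁻¹ * x) else 0 := by
    intro y
    by_cases hy : y⁻¹ * x ∈ N
    · rw [coeff_part, QuotientGroup.eq.2 hy]
      split_ifs <;> simp
    · rw [hv _ hy]
      simp
  rw [Finset.sum_congr rfl fun y _ => key y]
  split_ifs <;> simp

/-- A product of parts in which one part occurs `j` times starts with that part `j` times. -/
theorem prod_parts_collect {E : MonoidAlgebra k G} (hE : Fixed ⊤ E) [DecidableEq (G ⧸ N)]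
    (q : G ⧸ N) : ∀ (j : ℕ) (l : List (G ⧸ N)), j ≤ l.count q →
      ∃ b : MonoidAlgebra k G, (l.map (part N · E)).prod = part N q E ^ j * b := by
  have step : ∀ l : List (G ⧸ N), ∀ j, j + 1 ≤ l.count q → ∃ l' : List (G ⧸ N),
      j ≤ l'.count q ∧ (l.map (part N · E)).prod = part N q E * (l'.map (part N · E)).prod := by
    intro l
    induction l with
    | nil => intro j h; simp at h
    | cons a l ih =>
      intro j h
      by_cases ha : a = q
      · subst ha
        refine ⟨l, ?_, by simp⟩
        simpa using h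
      · rw [List.count_cons_of_ne ha] at h
        obtain ⟨l', hl', e⟩ := ih j h
        refine ⟨(q⁻¹ * a * q) :: l', hl'.trans List.count_le_count_cons, ?_⟩
        simp only [List.map_cons, List.prod_cons, e]
        rw [← mul_assoc, part_mul_swap N a q hE, mul_assoc]
  intro j
  induction j with
  | zero => intro l _; exact ⟨(l.map (part N · E)).prod, by rw [pow_zero, one_mul]⟩
  | succ j ih =>
    intro l hl
    obtain ⟨l', hl', e⟩ := step l j hl
    obtain ⟨b, hb⟩ := ih l' hl'
    exact ⟨b, by rw [e, hb, ← mul_assoc, ← pow_succ']⟩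

/-- If every part of a central element is nilpotent against `f`, so is the element. -/
theorem mul_pow_eq_zero [Fintype (G ⧸ N)] {E f : MonoidAlgebra k G} (hE : Fixed ⊤ E) {L : ℕ}
    (h : ∀ q : G ⧸ N, f * part N q E ^ L = 0) :
    f * E ^ (Fintype.card (G ⧸ N) * L + 1) = 0 := by
  classical
  set m := Fintype.card (G ⧸ N) * L + 1
  suffices key : ∀ (j : ℕ) (l : List (G ⧸ N)), l.length + j = m →
      f * ((l.map (part N · E)).prod * E ^ j) = 0 by
    simpa using key m [] (by simp)
  intro j
  induction j with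
  | zero =>
    intro l hl
    obtain ⟨q, hq⟩ : ∃ q, L ≤ l.count q := by
      by_contra hh
      push Not at hh
      have h1 : l.length = ∑ q ∈ l.toFinset, l.count q := (List.sum_toFinset_count_eq_length l).symm
      have h2 : ∑ q ∈ l.toFinset, l.count q ≤ l.toFinset.card * L :=
        Finset.sum_le_card_nsmul _ _ L fun q _ => (hh q).le
      have h3 := Nat.mul_le_mul_right L (Finset.card_le_univ l.toFinset)
      omega
    obtain ⟨b, hb⟩ := prod_parts_collect N hE q L l hq
    rw [pow_zero, mul_one, hb, ← mul_assoc, h q, zero_mul]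
  | succ j ih =>
    intro l hl
    have e : (l.map (part N · E)).prod * E ^ (j + 1) =
        ∑ q : G ⧸ N, (l.map (part N · E)).prod * part N q E * E ^ j := by
      rw [← Finset.sum_mul, ← Finset.mul_sum, sum_part, pow_succ', mul_assoc]
    rw [e, Finset.mul_sum]
    refine Finset.sum_eq_zero fun q _ => ?_
    have := ih (l ++ [q]) (by simp; omega)
    simpa using this

end generic

variable {p : ℕ} {M : Ideal AlgInt} {G : Type*} [Group G] [Fintype G]

/-- The element of the group algebra with given coefficients. -/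
noncomputable def el (f : G → ℂ) : MonoidAlgebra ℂ G :=
  MonoidAlgebra.ofCoeff (Finsupp.equivFunOnFinite.symm f)

theorem coeff_el (f : G → ℂ) (x : G) : (el f).coeff x = f x := rfl

theorem el_conv (f g : G → ℂ) : el (conv f g) = el f * el g := by
  ext x
  rw [coeff_el, conv_eq_sum, coeff_mul_eq_sum]
  rfl

theorem red_mul (hM : IsPModular p M) {a b : MonoidAlgebra ℂ G}
    (ha : ∀ x, MemLocalRing M (a.coeff x)) (hb : ∀ x, MemLocalRing M (b.coeff x)) :
    (∀ x, MemLocalRing M ((a * b).coeff x)) ∧
      red M ⇑(a * b).coeff = red M ⇑a.coeff * red M ⇑b.coeff := by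
  have e : ⇑(a * b).coeff = conv ⇑a.coeff ⇑b.coeff := funext fun x => by
    rw [coeff_mul_eq_sum, conv_eq_sum]
  refine ⟨fun x => ?_, by rw [e, red_conv hM ha hb]⟩
  rw [coeff_mul_eq_sum]
  exact memR_sum hM _ fun y _ => memR_mul hM (ha y) (hb _)

theorem fixed_el {f : G → ℂ} (hf : IsClassFunction G f) : Fixed ⊤ (el f) := fun u _ => by
  ext x
  rw [coeff_cj, coeff_el, coeff_el]
  simpa using hf x u⁻¹

/-- An idempotent with zero coefficient at one is zero. -/
theorem eq_zero_of_idem {y : MonoidAlgebra ℂ G} (h : y * y = y) (h1 : y.coeff 1 = 0) : y = 0 := by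
  classical
  let P : Matrix G G ℂ := fun a b => y.coeff (a⁻¹ * b)
  have hP : P * P = P := by
    ext a b
    have h2 : (y * y).coeff (a⁻¹ * b) = y.coeff (a⁻¹ * b) := by rw [h]
    rw [coeff_mul_eq_sum] at h2
    rw [Matrix.mul_apply]
    refine Eq.trans ?_ h2
    refine Fintype.sum_equiv (Equiv.mulLeft a⁻¹) _ _ fun c => ?_
    simp only [P, Equiv.coe_mulLeft]
    congr 2
    group
  have hI : IsIdempotentElem (Matrix.toLin' P) := by
    show _ * _ = _
    rw [Module.End.mul_eq_comp, ← Matrix.toLin'_mul, hP]
  have h2 := LinearMap.IsIdempotentElem.eq_zero_of_trace_eq_zero hI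
    (by rw [Matrix.trace_toLin'_eq]; simp [Matrix.trace, Matrix.diag, P, h1])
  have hP0 : P = 0 := Matrix.toLin'.injective (h2.trans (map_zero _).symm)
  ext x
  have := congrFun (congrFun hP0 1) x
  simpa [P] using this

/-- An idempotent with local integral coefficients reducing to zero has zero coefficient at one. -/
theorem coeff_one_eq_zero_of_red (hM : IsPModular p M) {y : MonoidAlgebra ℂ G} (h : y * y = y)
    (hy : ∀ x, MemLocalRing M (y.coeff x)) (hr : red M ⇑y.coeff = 0) : y.coeff 1 = 0 := by
  classical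
  let P : Matrix G G ℂ := fun a b => y.coeff (a⁻¹ * b)
  have hP : P * P = P := by
    ext a b
    have h2 : (y * y).coeff (a⁻¹ * b) = y.coeff (a⁻¹ * b) := by rw [h]
    rw [coeff_mul_eq_sum] at h2
    rw [Matrix.mul_apply]
    refine Eq.trans ?_ h2
    refine Fintype.sum_equiv (Equiv.mulLeft a⁻¹) _ _ fun c => ?_
    simp only [P, Equiv.coe_mulLeft]
    congr 2
    group
  have h3 := trace_eq_of_idempotent_congr hM P 0 hP (mul_zero _) (fun i j => hy _) fun i j => by
    rw [Matrix.zero_apply, sub_zero, ← res_eq_zero_iff hM (hy _)]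
    exact congrArg (fun a : MonoidAlgebra (Res M) G => a.coeff (i⁻¹ * j)) hr
  simp [Matrix.trace, Matrix.diag, P] at h3
  exact h3

variable (N : Subgroup G) [N.Normal] [Fintype N]

omit [N.Normal] in
theorem el_ext_mul (z w : N → ℂ) :
    el (extendByZero N z) * el (extendByZero N w) = el (extendByZero N (conv z w)) := by
  classical
  ext x
  rw [coeff_mul_eq_sum, coeff_el]
  simp only [coeff_el]
  rw [← Finset.sum_filter_of_ne (p := fun y => y ∈ N) (fun y _ hy => by
    by_contra hyN
    rw [Char.extendByZero_not_mem N _ hyN, zero_mul] at hy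
    exact hy rfl), Finset.sum_subtype (p := fun y => y ∈ N) _ (fun y => by simp)]
  by_cases hx : x ∈ N
  · rw [Char.extendByZero_mem N _ hx, conv_eq_sum]
    refine Finset.sum_congr rfl fun y _ => ?_
    rw [Char.extendByZero_coe, Char.extendByZero_mem N _ (N.mul_mem (N.inv_mem y.2) hx)]
    rfl
  · rw [Char.extendByZero_not_mem N _ hx]
    refine Finset.sum_eq_zero fun y _ => ?_
    rw [Char.extendByZero_not_mem N w (g := (y : G)⁻¹ * x) fun h =>
      hx (by simpa using N.mul_mem y.2 h), mul_zero]

theorem el_mul_coeff_one (B : Set (IrrCharacter G)) (S : Set (IrrCharacter N))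
    [Fintype (IrrCharacter G)] [Fintype (IrrCharacter N)] [DecidablePred (· ∈ B)]
    [DecidablePred (· ∈ S)] :
    (el (extendByZero N (ofOmega (blockInd S))) * el (blockCoeff B)).coeff 1 =
      (Nat.card G : ℂ)⁻¹ * ∑ χ ∈ Finset.univ.filter (· ∈ B), (χ : G → ℂ) 1 *
        ∑ θ ∈ Finset.univ.filter (· ∈ S), (θ : N → ℂ) 1 *
          classInner (fun n : N => (χ : G → ℂ) n) (θ : N → ℂ) := by
  classical
  rw [coeff_mul_eq_sum]
  simp only [coeff_el, mul_one]
  rw [← Finset.sum_filter_of_ne (p := fun y => y ∈ N) (fun y _ hy => by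
    by_contra hyN
    rw [Char.extendByZero_not_mem N _ hyN, zero_mul] at hy
    exact hy rfl), Finset.sum_subtype (p := fun y => y ∈ N) _ (fun y => by simp)]
  simp only [Char.extendByZero_coe, blockCoeff_eq_ofOmega, ofOmega_eq_sum, classInner]
  simp only [Finset.mul_sum, Finset.sum_mul]
  rw [Finset.sum_comm, ← Finset.sum_filter_of_ne (p := (· ∈ B))]
  · refine Finset.sum_congr rfl fun χ hχ => ?_
    rw [Finset.sum_comm, ← Finset.sum_filter_of_ne (p := (· ∈ S))]
    · refine Finset.sum_congr rfl fun θ hθ => Finset.sum_congr rfl fun n _ => ?_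
      rw [blockInd_of_mem (Finset.mem_filter.1 hθ).2, blockInd_of_mem (Finset.mem_filter.1 hχ).2]
      have : conj ((χ : G → ℂ) (n : G)⁻¹) = (χ : G → ℂ) n := by
        rw [Char.IsCharacter.apply_inv (Char.IsIrrCharacter.isCharacter χ.2), Complex.conj_conj]
      rw [this]
      ring
    · intro θ _ hne
      by_contra hθ
      exact hne (Finset.sum_eq_zero fun n _ => by rw [blockInd_of_notMem hθ]; ring)
  · intro χ _ hne
    by_contra hχ
    exact hne (Finset.sum_eq_zero fun n _ => Finset.sum_eq_zero fun θ _ => by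
      rw [blockInd_of_notMem hχ]; ring)

/-- **Every member of a covered block lies under the covering block.** -/
theorem exists_under_of_covers [Fact p.Prime] (hM : IsPModular p M) {B : Set (IrrCharacter G)}
    (hB : IsPBlock M B) {b : Set (IrrCharacter N)} (hb : IsPBlock M b)
    (hcov : ∃ χ ∈ B, ∃ θ ∈ b, classInner (fun n : N => (χ : G → ℂ) n) (θ : N → ℂ) ≠ 0)
    {θ : IrrCharacter N} (hθ : θ ∈ b) :
    ∃ χ ∈ B, classInner (fun n : N => (χ : G → ℂ) n) (θ : N → ℂ) ≠ 0 := by
  classical
  haveI := Fintype.ofFinite (IrrCharacter G)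
  haveI := Fintype.ofFinite (IrrCharacter N)
  haveI := Fintype.ofFinite (G ⧸ N)
  by_contra hno
  push Not at hno
  set eC : MonoidAlgebra ℂ G := el (blockCoeff B)
  set fC : MonoidAlgebra ℂ G := el (extendByZero N (ofOmega (blockInd b)))
  set tC : MonoidAlgebra ℂ G := el (extendByZero N (ofOmega (blockInd {θ})))
  have hefix : Fixed ⊤ eC := fixed_el (Blocks.isClassFunction_blockCoeff B)
  have hidem : ∀ S : Set (IrrCharacter N), el (extendByZero N (ofOmega (blockInd S))) *
      el (extendByZero N (ofOmega (blockInd S))) = el (extendByZero N (ofOmega (blockInd S))) := by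
    intro S
    rw [el_ext_mul, ← ofOmega_mul]
    congr 3
    funext ξ
    by_cases h : ξ ∈ S
    · simp [blockInd_of_mem h]
    · simp [blockInd_of_notMem h]
  have hee : eC * eC = eC := by
    show el _ * el _ = el _
    rw [← el_conv, blockCoeff_eq_ofOmega, ← ofOmega_mul]
    congr 2
    funext ξ
    by_cases h : ξ ∈ B
    · simp [blockInd_of_mem h]
    · simp [blockInd_of_notMem h]
  have hcomm : ∀ v : MonoidAlgebra ℂ G, eC * v = v * eC := fun v => hefix.commute SuppIn.top
  -- `θ` is killed by the idempotent of `B`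
  have het : eC * tC = 0 := by
    refine eq_zero_of_idem ?_ ?_
    · calc eC * tC * (eC * tC) = eC * (tC * eC) * tC := by simp only [mul_assoc]
        _ = (eC * eC) * (tC * tC) := by rw [← hcomm tC]; simp only [mul_assoc]
        _ = eC * tC := by rw [hee, hidem]
    · rw [hcomm, el_mul_coeff_one]
      refine mul_eq_zero_of_right _ (Finset.sum_eq_zero fun χ hχ => mul_eq_zero_of_right _
        (Finset.sum_eq_zero fun ξ hξ => ?_))
      rw [Set.mem_singleton_iff.1 (Finset.mem_filter.1 hξ).2,
        hno χ (Finset.mem_filter.1 hχ).2, mul_zero]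
  have hRe : ∀ x, MemLocalRing M (eC.coeff x) := memR_blockCoeff hM hB
  have hRf : ∀ x, MemLocalRing M (fC.coeff x) := fun x => by
    show MemLocalRing M (extendByZero N (ofOmega (blockInd b)) x)
    by_cases hx : x ∈ N
    · rw [Char.extendByZero_mem N _ hx]; exact blockInd_mem_intRing hM hb _
    · rw [Char.extendByZero_not_mem N _ hx]; exact memR_zero hM
  set E : MonoidAlgebra (Res M) G := blk M B
  have hE : Fixed ⊤ E := fixed_blk B
  set F : MonoidAlgebra (Res M) G := bIdem M N b
  have hredE : red M ⇑eC.coeff = E := rfl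
  have hredF : red M ⇑fC.coeff = F := by
    ext x
    rw [coeff_red]
    show res M (extendByZero N (ofOmega (blockInd b)) x) = _
    rw [← blockCoeff_eq_ofOmega]
    by_cases hx : x ∈ N
    · rw [Char.extendByZero_mem N _ hx]
      exact (coeff_emb_coe N (blk M b) ⟨x, hx⟩).symm
    · rw [Char.extendByZero_not_mem N _ hx, res_zero hM]
      exact (suppIn_emb N (blk M b) x hx).symm
  -- the covering makes `F * E` nonzero
  have hFE : F * E ≠ 0 := by
    intro h0
    obtain ⟨hR, hr⟩ := red_mul hM hRf hRe
    rw [hredE, hredF, h0] at hr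
    have h1 := coeff_one_eq_zero_of_red hM (y := fC * eC) (by
      calc fC * eC * (fC * eC) = fC * (eC * fC) * eC := by simp only [mul_assoc]
        _ = (fC * fC) * (eC * eC) := by rw [hcomm fC]; simp only [mul_assoc]
        _ = fC * eC := by rw [hee, hidem]) hR hr
    rw [el_mul_coeff_one, mul_eq_zero, inv_eq_zero] at h1
    have h2 := h1.resolve_left (Nat.cast_ne_zero.2 Nat.card_pos.ne')
    choose c hc using fun (χ : IrrCharacter G) (ξ : IrrCharacter N) =>
      Char.IsCharacter.classInner_nat (Char.IsCharacter.restrict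
        (Char.IsIrrCharacter.isCharacter χ.2) N) (Char.IsIrrCharacter.isCharacter ξ.2)
    simp only [hc, ← charDegree_cast] at h2
    norm_cast at h2
    obtain ⟨χ₀, hχ₀, θ₀, hθ₀, hne⟩ := hcov
    rw [Finset.sum_eq_zero_iff] at h2
    have h3 := h2 χ₀ (by simp [hχ₀])
    rw [mul_eq_zero, Finset.sum_eq_zero_iff] at h3
    have h4 := (h3.resolve_left (charDegree_pos χ₀).ne') θ₀ (by simp [hθ₀])
    rw [mul_eq_zero] at h4
    exact hne (by rw [hc, h4.resolve_left (charDegree_pos θ₀).ne', Nat.cast_zero])
  set K := Nat.card (G ⧸ N)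
  have hqK : ∀ q : G ⧸ N, q ^ K = 1 := fun q => pow_card_eq_one'
  have hu : ∀ q : G ⧸ N, IsCentralIn N (part N q E ^ K) := by
    intro q
    refine ⟨suppIn_of_suppC N (hqK q ▸ (suppC_part N q E).pow N K), ?_⟩
    intro u hu
    rw [map_pow, fixed_part N q hE u hu]
  -- the central elements from the parts act as zero on `b`
  have hlam : ∀ q : G ⧸ N, lam M N θ (part N q E ^ K) = 0 := by
    intro q
    have hR : ∀ n : ℕ, 1 ≤ n → (∀ x, MemLocalRing M ((part N q eC ^ n).coeff x)) ∧
        red M ⇑(part N q eC ^ n).coeff = part N q E ^ n := by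
      intro n hn
      induction n, hn using Nat.le_induction with
      | base =>
        rw [pow_one, pow_one]
        refine ⟨fun x => ?_, ?_⟩
        · rw [coeff_part]; split_ifs
          · exact hRe x
          · exact memR_zero hM
        · ext x
          rw [coeff_red, coeff_part, coeff_part]
          split_ifs
          · rfl
          · exact res_zero hM
      | succ n hn ih =>
        obtain ⟨h1, h2⟩ := ih
        have h0 : ∀ x, MemLocalRing M ((part N q eC).coeff x) := fun x => by
          rw [coeff_part]; split_ifs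
          · exact hRe x
          · exact memR_zero hM
        have h0' : red M ⇑(part N q eC).coeff = part N q E := by
          ext x
          rw [coeff_red, coeff_part, coeff_part]
          split_ifs
          · rfl
          · exact res_zero hM
        obtain ⟨h3, h4⟩ := red_mul hM h1 h0
        rw [pow_succ, pow_succ]
        exact ⟨h3, by rw [h4, h2, h0']⟩
    obtain ⟨hR1, hR2⟩ := hR K Nat.card_pos
    set uC := part N q eC ^ K
    have hsupp : SuppIn N uC := suppIn_of_suppC N (hqK q ▸ (suppC_part N q eC).pow N K)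
    have hufix : Fixed N uC := fun u hu => by rw [map_pow, fixed_part N q hefix u hu]
    set z : N → ℂ := fun n => uC.coeff (n : G)
    have hz : IsClassFunction N z := fun n u => by
      simpa [z] using coeff_conj_of_fixed hufix u.2 (n : G)
    have hext : el (extendByZero N z) = uC := by
      ext x
      rw [coeff_el]
      by_cases hx : x ∈ N
      · rw [Char.extendByZero_mem N _ hx]
      · rw [Char.extendByZero_not_mem N _ hx, hsupp x hx]
    have hsuppt : SuppIn N tC := fun x hx => Char.extendByZero_not_mem N _ hx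
    have hzero : uC * tC = 0 := by
      obtain ⟨K', hK'⟩ : ∃ K', K = K' + 1 := ⟨K - 1, (Nat.succ_pred_eq_of_pos Nat.card_pos).symm⟩
      show part N q eC ^ K * tC = 0
      rw [hK', pow_succ, mul_assoc, part_mul_suppIn N q eC hsuppt, het]
      have hp0 : part N q (0 : MonoidAlgebra ℂ G) = 0 := by ext x; simp [coeff_part]
      rw [hp0, mul_zero]
    rw [← hext, el_ext_mul] at hzero
    have hconv : conv z (ofOmega (blockInd {θ})) = 0 := funext fun n => by
      have := congrArg (fun a : MonoidAlgebra ℂ G => a.coeff (n : G)) hzero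
      simpa [coeff_el, Char.extendByZero_coe] using this
    have hω : omega (θ : N → ℂ) z = 0 := by
      have h1 := omega_conv hz (isClassFunction_ofOmega (blockInd {θ})) θ
      rw [hconv, omega_ofOmega, blockInd_of_mem (Set.mem_singleton θ), mul_one] at h1
      rw [← h1, omega_eq_sum]
      simp
    have hpull : pull N (part N q E ^ K) = red M z := by
      ext n
      rw [coeff_pull, ← hR2, coeff_red, coeff_red]
    rw [lam, hpull, lamG_red hM hz (fun n => hR1 _), hω, res_zero hM]
  -- so each part is nilpotent against `F`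
  have hFc : IsCentralIn N F := bIdem_central N b
  have hnil : ∀ q : G ⧸ N, IsNilpotent (part N q E ^ K * F) := fun q => by
    refine isNilpotent_of_lam hM ((hu q).mul hFc) fun ξ => ?_
    rw [lam_mul hM (hu q) hFc, lam_bIdem hM hb]
    split_ifs with hξ
    · rw [lam_congr hM hb hξ hθ (hu q), hlam q, zero_mul]
    · rw [mul_zero]
  choose j hj using hnil
  have hFF : F * F = F := bIdem_mul_self hM hb
  set L := K * (∑ q, j q + 1)
  have hkill : ∀ q : G ⧸ N, F * part N q E ^ L = 0 := by
    intro q
    set u := part N q E ^ K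
    have hc : Commute u F := (hu q).2.commute hFc.1
    have h1 : (u * F) ^ (∑ q, j q + 1) = 0 := by
      have hle : j q ≤ ∑ q, j q + 1 :=
        le_trans (Finset.single_le_sum (fun i _ => Nat.zero_le (j i)) (Finset.mem_univ q))
          (Nat.le_succ _)
      exact pow_eq_zero_of_le hle (hj q)
    rw [hc.mul_pow] at h1
    have hFp : F ^ (∑ q, j q + 1) = F := IsIdempotentElem.pow_succ_eq _ hFF
    rw [hFp] at h1
    show F * part N q E ^ (K * (∑ q, j q + 1)) = 0
    rw [pow_mul, ← (hc.pow_left _).eq]
    exact h1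
  apply hFE
  have h2 := mul_pow_eq_zero N hE hkill
  rwa [IsIdempotentElem.pow_succ_eq _ (blk_mul_self hM hB)] at h2

end Cfsg.Agent.CosetParts
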