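/-
The theorem of Alperin and Dade: restriction of the principal block to a normal subgroup `N` of
index prime to `p` with `G = N C(P)`, `P` a Sylow `p`-subgroup.

Main results: `aug`, `eq_one_of_trivOn`, `exists_mul_single`, `degree_sum_le`, `alperin_dade`.
-/
import Cfsg.Agent.Lib.CharApp.CosetParts
import Cfsg.Agent.Lib.CharApp.DegreeSets
import Cfsg.Agent.Lib.BlocksNormal.Cover
import Cfsg.Agent.Lib.Codegree.Basic

set_option autoImplicit false
set_option linter.style.haveILetI false

open scoped ComplexConjugate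

namespace Cfsg.Agent.AlperinDade

open Cfsg Cfsg.Agent.Blocks Cfsg.Agent.BrauerPairs Cfsg.Agent.CosetParts

variable {p : ℕ} {M : Ideal AlgInt} {G : Type*} [Group G] [Fintype G] (N : Subgroup G) [N.Normal]
  [Fintype N]

/-- Reduction to the group algebra of the quotient. -/
noncomputable def aug : MonoidAlgebra (Res M) G →+* MonoidAlgebra (Res M) (G ⧸ N) :=
  MonoidAlgebra.mapDomainRingHom (Res M) (QuotientGroup.mk' N)

open scoped Classical in
theorem coeff_aug (a : MonoidAlgebra (Res M) G) (q : G ⧸ N) :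
    (aug N a).coeff q = ∑ x : G, if (x : G ⧸ N) = q then a.coeff x else 0 := by
  rw [aug, MonoidAlgebra.mapDomainRingHom_apply, MonoidAlgebra.coeff_mapDomain, Finsupp.mapDomain,
    Finsupp.sum_fintype _ _ (fun _ => by simp), Finsupp.finsetSum_apply]
  simp [Finsupp.single_apply]

theorem suppC_one {a : MonoidAlgebra (Res M) G} (ha : SuppIn N a) : SuppC N 1 a := fun x hx =>
  ha x fun h => hx ((QuotientGroup.eq_one_iff x).2 h)

/-- On the algebra of `N` the augmentation is the principal central character. -/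
theorem aug_of_central (hM : IsPModular p M) {z : MonoidAlgebra (Res M) G} (hz : IsCentralIn N z) :
    aug N z = MonoidAlgebra.single 1 (lam M N (oneIrr N) z) := by
  classical
  have h1 : lam M N (oneIrr N) z = ∑ n : N, z.coeff n := by
    rw [lam, lamG, omega_eq_sum]
    have : ∑ n : N, lift (pull N z) n * (oneIrr N : N → ℂ) n = ∑ n : N, lift (pull N z) n :=
      Finset.sum_congr rfl fun n _ => mul_one _
    rw [this, show (oneIrr N : N → ℂ) 1 = 1 from rfl, div_one,
      res_sum hM _ (fun n _ => memR_lift hM _ n)]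
    exact Finset.sum_congr rfl fun n _ => res_unres hM _
  ext q
  rw [coeff_aug, MonoidAlgebra.coeff_single, Finsupp.single_apply, h1]
  split_ifs with hq
  · rw [← Finset.sum_filter, ← Finset.sum_filter_of_ne (s := Finset.univ.filter
      (fun x : G => (x : G ⧸ N) = q)) (p := fun x => x ∈ N) (fun x _ hx => SuppIn.mem_of_ne hz.1 hx)]
    refine Finset.sum_subtype _ (fun x => ?_) (fun x : G => z.coeff x)
    subst hq
    simp [QuotientGroup.eq_one_iff]
  · refine Finset.sum_eq_zero fun x _ => ?_
    split_ifs with hx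
    · exact suppC_one N hz.1 x (hx ▸ Ne.symm hq)
    · rfl

omit [N.Normal] in
theorem coset_sum_eq_zero [N.Normal] (χ : IrrCharacter G) (hχ : ¬ CharApp.TrivOn N (χ : G → ℂ))
    (g : G) : ∑ n : N, (χ : G → ℂ) (g * n) = 0 := by
  classical
  haveI := Fintype.ofFinite N
  obtain ⟨n, ρ, hρ, hρχ⟩ := χ.2
  let f : G → ℂ := fun x => if x ∈ N then 1 else 0
  have hf : IsClassFunction G f := fun x h => by
    have hn : N.Normal := inferInstance
    refine if_congr ⟨fun e => ?_, fun e => hn.conj_mem _ e h⟩ rfl rfl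
    simpa [mul_assoc] using hn.conj_mem _ e h⁻¹
  have hop := Char.groupSumOp_eq_smul ρ hf
  set c := (∑ x, f x * ρ.character x) / (Module.finrank ℂ (Fin n → ℂ) : ℂ)
  have hc0 : Char.groupSumOp ρ f = 0 := by
    simp only [CharApp.TrivOn, not_forall] at hχ
    obtain ⟨m, hmk⟩ := hχ
    have hmul : ρ m * Char.groupSumOp ρ f = Char.groupSumOp ρ f := by
      simp only [Char.groupSumOp, Finset.mul_sum, mul_smul_comm, ← map_mul]
      refine Fintype.sum_equiv (Equiv.mulLeft (m : G)) _ _ fun x => ?_
      simp [f, Subgroup.mul_mem_cancel_left _ m.2]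
    rw [hop, ← Module.End.one_eq_id, mul_smul_comm, mul_one] at hmul
    by_contra hne
    refine hmk ?_
    have hc : c ≠ 0 := fun h0 => hne (by rw [hop, h0, zero_smul])
    have : ρ (m : G) = 1 := smul_right_injective _ hc hmul
    rw [← hρχ]
    simp [Representation.character, this]
  have h1 : LinearMap.trace ℂ _ (ρ g * Char.groupSumOp ρ f) = ∑ x : G, f x * ρ.character (g * x) := by
    simp only [Char.groupSumOp, Finset.mul_sum, mul_smul_comm, ← map_mul, map_sum, map_smul,
      smul_eq_mul]
    rfl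
  rw [hc0, mul_zero, map_zero] at h1
  rw [← hρχ]
  refine Eq.trans ?_ h1.symm
  simp only [f, ite_mul, one_mul, zero_mul]
  rw [← Finset.sum_filter]
  exact (Finset.sum_subtype _ (fun x => by simp) (fun x => ρ.character (g * x))).symm

variable (hM : IsPModular p M) (hidx : ¬ p ∣ N.index) (P : Sylow p G)
  (hsup : N ⊔ Subgroup.centralizer ((P : Subgroup G) : Set G) = ⊤)
include hM hidx hsup

/-- The only member of the principal block trivial on `N` is the trivial character. -/
theorem eq_one_of_trivOn [Fact p.Prime] {χ : IrrCharacter G} (hχ : χ ∈ principalBlock M G)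
    (ht : CharApp.TrivOn N (χ : G → ℂ)) : χ = oneIrr G := by
  classical
  by_contra hne
  have hval : ∀ g : G, MemLocalIdeal M ((χ : G → ℂ) 1 - (χ : G → ℂ) g) := by
    intro g
    obtain ⟨n, hn, c, hc, rfl⟩ := Subgroup.mem_sup_of_normal_left.1 (hsup ▸ Subgroup.mem_top g)
    rw [TwoClassChar.ker_mul χ.2 (ht ⟨n, hn⟩) c]
    have hPle : (P : Subgroup G) ≤ Subgroup.centralizer ({c} : Set G) := fun x hx =>
      Subgroup.mem_centralizer_singleton_iff.2 (hc x hx)
    have hi : ¬ p ∣ (Subgroup.centralizer ({c} : Set G)).index := fun h =>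
      P.not_dvd_index (h.trans (Subgroup.index_dvd_of_le hPle))
    set i := (Subgroup.centralizer ({c} : Set G)).index with hidef
    have h1 : MemLocalIdeal M ((i : ℂ) * 1 / 1 - (i : ℂ) * (χ : G → ℂ) c / (χ : G → ℂ) 1) := hχ c
    have h2 := memI_mul_left hM (memR_mul hM (memR_natCast_inv hM hi)
      (memR_of_isIntegral hM (isIntegral_irr χ 1))) h1
    convert h2 using 1
    have := irr_one_ne_zero χ
    have : (i : ℂ) ≠ 0 := Nat.cast_ne_zero.2 Subgroup.index_ne_zero_of_finite
    field_simp
  obtain ⟨ψ, hψ⟩ := Codegree.exists_quot χ N (fun n hn => ht ⟨n, hn⟩)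
  haveI := Fintype.ofFinite (G ⧸ N)
  have hψne : ψ ≠ oneIrr (G ⧸ N) := fun e => hne (Subtype.ext (funext fun g => by
    rw [← hψ g, e]; rfl))
  have horth := Char.classInner_irr_of_ne ψ.2 (oneIrr (G ⧸ N)).2
    (fun e => hψne (Subtype.ext e))
  have hsum : ∑ q : G ⧸ N, (ψ : G ⧸ N → ℂ) q = 0 := by
    simp only [classInner, oneIrr, map_one, mul_one] at horth
    exact (mul_eq_zero.1 horth).resolve_left (inv_ne_zero (Nat.cast_ne_zero.2 Nat.card_pos.ne'))
  have h3 : MemLocalIdeal M (∑ q : G ⧸ N, ((ψ : G ⧸ N → ℂ) 1 - (ψ : G ⧸ N → ℂ) q)) := by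
    refine memI_sum hM _ fun q _ => ?_
    obtain ⟨g, rfl⟩ := QuotientGroup.mk_surjective q
    rw [← QuotientGroup.mk_one, hψ, hψ]
    exact hval g
  rw [Finset.sum_sub_distrib, hsum, sub_zero, Finset.sum_const, Finset.card_univ, nsmul_eq_mul,
    ← Blocks.charDegree_cast, ← Nat.cast_mul, memI_natCast hM, ← Nat.card_eq_fintype_card,
    ← N.index_eq_card] at h3
  rcases (Fact.out : p.Prime).dvd_mul.1 h3 with h4 | h4
  · exact hidx h4
  · exact hidx (by rw [N.index_eq_card]; exact h4.trans (Blocks.charDegree_dvd_card ψ))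

theorem aug_part [Fact p.Prime] (q : G ⧸ N) :
    aug N (part N q (blk M (principalBlock M G))) =
      MonoidAlgebra.single q (res M (N.index : ℂ)⁻¹) := by
  classical
  haveI := Fintype.ofFinite (IrrCharacter G)
  have hB : IsPBlock M (principalBlock M G) := isPBlock_principal
  ext r
  rw [coeff_aug, MonoidAlgebra.coeff_single, Finsupp.single_apply]
  split_ifs with hqr
  · subst hqr
    obtain ⟨g, rfl⟩ := QuotientGroup.mk_surjective q
    have hR : ∀ x : G, MemLocalRing M (blockCoeff (principalBlock M G) x) := memR_blockCoeff hM hB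
    have key : ∑ n : N, blockCoeff (principalBlock M G) (g * n) = (N.index : ℂ)⁻¹ := by
      simp only [blockCoeff_eq_ofOmega, ofOmega_eq_sum, Finset.mul_sum]
      rw [Finset.sum_comm, Finset.sum_eq_single_of_mem (oneIrr G) (Finset.mem_univ _)]
      · simp only [blockInd_of_mem (oneIrr_mem_principal hM)]
        have e1 : ∀ x : G, (oneIrr G : G → ℂ) x = 1 := fun x => rfl
        simp only [e1, map_one, mul_one, Finset.sum_const, Finset.card_univ, nsmul_eq_mul,
          ← Nat.card_eq_fintype_card]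
        rw [← N.card_mul_index, Nat.cast_mul]
        have : (Nat.card N : ℂ) ≠ 0 := Nat.cast_ne_zero.2 Nat.card_pos.ne'
        field_simp
      · intro χ _ hχ
        by_cases hχB : χ ∈ principalBlock M G
        · have hnt : ¬ CharApp.TrivOn N (χ : G → ℂ) := fun ht =>
            hχ (eq_one_of_trivOn N hM hidx P hsup hχB ht)
          rw [← Finset.mul_sum, ← Finset.mul_sum, ← map_sum, coset_sum_eq_zero N χ hnt g, map_zero,
            mul_zero, mul_zero]
        · exact Finset.sum_eq_zero fun n _ => by rw [blockInd_of_notMem hχB]; ring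
    rw [← key, res_sum hM _ (fun n _ => hR _)]
    simp only [coeff_part]
    rw [← Finset.sum_filter]
    refine Finset.sum_bij' (fun x hx => (⟨g⁻¹ * x, ?_⟩ : N)) (fun n _ => g * n) ?_ ?_ ?_ ?_ ?_
    · rw [← QuotientGroup.eq]; exact (Finset.mem_filter.1 hx).2.symm
    · intro x _; exact Finset.mem_univ _
    · intro n _
      refine Finset.mem_filter.2 ⟨Finset.mem_univ _, ?_⟩
      rw [eq_comm, QuotientGroup.eq]; simp
    · intro x _; simp
    · intro n _; exact Subtype.ext (by simp)
    · intro x hx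
      rw [if_pos (Finset.mem_filter.1 hx).2, mul_inv_cancel_left]
      rfl
  · refine Finset.sum_eq_zero fun x _ => ?_
    split_ifs with hx
    · rw [coeff_part, if_neg fun h => hqr (h.symm.trans hx)]
    · rfl

/-- Modulo `M` the right ideal of the block over the principal block of `N` is generated by `N`. -/
theorem exists_mul_single [Fact p.Prime] (g : G) :
    ∃ w : MonoidAlgebra (Res M) G, SuppIn N w ∧
      blk M (principalBlock M G) * bIdem M N (principalBlock M N) * MonoidAlgebra.single g 1 =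
        blk M (principalBlock M G) * bIdem M N (principalBlock M N) * w := by
  classical
  haveI := Fintype.ofFinite (G ⧸ N)
  haveI := res_nontrivial hM
  haveI := res_isDomain hM
  set E : MonoidAlgebra (Res M) G := blk M (principalBlock M G)
  have hb : IsPBlock M (principalBlock M N) := isPBlock_principal
  have h0 : oneIrr N ∈ principalBlock M N := oneIrr_mem_principal hM
  set f : MonoidAlgebra (Res M) G := bIdem M N (principalBlock M N)
  have hfc : IsCentralIn N f := bIdem_central N _
  have hff : f * f = f := bIdem_mul_self hM hb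
  have hE : Fixed ⊤ E := fixed_blk _
  have hEE : E * E = E := blk_mul_self hM isPBlock_principal
  have hEc : ∀ a : MonoidAlgebra (Res M) G, E * a = a * E := fun a => hE.commute SuppIn.top
  set c : Res M := res M (N.index : ℂ)⁻¹
  have hc : c ≠ 0 := fun h => by
    have h1 := (res_eq_zero_iff hM (memR_natCast_inv hM hidx)).1 h
    have h2 := memI_mul_left hM (memR_natCast hM N.index) h1
    rw [mul_inv_cancel₀ (Nat.cast_ne_zero.2 Subgroup.index_ne_zero_of_finite)] at h2
    exact not_memI_one hM h2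
  have haugf : aug N f = 1 := by
    rw [aug_of_central N hM hfc, lam_bIdem hM hb, if_pos h0]
    rfl
  set X : G ⧸ N → MonoidAlgebra (Res M) G := fun q => part N q E * f
  have hXs : ∀ q, SuppC N q (X q) := fun q => by
    simpa using (suppC_part N q E).mul N (suppC_one N hfc.1)
  have hXf : ∀ q, Fixed N (X q) := fun q => (fixed_part N q hE).mul hfc.2
  have haugX : ∀ q, aug N (X q) = MonoidAlgebra.single q c := fun q => by
    simp only [X]
    rw [map_mul, haugf, mul_one, aug_part N hM hidx P hsup q]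
  have hXff : ∀ q, X q * f = X q := fun q => by simp only [X]; rw [mul_assoc, hff]
  set K := Nat.card (G ⧸ N)
  have hK : ∃ K', K = K' + 1 := ⟨K - 1, (Nat.succ_pred_eq_of_pos Nat.card_pos).symm⟩
  obtain ⟨K', hK'⟩ := hK
  have hqK : ∀ q : G ⧸ N, q ^ K = 1 := fun q => pow_card_eq_one'
  have hXpow : ∀ q n, Fixed N (X q ^ n) := fun q n u hu => by rw [map_pow, hXf q u hu]
  have hu : ∀ q, IsCentralIn N (X q ^ K) := fun q =>
    ⟨suppIn_of_suppC N (hqK q ▸ (hXs q).pow N K), hXpow q K⟩
  have hinv : ∀ q : G ⧸ N, ∃ x' : MonoidAlgebra (Res M) G, SuppC N q⁻¹ x' ∧ Fixed N x' ∧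
      X q * x' = f ∧ x' * X q = f ∧ x' * f = x' := by
    intro q
    have hl : lam M N (oneIrr N) (X q ^ K) ≠ 0 := by
      intro h
      have h1 := aug_of_central N hM (hu q)
      rw [h, map_pow, haugX, MonoidAlgebra.single_pow, hqK q] at h1
      have h2 := congrArg (fun a : MonoidAlgebra (Res M) (G ⧸ N) => a.coeff 1) h1
      simp only [MonoidAlgebra.coeff_single, Finsupp.single_eq_same] at h2
      exact hc (pow_eq_zero_iff (by omega : K ≠ 0) |>.1 h2)
    obtain ⟨v, hv, huv⟩ := exists_inverse hM (hu q) hb h0 hl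
    set v' := v * f
    have hv' : IsCentralIn N v' := hv.mul hfc
    have huv' : X q ^ K * v' = f := by
      rw [← mul_assoc, huv]; exact hff
    have hcm : Commute (X q) v' := (hXf q).commute hv'.1
    refine ⟨X q ^ K' * v', ?_, (hXpow q K').mul hv'.2, ?_, ?_, ?_⟩
    · have h1 := ((hXs q).pow N K').mul N (suppC_one N hv'.1)
      have e : q ^ K' * 1 = q⁻¹ := by
        rw [mul_one, eq_inv_iff_mul_eq_one, ← pow_succ, ← hK', hqK]
      rwa [e] at h1
    · rw [← mul_assoc, ← pow_succ', ← hK']; exact huv'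
    · rw [mul_assoc, ← hcm.eq, ← mul_assoc, ← pow_succ, ← hK']; exact huv'
    · rw [mul_assoc, mul_assoc, hff]
  choose X' hX's hX'f hXX' hX'X hX'ff using hinv
  set y := E * f
  have hfX : ∀ q, f * X q = X q := fun q => by
    rw [← (hXf q).commute hfc.1, hXff]
  have hyy : y * y = y := by
    show E * f * (E * f) = E * f
    calc E * f * (E * f) = E * (f * E) * f := by simp only [mul_assoc]
      _ = E * E * (f * f) := by rw [← hEc f]; simp only [mul_assoc]
      _ = E * f := by rw [hEE, hff]
  have hysum : ∑ r : G ⧸ N, X r = y := by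
    simp only [X, y]; rw [← Finset.sum_mul, sum_part]
  have hyX : ∀ q, y * X q = X q * y := fun q => by
    show E * f * X q = X q * (E * f)
    rw [mul_assoc, hfX, hEc, ← mul_assoc, ← hEc, mul_assoc E (X q) f, hXff, hEc]
  have hyf : Fixed N y := (hE.mono le_top).mul hfc.2
  -- the structure constants
  let zz : G ⧸ N → G ⧸ N → MonoidAlgebra (Res M) G := fun q r => X (r * q⁻¹) * X q * X' r
  have hzz : ∀ q r, IsCentralIn N (zz q r) := fun q r =>
    ⟨suppIn_of_suppC N (by
      have h1 := ((hXs (r * q⁻¹)).mul N (hXs q)).mul N (hX's r)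
      have e : r * q⁻¹ * q * r⁻¹ = 1 := by group
      rwa [e] at h1), ((hXf _).mul (hXf q)).mul (hX'f r)⟩
  have hzX : ∀ q r, zz q r * X r = X (r * q⁻¹) * X q := fun q r => by
    show _ * X' r * X r = _
    rw [mul_assoc, hX'X, mul_assoc, hXff]
  have hlz : ∀ q r, lam M N (oneIrr N) (zz q r) = c := fun q r => by
    have h1 := congrArg (aug N) (hzX q r)
    rw [map_mul (aug N) (zz q r) (X r), map_mul (aug N) (X (r * q⁻¹)) (X q),
      aug_of_central N hM (hzz q r), haugX, haugX, haugX,
      MonoidAlgebra.single_mul_single, MonoidAlgebra.single_mul_single, one_mul] at h1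
    have h2 := congrArg (fun a : MonoidAlgebra (Res M) (G ⧸ N) => a.coeff r) h1
    simp only [inv_mul_cancel_right, MonoidAlgebra.coeff_single, Finsupp.single_eq_same] at h2
    exact mul_right_cancel₀ hc h2
  set cc : MonoidAlgebra (Res M) G := MonoidAlgebra.single 1 c
  have hcc : IsCentralIn N cc := by
    refine ⟨fun x hx => ?_, fun u _ => ?_⟩
    · simp only [cc, MonoidAlgebra.coeff_single, Finsupp.single_apply]
      exact if_neg fun (h : (1 : G) = x) => hx (h ▸ N.one_mem)
    · rw [cj_single]; simp [cc]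
  let jj : G ⧸ N → G ⧸ N → MonoidAlgebra (Res M) G := fun q r => zz q r - cc * f
  have hjj : ∀ q r, IsCentralIn N (jj q r) := fun q r => by
    have h1 := hcc.mul hfc
    refine ⟨fun x hx => ?_, fun u hu => ?_⟩
    · simp only [jj, MonoidAlgebra.coeff_sub, Finsupp.sub_apply, (hzz q r).1 x hx, h1.1 x hx, sub_zero]
    · simp only [jj, map_sub, (hzz q r).2 u hu, h1.2 u hu]
  have hnil : ∀ q r, IsNilpotent (jj q r) := fun q r => by
    refine isNilpotent_of_lam hM (hjj q r) fun ξ => ?_
    by_cases hξ : ξ ∈ principalBlock M N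
    · rw [lam_congr hM hb hξ h0 (hjj q r)]
      have h1 : aug N (jj q r) = 0 := by
        simp only [jj, map_sub, map_mul, haugf, mul_one, aug_of_central N hM (hzz q r), hlz q r,
          aug_of_central N hM hcc]
        rw [sub_eq_zero]
        congr 1
        rw [lam, lamG, omega_eq_sum]
        symm
        have e : ∀ n : N, lift (pull N cc) n * (oneIrr N : N → ℂ) n =
            if n = 1 then unres c else unres (0 : Res M) := fun n => by
          rw [show (oneIrr N : N → ℂ) n = 1 from rfl, mul_one, lift, coeff_pull]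
          simp only [cc, MonoidAlgebra.coeff_single, Finsupp.single_apply]
          by_cases hn : n = 1
          · simp [hn]
          · rw [if_neg hn, if_neg fun h => hn (Subtype.ext h.symm)]
        rw [Finset.sum_congr rfl fun n _ => e n, show (oneIrr N : N → ℂ) 1 = 1 from rfl, div_one,
          res_sum hM _ (fun n _ => by split_ifs <;> exact memR_unres hM _), Finset.sum_eq_single (1 : N)]
        · rw [if_pos rfl, res_unres hM]
        · intro n _ hn; rw [if_neg hn, res_unres hM]
        · intro h; exact absurd (Finset.mem_univ _) h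
      have h2 := aug_of_central N hM (hjj q r)
      rw [h1] at h2
      have h3 := congrArg (fun a : MonoidAlgebra (Res M) (G ⧸ N) => a.coeff 1) h2
      simpa [MonoidAlgebra.coeff_single] using h3.symm
    · have e : jj q r * f = jj q r := by
        simp only [jj, zz, sub_mul, mul_assoc, hX'ff, hff]
      rw [← e, lam_mul hM (hjj q r) hfc, lam_bIdem hM hb, if_neg hξ, mul_zero]
  -- solve the linear system over the centre of the algebra of `N`
  have hmemZ : ∀ q r, pull N (jj q r) ∈ Subring.center (MonoidAlgebra (Res M) N) := fun q r => by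
    rw [Subring.mem_center_iff]
    exact fun a => ((fixed_pull (hjj q r).2).commute (b := a) SuppIn.top).symm
  let Z := Subring.center (MonoidAlgebra (Res M) N)
  let J : Matrix (G ⧸ N) (G ⧸ N) Z := fun q r => ⟨pull N (jj q r), hmemZ q r⟩
  let φ : Z →+* MonoidAlgebra (Res M) G := (emb N).comp Z.subtype
  have hJnil : ∀ q r, J q r ∈ nilradical Z := fun q r => by
    rw [mem_nilradical]
    obtain ⟨m, hm⟩ := hnil q r
    refine ⟨m, Subtype.ext ?_⟩
    have h1 : emb N ((pull N (jj q r)) ^ m) = 0 := by rw [map_pow, emb_pull (hjj q r).1, hm]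
    have h2 := congrArg (pull N) h1
    rw [pull_emb] at h2
    rw [SubmonoidClass.coe_pow]
    rw [h2, ← map_zero (emb (M := M) N), pull_emb]
    rfl
  have hdet : IsUnit ((1 - J : Matrix (G ⧸ N) (G ⧸ N) Z)).det := by
    let π := Ideal.Quotient.mk (nilradical Z)
    have h1 : π ((1 - J : Matrix (G ⧸ N) (G ⧸ N) Z)).det = 1 := by
      rw [RingHom.map_det]
      have : π.mapMatrix (1 - J) = 1 := by
        rw [map_sub, map_one, sub_eq_self]
        ext q r
        exact (Ideal.Quotient.eq_zero_iff_mem).2 (hJnil q r)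
      rw [this, Matrix.det_one]
    have h2 : IsNilpotent ((1 - J : Matrix (G ⧸ N) (G ⧸ N) Z).det - 1) := by
      rw [← mem_nilradical, ← Ideal.Quotient.eq_zero_iff_mem]
      show π _ = 0
      rw [map_sub, h1, map_one, sub_self]
    simpa using h2.isUnit_add_one
  let C := (1 - J : Matrix (G ⧸ N) (G ⧸ N) Z)⁻¹
  have hCJ : C * (1 - J) = 1 := Matrix.nonsing_inv_mul _ hdet
  let v : G ⧸ N → MonoidAlgebra (Res M) G := fun q => y * X q
  have hsys : ∀ q, v q - ∑ r, φ (J q r) * v r = cc * y := fun q => by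
    have hsumv : ∑ r, v r = y := by simp only [v, ← Finset.mul_sum, hysum, hyy]
    have h1 : v q = ∑ r, zz q r * v r := by
      have e : ∀ r, zz q r * v r = X (r * q⁻¹) * X q * y := fun r => by
        show zz q r * (y * X r) = _
        rw [hyX, ← mul_assoc, hzX]
      rw [Finset.sum_congr rfl fun r _ => e r, ← Finset.sum_mul, ← Finset.sum_mul,
        Fintype.sum_equiv (Equiv.mulRight q⁻¹) (fun r => X (r * q⁻¹)) X (fun r => rfl), hysum,
        mul_assoc, ← hyX, ← mul_assoc, hyy]
    have h2 : ∀ r, φ (J q r) = jj q r := fun r => emb_pull (hjj q r).1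
    have h3 : ∀ r, f * v r = v r := fun r => by
      show f * (y * X r) = y * X r
      rw [hyX, ← mul_assoc, hfX]
    simp only [h2, jj, sub_mul, Finset.sum_sub_distrib, ← h1, sub_sub_cancel, mul_assoc, h3,
      ← Finset.mul_sum, hsumv]
  have hsol : ∀ q, v q = ∑ r, φ (C q r) * (cc * y) := fun q => by
    have h1 : ∀ r, φ (C q r) * (cc * y) =
        φ (C q r) * v r - ∑ s, φ (C q r * J r s) * v s := fun r => by
      rw [← hsys r, mul_sub, Finset.mul_sum]
      simp only [map_mul, mul_assoc]
    rw [Finset.sum_congr rfl fun r _ => h1 r, Finset.sum_sub_distrib, Finset.sum_comm,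
      ← Finset.sum_sub_distrib]
    have h2 : ∀ s, φ (C q s) * v s - ∑ r, φ (C q r * J r s) * v s =
        φ ((C * (1 - J)) q s) * v s := fun s => by
      rw [Matrix.mul_sub, Matrix.mul_one, Matrix.sub_apply, map_sub, sub_mul, Matrix.mul_apply,
        map_sum, Finset.sum_mul]
    rw [Finset.sum_congr rfl fun s _ => h2 s, hCJ, Finset.sum_eq_single q]
    · rw [Matrix.one_apply_eq, map_one, one_mul]
    · intro s _ hs; rw [Matrix.one_apply_ne (Ne.symm hs), map_zero, zero_mul]
    · intro h; exact absurd (Finset.mem_univ _) h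
  set q₀ : G ⧸ N := (g : G ⧸ N)
  set W : MonoidAlgebra (Res M) G := ∑ r, φ (C q₀ r) * cc
  have hW : SuppIn N W := SuppIn.sum _ fun r _ => (suppIn_emb N _).mul hcc.1
  refine ⟨W * (X' q₀ * MonoidAlgebra.single g 1), hW.mul (suppIn_of_suppC N ?_), ?_⟩
  · have h1 : SuppC N (g : G ⧸ N) (MonoidAlgebra.single g (1 : Res M)) := fun x hx => by
      rw [MonoidAlgebra.coeff_single, Finsupp.single_apply, if_neg]
      exact fun h => hx (h ▸ rfl)
    have := (hX's q₀).mul N h1
    rwa [inv_mul_cancel] at this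
  · show y * MonoidAlgebra.single g 1 = y * _
    have h1 : y * W = y * X q₀ := by
      show y * W = v q₀
      rw [hsol q₀, hyf.commute hW, Finset.sum_mul]
      simp only [mul_assoc]
    rw [← mul_assoc y W, h1, mul_assoc y (X q₀), ← mul_assoc (X q₀), hXX', ← mul_assoc]
    show E * f * _ = E * f * f * _
    rw [mul_assoc E f f, hff]

/-- The degrees in the principal block of `G` are bounded by those of `N`. -/
theorem degree_sum_le [Fact p.Prime] [Fintype (IrrCharacter G)] [Fintype (IrrCharacter N)]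
    [DecidablePred (· ∈ principalBlock M G)] [DecidablePred (· ∈ principalBlock M N)] :
    ∃ D : ℕ, (D : ℂ) = ∑ χ ∈ Finset.univ.filter (· ∈ principalBlock M G), (χ : G → ℂ) 1 *
        ∑ θ ∈ Finset.univ.filter (· ∈ principalBlock M N), (θ : N → ℂ) 1 *
          classInner (fun n : N => (χ : G → ℂ) n) (θ : N → ℂ) ∧
      D ≤ ∑ θ ∈ Finset.univ.filter (· ∈ principalBlock M N), charDegree (θ : N → ℂ) ^ 2 := by
  classical
  set B := principalBlock M G
  set b := principalBlock M N
  have hB : IsPBlock M B := isPBlock_principal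
  have hb : IsPBlock M b := isPBlock_principal
  set eC : MonoidAlgebra ℂ G := el (blockCoeff B)
  set fz : N → ℂ := ofOmega (blockInd b) with hfz
  set fC : MonoidAlgebra ℂ G := el (extendByZero N fz)
  have hRe : ∀ x, MemLocalRing M (eC.coeff x) := memR_blockCoeff hM hB
  have hRf : ∀ x, MemLocalRing M (fC.coeff x) := fun x => by
    show MemLocalRing M (extendByZero N fz x)
    by_cases hx : x ∈ N
    · rw [Char.extendByZero_mem N _ hx]; exact blockInd_mem_intRing hM hb _
    · rw [Char.extendByZero_not_mem N _ hx]; exact memR_zero hM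
  have hred : red M ⇑fC.coeff = bIdem M N b := by
    ext x
    rw [coeff_red]
    show res M (extendByZero N fz x) = _
    rw [hfz, ← blockCoeff_eq_ofOmega]
    by_cases hx : x ∈ N
    · rw [Char.extendByZero_mem N _ hx]
      exact (coeff_emb_coe N (blk M b) ⟨x, hx⟩).symm
    · rw [Char.extendByZero_not_mem N _ hx, res_zero hM]
      exact (suppIn_emb N (blk M b) x hx).symm
  have hcomm : ∀ a : MonoidAlgebra ℂ G, eC * a = a * eC := fun a =>
    (fixed_el (Blocks.isClassFunction_blockCoeff B)).commute SuppIn.top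
  have hidem : ∀ {H : Type _} [Group H] [Fintype H] (S : Set (IrrCharacter H)),
      conv (ofOmega (blockInd S)) (ofOmega (blockInd S)) = ofOmega (blockInd S) := by
    intro H _ _ S
    rw [← ofOmega_mul]
    congr 1
    funext ξ
    by_cases h : ξ ∈ S
    · simp [blockInd_of_mem h]
    · simp [blockInd_of_notMem h]
  have hff : fC * fC = fC := by
    show el _ * el _ = el _
    rw [el_ext_mul, hfz, hidem]
  have hee : eC * eC = eC := by
    show el _ * el _ = el _
    rw [← el_conv, blockCoeff_eq_ofOmega, hidem]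
  set y := eC * fC
  have hyy : y * y = y := by
    show eC * fC * (eC * fC) = eC * fC
    calc eC * fC * (eC * fC) = eC * (fC * eC) * fC := by simp only [mul_assoc]
      _ = eC * eC * (fC * fC) := by rw [← hcomm fC]; simp only [mul_assoc]
      _ = eC * fC := by rw [hee, hff]
  obtain ⟨hRy, hry⟩ := red_mul hM hRe hRf
  let Pm : Matrix G G ℂ := fun a c => y.coeff (a * c⁻¹)
  have hPv : ∀ v : G → ℂ, Matrix.toLin' Pm v = ⇑(y * el v).coeff := fun v => funext fun a => by
    rw [Matrix.toLin'_apply, Matrix.mulVec, dotProduct, coeff_mul_eq_sum]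
    refine Fintype.sum_equiv ((Equiv.inv G).trans (Equiv.mulLeft a)) _ _ fun c => ?_
    simp only [Pm, coeff_el, Equiv.trans_apply, Equiv.inv_apply, Equiv.coe_mulLeft]
    congr 2
    group
  let Fm : Matrix N N ℂ := fun a c => fz (a * c⁻¹)
  have hFv : ∀ v : N → ℂ, Matrix.toLin' Fm v = conv fz v := fun v => funext fun a => by
    rw [Matrix.toLin'_apply, Matrix.mulVec, dotProduct, conv_eq_sum]
    refine Fintype.sum_equiv ((Equiv.inv N).trans (Equiv.mulLeft a)) _ _ fun c => ?_
    simp only [Fm, Equiv.trans_apply, Equiv.inv_apply, Equiv.coe_mulLeft]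
    congr 2
    group
  have hel : ∀ a : MonoidAlgebra ℂ G, el (⇑a.coeff) = a := fun a => by ext x; rfl
  let Φ : (N → ℂ) →ₗ[ℂ] (G → ℂ) :=
    { toFun := fun a => ⇑(eC * el (extendByZero N a)).coeff
      map_add' := fun a a' => funext fun x => by
        simp only [Pi.add_apply, coeff_mul_eq_sum, coeff_el, Char.extendByZero_add, mul_add,
          Finset.sum_add_distrib]
      map_smul' := fun r a => funext fun x => by
        simp only [Pi.smul_apply, smul_eq_mul, RingHom.id_apply, coeff_mul_eq_sum, coeff_el,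
          Char.extendByZero_smul, Finset.mul_sum]
        exact Finset.sum_congr rfl fun y _ => by ring }
  set W : Submodule ℂ (G → ℂ) := (LinearMap.range (Matrix.toLin' Fm)).map Φ
  let u : G → (G → ℂ) := fun g => Matrix.toLin' Pm (Pi.single g 1)
  have hvec : ∀ v : G → ℂ, Matrix.toLin' Pm v = ∑ h, v h • u h := fun v => by
    conv_lhs => rw [pi_eq_sum_univ' v, map_sum]
    exact Finset.sum_congr rfl fun h _ => map_smul _ _ _
  have huN : ∀ n : N, u (n : G) ∈ W := fun n => by
    refine ⟨Matrix.toLin' Fm (Pi.single n 1), ⟨_, rfl⟩, ?_⟩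
    show ⇑(eC * el (extendByZero N (Matrix.toLin' Fm (Pi.single n 1)))).coeff = _
    rw [hFv, ← el_ext_mul, ← mul_assoc]
    show _ = Matrix.toLin' Pm (Pi.single (n : G) 1)
    rw [hPv]
    congr 4
    funext x
    by_cases hx : x ∈ N
    · rw [Char.extendByZero_mem N _ hx, Pi.single_apply, Pi.single_apply]
      exact if_congr Subtype.ext_iff rfl rfl
    · rw [Char.extendByZero_not_mem N _ hx, Pi.single_apply, if_neg fun (h : x = (n : G)) => hx (h.symm ▸ n.2)]
  choose w hwN hw using fun g : G => exists_mul_single N hM hidx P hsup g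
  let wC : G → G → ℂ := fun g x => if x ∈ N then unres ((w g).coeff x) else 0
  have hRw : ∀ g x, MemLocalRing M ((el (wC g)).coeff x) := fun g x => by
    show MemLocalRing M (wC g x)
    simp only [wC]
    split_ifs
    · exact memR_unres hM _
    · exact memR_zero hM
  have hrw : ∀ g, red M ⇑(el (wC g)).coeff = w g := fun g => by
    ext x
    show res M (wC g x) = _
    simp only [wC]
    split_ifs with hx
    · exact res_unres hM _
    · rw [res_zero hM, hwN g x hx]
  let S : Matrix G G ℂ := fun g x => u g x - Matrix.toLin' Pm (wC g) x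
  have hS : ∀ g x, MemLocalIdeal M (S g x) := fun g x => by
    have hR1 : ∀ z, MemLocalRing M ((el (Pi.single g (1 : ℂ))).coeff z) := fun z => by
      rw [coeff_el, Pi.single_apply]
      split_ifs
      · exact memR_one hM
      · exact memR_zero hM
    obtain ⟨ha, ha'⟩ := red_mul hM hRy hR1
    obtain ⟨hc, hc'⟩ := red_mul hM hRy (hRw g)
    have e1 : red M ⇑(el (Pi.single g (1 : ℂ))).coeff = MonoidAlgebra.single g 1 := by
      ext z
      rw [coeff_red, coeff_el, Pi.single_apply, MonoidAlgebra.coeff_single, Finsupp.single_apply]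
      by_cases hz : z = g
      · rw [if_pos hz, if_pos hz.symm, res_one hM]
      · rw [if_neg hz, if_neg (Ne.symm hz), res_zero hM]
    have hryy : red M ⇑y.coeff = blk M B * bIdem M N b := by
      show red M ⇑(eC * fC).coeff = _
      rw [hry, hred]; rfl
    rw [e1, hryy, hw g] at ha'
    rw [hrw, hryy, ← ha'] at hc'
    show MemLocalIdeal M (u g x - Matrix.toLin' Pm (wC g) x)
    simp only [u]
    rw [hPv, hPv]
    exact (red_eq_iff hM ha hc).1 hc'.symm x
  have hSrow : ∀ g, u g - Matrix.toLin' Pm (wC g) = ∑ h, S g h • u h := fun g => by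
    rw [← hvec (S g)]
    have e : ∀ v, Matrix.toLin' Pm (Matrix.toLin' Pm v) = Matrix.toLin' Pm v := fun v => by
      rw [hPv, hPv, hel, ← mul_assoc, hyy]
    show _ = Matrix.toLin' Pm (u g - Matrix.toLin' Pm (wC g))
    rw [map_sub, e]
    simp only [u, e]
  have hwW : ∀ g, Matrix.toLin' Pm (wC g) ∈ W := fun g => by
    rw [hvec]
    refine Submodule.sum_mem _ fun h _ => ?_
    by_cases hh : h ∈ N
    · exact Submodule.smul_mem _ _ (huN ⟨h, hh⟩)
    · simp only [wC, if_neg hh, zero_smul, Submodule.zero_mem]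
  have hdet : ((1 : Matrix G G ℂ) - S).det ≠ 0 := by
    refine det_ne_zero_of_congr_one hM _ fun i j => ?_
    have e : ((1 : Matrix G G ℂ) - S) i j - (1 : Matrix G G ℂ) i j = -S i j := by
      rw [Matrix.sub_apply]; ring
    rw [e]
    exact memI_neg (hS i j)
  have huW : ∀ g, u g ∈ W := fun g => by
    have h1 : ∀ r, ∑ h, ((1 : Matrix G G ℂ) - S) r h • u h ∈ W := fun r => by
      have : ∑ h, ((1 : Matrix G G ℂ) - S) r h • u h = Matrix.toLin' Pm (wC r) := by
        simp only [Matrix.sub_apply, sub_smul, Finset.sum_sub_distrib, ← hSrow r, Matrix.one_apply,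
          ite_smul, one_smul, zero_smul, Finset.sum_ite_eq, Finset.mem_univ, if_true, sub_sub_cancel]
      rw [this]; exact hwW r
    have h2 : u g = ∑ r, ((1 : Matrix G G ℂ) - S)⁻¹ g r • ∑ h, ((1 : Matrix G G ℂ) - S) r h • u h := by
      simp only [Finset.smul_sum, smul_smul]
      rw [Finset.sum_comm]
      have : ∀ h, ∑ r, (((1 : Matrix G G ℂ) - S)⁻¹ g r * ((1 : Matrix G G ℂ) - S) r h) • u h =
          (1 : Matrix G G ℂ) g h • u h := fun h => by
        rw [← Finset.sum_smul, ← Matrix.mul_apply,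
          Matrix.nonsing_inv_mul _ (isUnit_iff_ne_zero.2 hdet)]
      rw [Finset.sum_congr rfl fun h _ => this h]
      simp [Matrix.one_apply, ite_smul]
    rw [h2]
    exact Submodule.sum_mem _ fun r _ => Submodule.smul_mem _ _ (h1 r)
  have hrange : LinearMap.range (Matrix.toLin' Pm) ≤ W := by
    rintro _ ⟨v, rfl⟩
    rw [hvec]
    exact Submodule.sum_mem _ fun h _ => Submodule.smul_mem _ _ (huW h)
  have hPidem : IsIdempotentElem (Matrix.toLin' Pm) := LinearMap.ext fun v => by
    show Matrix.toLin' Pm (Matrix.toLin' Pm v) = Matrix.toLin' Pm v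
    rw [hPv, hPv, hel, ← mul_assoc, hyy]
  have hFidem : IsIdempotentElem (Matrix.toLin' Fm) := LinearMap.ext fun v => by
    show Matrix.toLin' Fm (Matrix.toLin' Fm v) = Matrix.toLin' Fm v
    have hconv : ∀ a c d : N → ℂ, conv a (conv c d) = conv (conv a c) d := fun a c d => by
      have := congrArg (fun z : MonoidAlgebra ℂ N => (⇑z.coeff : N → ℂ))
        (mul_assoc (el a) (el c) (el d))
      rw [← el_conv, ← el_conv, ← el_conv, ← el_conv] at this
      exact this.symm
    rw [hFv, hFv, hconv, hfz, hidem]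
  have h1 := (LinearMap.IsIdempotentElem.isProj_range _ hPidem).trace
  have h2 := (LinearMap.IsIdempotentElem.isProj_range _ hFidem).trace
  rw [Matrix.trace_toLin'_eq] at h1 h2
  refine ⟨Module.finrank ℂ (LinearMap.range (Matrix.toLin' Pm)), ?_, ?_⟩
  · rw [← h1]
    simp only [Matrix.trace, Matrix.diag, Pm, mul_inv_cancel, Finset.sum_const, Finset.card_univ,
      nsmul_eq_mul, ← Nat.card_eq_fintype_card]
    show (Nat.card G : ℂ) * (eC * fC).coeff 1 = _
    rw [hcomm, el_mul_coeff_one, ← mul_assoc,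
      mul_inv_cancel₀ (Nat.cast_ne_zero.2 Nat.card_pos.ne'), one_mul]
    all_goals congr!
  · refine le_trans (Submodule.finrank_mono hrange) (le_trans (Submodule.finrank_map_le _ _) ?_)
    refine le_of_eq ?_
    rw [← Nat.cast_inj (R := ℂ), ← h2]
    simp only [Matrix.trace, Matrix.diag, Fm, mul_inv_cancel, Finset.sum_const, Finset.card_univ,
      nsmul_eq_mul, ← Nat.card_eq_fintype_card, hfz, ofOmega_eq_sum]
    rw [← mul_assoc, mul_inv_cancel₀ (Nat.cast_ne_zero.2 Nat.card_pos.ne'), one_mul,
      ← Finset.sum_filter_of_ne (p := (· ∈ b)) (fun θ _ hne => by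
        by_contra hθ
        exact hne (by rw [blockInd_of_notMem hθ, zero_mul, zero_mul]))]
    push_cast
    refine Finset.sum_congr (by ext; simp [b]) fun θ hθ => ?_
    rw [blockInd_of_mem (show θ ∈ b by simpa [b] using hθ), one_mul, ← Blocks.charDegree_cast,
      Complex.conj_natCast, sq]

/-- **Alperin–Dade.** -/
theorem alperin_dade [Fact p.Prime] :
    (∀ χ ∈ principalBlock M G, ∃ θ ∈ principalBlock M N, ∀ n : N,
      (χ : G → ℂ) n = (θ : N → ℂ) n) ∧
    ∀ θ ∈ principalBlock M N, ∃! χ : IrrCharacter G, χ ∈ principalBlock M G ∧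
      ∀ n : N, (χ : G → ℂ) n = (θ : N → ℂ) n := by
  classical
  haveI := Fintype.ofFinite (IrrCharacter G)
  haveI := Fintype.ofFinite (IrrCharacter N)
  set B := principalBlock M G
  set b := principalBlock M N
  have hB : IsPBlock M B := isPBlock_principal
  have hb : IsPBlock M b := isPBlock_principal
  have hone : classInner (fun n : N => (oneIrr G : G → ℂ) n) (oneIrr N : N → ℂ) ≠ 0 := by
    show classInner (oneIrr N : N → ℂ) (oneIrr N : N → ℂ) ≠ 0
    rw [Char.classInner_irr_self (oneIrr N).2]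
    exact one_ne_zero
  choose e he using fun (χ : IrrCharacter G) (θ : IrrCharacter N) =>
    Char.IsCharacter.classInner_nat (Char.IsCharacter.restrict
      (Char.IsIrrCharacter.isCharacter χ.2) N) (Char.IsIrrCharacter.isCharacter θ.2)
  obtain ⟨D, hD, hle⟩ := degree_sum_le N hM hidx P hsup
  simp only [he, ← Blocks.charDegree_cast] at hD
  norm_cast at hD
  have hdeg : ∀ χ θ, e χ θ ≠ 0 → e χ θ * charDegree (θ : N → ℂ) ≤ charDegree (χ : G → ℂ) :=
    fun χ θ _ => CharApp.classInner_nat_le_degree
      (Char.IsCharacter.restrict (Char.IsIrrCharacter.isCharacter χ.2) N) θ.2 (he χ θ)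
      (by rw [OneMemClass.coe_one, Blocks.charDegree_cast]) (Blocks.charDegree_cast θ).symm
  -- each member of `b` has a total at least the square of its degree
  set T : IrrCharacter N → ℕ := fun θ => ∑ χ ∈ Finset.univ.filter (· ∈ B),
    charDegree (χ : G → ℂ) * (charDegree (θ : N → ℂ) * e χ θ)
  have hDT : D = ∑ θ ∈ Finset.univ.filter (· ∈ b), T θ := by
    rw [hD, Finset.sum_comm]
    exact Finset.sum_congr rfl fun χ _ => Finset.mul_sum _ _ _
  have hexists : ∀ θ ∈ b, ∃ χ ∈ B, e χ θ ≠ 0 := by
    intro θ hθ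
    obtain ⟨χ, hχ, hne⟩ := exists_under_of_covers N hM hB hb
      ⟨oneIrr G, oneIrr_mem_principal hM, oneIrr N, oneIrr_mem_principal hM, hone⟩ hθ
    exact ⟨χ, hχ, fun h0 => hne (by rw [he, h0, Nat.cast_zero])⟩
  have hge : ∀ θ ∈ Finset.univ.filter (· ∈ b), charDegree (θ : N → ℂ) ^ 2 ≤ T θ := by
    intro θ hθ
    obtain ⟨χ, hχ, hne⟩ := hexists θ (Finset.mem_filter.1 hθ).2
    refine le_trans ?_ (Finset.single_le_sum (fun i _ => Nat.zero_le _)
      (Finset.mem_filter.2 ⟨Finset.mem_univ χ, hχ⟩))
    rw [sq]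
    exact Nat.mul_le_mul (le_trans (Nat.le_mul_of_pos_left _ (Nat.pos_of_ne_zero hne)) (hdeg χ θ hne))
      (Nat.le_mul_of_pos_right _ (Nat.pos_of_ne_zero hne))
  have heq : ∀ θ ∈ b, T θ = charDegree (θ : N → ℂ) ^ 2 := fun θ hθ => by
    have := (Finset.sum_eq_sum_iff_of_le hge).1
      (le_antisymm (Finset.sum_le_sum hge) (hDT ▸ hle)) θ (by simp [hθ])
    exact this.symm
  -- whoever lies over a member of `b` restricts to it
  have hres : ∀ θ ∈ b, ∀ χ ∈ B, e χ θ ≠ 0 → ∀ n : N, (χ : G → ℂ) n = (θ : N → ℂ) n := by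
    intro θ hθ χ hχ hne
    have h1 : charDegree (χ : G → ℂ) * (charDegree (θ : N → ℂ) * e χ θ) ≤
        charDegree (θ : N → ℂ) * charDegree (θ : N → ℂ) := by
      rw [← sq, ← heq θ hθ]
      exact Finset.single_le_sum (f := fun χ : IrrCharacter G =>
        charDegree (χ : G → ℂ) * (charDegree (θ : N → ℂ) * e χ θ))
        (fun i _ => Nat.zero_le _) (Finset.mem_filter.2 ⟨Finset.mem_univ χ, hχ⟩)
    have h2 := hdeg χ θ hne
    have hpos := Blocks.charDegree_pos θ
    have hepos := Nat.pos_of_ne_zero hne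
    have h3 : charDegree (χ : G → ℂ) ≤ charDegree (θ : N → ℂ) := by
      have h4 : charDegree (χ : G → ℂ) * charDegree (θ : N → ℂ) ≤
          charDegree (θ : N → ℂ) * charDegree (θ : N → ℂ) :=
        le_trans (Nat.mul_le_mul_left _ (Nat.le_mul_of_pos_right _ hepos)) h1
      exact Nat.le_of_mul_le_mul_right h4 hpos
    have h4 : charDegree (χ : G → ℂ) = charDegree (θ : N → ℂ) :=
      le_antisymm h3 (le_trans (Nat.le_mul_of_pos_left _ hepos) h2)
    intro n
    have h5 : (fun n : N => (χ : G → ℂ) n) = (θ : N → ℂ) :=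
      CharApp.eq_of_constituent_of_degree
        (Char.IsCharacter.restrict (Char.IsIrrCharacter.isCharacter χ.2) N) θ.2
        (by rw [he]; exact Nat.cast_ne_zero.2 hne) (a := charDegree (θ : N → ℂ))
        (by rw [OneMemClass.coe_one, ← Blocks.charDegree_cast, h4]) (Blocks.charDegree_cast θ).symm
    exact congrFun h5 n
  have hstable : ∀ (g : G) (θ : IrrCharacter N), θ ∈ b → BlocksNormal.conjIrr N g θ ∈ b :=
    fun g θ hθ => by
      have h1 := BlocksNormal.sameBlock_conjIrr N g (θ := oneIrr N) (φ := θ) hθ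
      exact h1
  refine ⟨fun χ hχ => ?_, fun θ hθ => ?_⟩
  · obtain ⟨φ, hφ⟩ := BlocksNormal.exists_constituent N χ
    obtain ⟨g, hg⟩ := BlocksNormal.exists_conjIrr_mem_of_sameBlock N hM hb
      (show SameBlock M (oneIrr G : G → ℂ) (χ : G → ℂ) from hχ) (oneIrr_mem_principal hM) hone hφ
    have hφb : φ ∈ b := by
      have := hstable g⁻¹ _ hg
      rwa [← BlocksNormal.conjIrr_mul, inv_mul_cancel, BlocksNormal.conjIrr_one] at this
    exact ⟨φ, hφb, hres φ hφb χ hχ fun h0 => hφ (by rw [he, h0, Nat.cast_zero])⟩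
  · obtain ⟨χ, hχ, hne⟩ := hexists θ hθ
    refine ⟨χ, ⟨hχ, hres θ hθ χ hχ hne⟩, fun χ' ⟨hχ', hr'⟩ => ?_⟩
    have hne' : e χ' θ ≠ 0 := fun h0 => by
      have := he χ' θ
      rw [funext hr', Char.classInner_irr_self θ.2, h0, Nat.cast_zero] at this
      exact one_ne_zero this
    by_contra hneq
    have h1 := heq θ hθ
    have h2 : ∑ i ∈ ({χ, χ'} : Finset (IrrCharacter G)),
        charDegree (i : G → ℂ) * (charDegree (θ : N → ℂ) * e i θ) ≤ T θ :=
      Finset.sum_le_sum_of_subset (fun i hi => by
        rcases Finset.mem_insert.1 hi with rfl | hi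
        · simp [hχ]
        · rw [Finset.mem_singleton.1 hi]; simp [hχ'])
    rw [Finset.sum_pair (Ne.symm hneq), h1, sq] at h2
    have h3 : charDegree (θ : N → ℂ) * charDegree (θ : N → ℂ) ≤
        charDegree (χ : G → ℂ) * (charDegree (θ : N → ℂ) * e χ θ) :=
      Nat.mul_le_mul (le_trans (Nat.le_mul_of_pos_left _ (Nat.pos_of_ne_zero hne)) (hdeg χ θ hne))
        (Nat.le_mul_of_pos_right _ (Nat.pos_of_ne_zero hne))
    have h4 : 0 < charDegree (χ' : G → ℂ) * (charDegree (θ : N → ℂ) * e χ' θ) :=
      Nat.mul_pos (Blocks.charDegree_pos χ') (Nat.mul_pos (Blocks.charDegree_pos θ) (Nat.pos_of_ne_zero hne'))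
    omega

end Cfsg.Agent.AlperinDade
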