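/-
Broline's theorem: a character whose kernel is not nilpotent (or is the Fitting subgroup with
solvable quotient) is dominated by one of larger degree and smaller kernel.

Main results: `apply_eq_of_constituent`, `exists_larger`, `exists_larger_of_sylow`, `broline`.
-/
import Cfsg.Agent.Lib.Codegree.Basic
import Cfsg.Agent.Lib.CharApp.Clifford
import Cfsg.Agent.Lib.Transfer.Focal
import Cfsg.Agent.Lib.Cores.Fitting
import Cfsg.Agent.Lib.Solvable.Basic

set_option autoImplicit false
set_option linter.style.haveILetI false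

open scoped ComplexConjugate

namespace Cfsg.Agent.Broline

open Cfsg Cfsg.Agent.Codegree
open Cfsg.Agent.TwoClassChar (deg_eq deg_pos char_conj ker_mul)

/-- An element in the kernel of a character is in the kernel of each constituent. -/
theorem apply_eq_of_constituent {A : Type*} [Group A] [Fintype A] {π ψ : A → ℂ}
    (hπ : IsCharacter A π) (hψ : IsIrrCharacter A ψ) (hne : classInner π ψ ≠ 0) {h : A}
    (he : π h = π 1) : ψ h = ψ 1 := by
  haveI := Fintype.ofFinite (IrrCharacter A)
  obtain ⟨m, hm, hin⟩ := Char.IsCharacter.decompose hπ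
  have hreal : ∀ φ : IrrCharacter A, ((φ : A → ℂ) 1).im = 0 := fun φ => by
    rw [deg_eq φ.2, Complex.natCast_im]
  have hre : ∀ φ : IrrCharacter A, ((φ : A → ℂ) h).re ≤ ((φ : A → ℂ) 1).re := fun φ =>
    (Complex.re_le_norm _).trans (Char.IsCharacter.norm_le (Char.IsIrrCharacter.isCharacter φ.2) h)
  rw [hm] at he
  have h2 := congrArg Complex.re he
  simp only [Finset.sum_apply, Pi.smul_apply, smul_eq_mul, Complex.re_sum, Complex.mul_re,
    Complex.natCast_re, Complex.natCast_im, zero_mul, sub_zero] at h2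
  have h3 := (Finset.sum_eq_sum_iff_of_le fun φ _ =>
    mul_le_mul_of_nonneg_left (hre φ) (Nat.cast_nonneg (m φ))).1 h2 ⟨ψ, hψ⟩ (Finset.mem_univ _)
  have hm0 : (m ⟨ψ, hψ⟩ : ℝ) ≠ 0 := Nat.cast_ne_zero.2 fun h0 => hne (by
    rw [show classInner π ψ = _ from hin ⟨ψ, hψ⟩, h0, Nat.cast_zero])
  have h4 : (ψ h).re = (ψ 1).re := mul_left_cancel₀ hm0 h3
  have h5 : ‖ψ h‖ ≤ (ψ 1).re := Char.IsCharacter.norm_le (Char.IsIrrCharacter.isCharacter hψ) h
  have h6 : |(ψ h).re| ≤ ‖ψ h‖ := Complex.abs_re_le_norm _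
  have h7 : (ψ h).im = 0 := by
    refine Complex.abs_re_eq_norm.1 (le_antisymm h6 ?_)
    rw [h4]
    exact h5.trans (le_abs_self _)
  exact Complex.ext h4 (by rw [h7]; exact (hreal ⟨ψ, hψ⟩).symm)

variable {G : Type*} [Group G] [Fintype G]

/-- Restriction to a supplement of the kernel stays irreducible. -/
theorem restrict_irr (χ : IrrCharacter G) (H : Subgroup G) (hsup : kerSub χ ⊔ H = ⊤) :
    IsIrrCharacter H (fun x : H => (χ : G → ℂ) x) := by
  obtain ⟨ψ, hψ⟩ := exists_quot χ (kerSub χ) le_rfl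
  have hsurj : Function.Surjective ((QuotientGroup.mk' (kerSub χ)).comp H.subtype) := by
    intro q
    obtain ⟨g, rfl⟩ := QuotientGroup.mk'_surjective (kerSub χ) q
    obtain ⟨a, ha, b, hb, rfl⟩ := Subgroup.mem_sup_of_normal_left.1 (hsup ▸ Subgroup.mem_top g)
    refine ⟨⟨b, hb⟩, ?_⟩
    simp only [MonoidHom.comp_apply, Subgroup.coe_subtype, map_mul, QuotientGroup.mk'_apply]
    rw [(QuotientGroup.eq_one_iff a).2 ha, one_mul]
  convert Char.IsIrrCharacter.comp_surjective ψ.2 _ hsurj using 1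
  funext x
  exact (hψ x).symm

/-- If some element of the supplement where `χ` is non-zero has a conjugate outside, there is a
character of larger degree over the restriction. -/
theorem exists_larger (χ : IrrCharacter G) (H : Subgroup G) [Fintype H]
    (hsup : kerSub χ ⊔ H = ⊤) {h g : G} (hh : h ∈ H) (hne : (χ : G → ℂ) h ≠ 0)
    (hg : g * h * g⁻¹ ∉ H) :
    ∃ ξ : IrrCharacter G, charDegree (χ : G → ℂ) < charDegree (ξ : G → ℂ) ∧
      classInner (fun x : H => (ξ : G → ℂ) x) (fun x : H => (χ : G → ℂ) x) ≠ 0 := by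
  classical
  haveI := Fintype.ofFinite (IrrCharacter G)
  have hθ := restrict_irr χ H hsup
  set θ : H → ℂ := fun x => (χ : G → ℂ) x
  by_contra hno
  push Not at hno
  have hd : θ 1 = (charDegree (χ : G → ℂ) : ℂ) := by
    show (χ : G → ℂ) ((1 : H) : G) = _
    rw [OneMemClass.coe_one, deg_eq χ.2]
  set f : G → ℂ := indFun H θ
  have hf : IsClassFunction G f := Char.indFun_isClassFunction H θ
  have hterm : ∀ (ξ : IrrCharacter G) (x : H),
      classInner f (ξ : G → ℂ) * (ξ : G → ℂ) x = classInner f (ξ : G → ℂ) * θ x := by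
    intro ξ x
    by_cases h0 : classInner (fun x : H => (ξ : G → ℂ) x) θ = 0
    · rw [Char.frobenius_reciprocity H θ (Char.IsIrrCharacter.isClassFunction ξ.2),
        ← Char.classInner_conj_symm, h0, map_zero, zero_mul, zero_mul]
    · have hπ := Char.IsCharacter.restrict (Char.IsIrrCharacter.isCharacter ξ.2) H
      obtain ⟨m, hm⟩ := Char.IsCharacter.classInner_nat hπ (Char.IsIrrCharacter.isCharacter hθ)
      have hb : (fun x : H => (ξ : G → ℂ) x) 1 = (charDegree (ξ : G → ℂ) : ℂ) := by
        show (ξ : G → ℂ) ((1 : H) : G) = _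
        rw [OneMemClass.coe_one, deg_eq ξ.2]
      have h1 := CharApp.classInner_nat_le_degree hπ hθ hm hb hd
      have hm0 : 0 < m := Nat.pos_of_ne_zero fun e => h0 (by rw [hm, e, Nat.cast_zero])
      have h2 : charDegree (ξ : G → ℂ) ≤ charDegree (χ : G → ℂ) :=
        not_lt.1 fun hlt => h0 (hno ξ hlt)
      have h3 : charDegree (ξ : G → ℂ) = charDegree (χ : G → ℂ) :=
        le_antisymm h2 ((Nat.le_mul_of_pos_left _ hm0).trans h1)
      rw [← congrFun (CharApp.eq_of_constituent_of_degree hπ hθ h0 (h3 ▸ hb) hd) x]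
  have hval : ∀ x : H, f x = (H.index : ℂ) * θ x := by
    have h1 : ∀ x : H, f x = (∑ ξ : IrrCharacter G, classInner f (ξ : G → ℂ)) * θ x := fun x => by
      conv_lhs => rw [Char.classFunction_eq_sum hf]
      simp only [Finset.sum_apply, Pi.smul_apply, smul_eq_mul, Finset.sum_mul]
      exact Finset.sum_congr rfl fun ξ _ => hterm ξ x
    have h2 := h1 1
    rw [OneMemClass.coe_one, show f 1 = _ from Char.indFun_one_apply H θ] at h2
    have h3 : (∑ ξ : IrrCharacter G, classInner f (ξ : G → ℂ)) = H.index :=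
      (mul_right_cancel₀ (Char.IsIrrCharacter.apply_one_ne_zero hθ) h2).symm
    intro x; rw [h1, h3]
  have hnorm : classInner f f = (H.index : ℂ) := by
    rw [Char.frobenius_reciprocity H θ hf, show (fun x : H => f x) = (H.index : ℂ) • θ from
      funext hval, Char.classInner_smul_right, Char.classInner_irr_self hθ, mul_one,
      Complex.conj_natCast]
  have hall : ∑ x : G, f x * conj (f x) = (Nat.card G : ℂ) * H.index := by
    rw [← Char.card_mul_classInner, hnorm]
  have hpart : ∑ x ∈ Finset.univ.filter (· ∈ H), f x * conj (f x) = (Nat.card G : ℂ) * H.index := by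
    rw [Finset.sum_subtype (p := fun x => x ∈ H) _ (fun x => by simp) (fun x => f x * conj (f x))]
    simp only [hval, map_mul, Complex.conj_natCast]
    have h1 : ∑ x : H, θ x * conj (θ x) = (Nat.card H : ℂ) := by
      rw [← Char.card_mul_classInner, Char.classInner_irr_self hθ, mul_one]
    rw [← H.card_mul_index, Nat.cast_mul, ← h1, Finset.sum_mul, Finset.sum_mul]
    exact Finset.sum_congr rfl fun x _ => by ring
  have hz : ∑ x ∈ Finset.univ.filter (· ∉ H), f x * conj (f x) = 0 := by
    have := Finset.sum_filter_add_sum_filter_not (Finset.univ : Finset G) (· ∈ H)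
      (fun x => f x * conj (f x))
    rw [hpart, hall] at this
    exact add_eq_left.1 this
  have hgz : f (g * h * g⁻¹) = 0 := by
    have h1 := congrArg Complex.re hz
    simp only [Complex.mul_conj, Complex.re_sum, Complex.ofReal_re, Complex.zero_re] at h1
    exact Complex.normSq_eq_zero.1 ((Finset.sum_eq_zero_iff_of_nonneg fun x _ =>
      Complex.normSq_nonneg _).1 h1 _ (by simp [hg]))
  rw [hf h g, hval ⟨h, hh⟩] at hgz
  exact hne ((mul_eq_zero.1 hgz).resolve_left
    (Nat.cast_ne_zero.2 Subgroup.index_ne_zero_of_finite))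

variable {p : ℕ} [Fact p.Prime]

/-- The core of Broline's argument. -/
theorem exists_larger_of_sylow (χ : IrrCharacter G) (M P : Subgroup G) [M.Normal]
    (hKM : kerSub χ ≤ M) (hPM : P ≤ M) (hP : IsPGroup p P) (hrel : ¬ p ∣ P.relIndex M)
    (hM : M ≤ kerSub χ ⊔ P) (hpow : ∀ m ∈ M, ∃ n : ℕ, m ^ (p ^ n) ∈ kerSub χ)
    (htop : Subgroup.normalizer (P : Set G) ⊔ M = ⊤)
    {h g : G} (hh : h ∈ Subgroup.normalizer (P : Set G)) (hne : (χ : G → ℂ) h ≠ 0)
    (hg : g * h * g⁻¹ ∉ Subgroup.normalizer (P : Set G)) :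
    ∃ ξ : IrrCharacter G, charDegree (χ : G → ℂ) < charDegree (ξ : G → ℂ) ∧
      kerSub ξ < kerSub χ := by
  classical
  set H := Subgroup.normalizer (P : Set G)
  haveI := Fintype.ofFinite H
  have hPH : P ≤ H := Subgroup.le_normalizer
  have hsup : kerSub χ ⊔ H = ⊤ := top_le_iff.1 (htop ▸ sup_le le_sup_right
    (hM.trans (sup_le_sup_left hPH _)))
  obtain ⟨ξ, hdeg, hcon⟩ := exists_larger χ H hsup hh hne hg
  refine ⟨ξ, hdeg, ?_⟩
  have hθ := restrict_irr χ H hsup
  have hLH : ∀ x ∈ kerSub ξ, x ∈ H → x ∈ kerSub χ := fun x hx hxH =>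
    apply_eq_of_constituent (Char.IsCharacter.restrict (Char.IsIrrCharacter.isCharacter ξ.2) H) hθ
      hcon (h := ⟨x, hxH⟩) hx
  set L := kerSub ξ
  have hLM : L ≤ M := by
    intro l hl
    set D := P ⊔ (L ⊓ M)
    have hPD : P ≤ D := le_sup_left
    have hQD : P.map (MulAut.conj l).toMonoidHom ≤ D := by
      rintro _ ⟨x, hx, rfl⟩
      have h1 : l * x * l⁻¹ * x⁻¹ ∈ L ⊓ M := by
        refine ⟨?_, M.mul_mem ((inferInstance : M.Normal).conj_mem x (hPM hx) l)
          (M.inv_mem (hPM hx))⟩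
        rw [mul_assoc, mul_assoc, ← mul_assoc x]
        exact L.mul_mem hl ((kerSub_normal ξ).conj_mem _ (L.inv_mem hl) x)
      have := mul_mem ((le_sup_right : L ⊓ M ≤ D) h1) (hPD hx)
      simpa using this
    have hrelD : ¬ p ∣ P.relIndex D := fun hd => hrel (hd.trans
      (Dvd.intro _
        (Subgroup.relIndex_mul_relIndex P D M hPD (sup_le hPM inf_le_right))))
    obtain ⟨d, hd, hdle⟩ := Transfer.exists_conj_le_of_not_dvd_relIndex hPD hP hrelD hQD (hP.map _)
    have hdl : d * l ∈ H := by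
      refine Subgroup.mem_normalizer_fintype fun x hx => ?_
      have := hdle ⟨_, ⟨x, hx, rfl⟩, rfl⟩
      simpa [mul_assoc] using this
    obtain ⟨x, hx, a, ha, rfl⟩ := Subgroup.mem_sup_of_normal_right.1 hd
    have hal : a * l ∈ H := by
      have := H.mul_mem (H.inv_mem (hPH hx)) hdl
      simpa [mul_assoc] using this
    have h2 := hKM (hLH _ (L.mul_mem ha.1 hl) hal)
    exact (Subgroup.mul_mem_cancel_left M ha.2).1 h2
  have hLK : L ≤ kerSub χ := by
    intro x hx
    obtain ⟨n, hn⟩ := hpow x (hLM hx)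
    set k := ordCompl[p] (orderOf x)
    have hQ : IsPGroup p (Subgroup.zpowers (x ^ k)) := by
      refine IsPGroup.of_card_dvd_pow (n := (orderOf x).factorization p) ?_
      rw [Nat.card_zpowers, orderOf_dvd_iff_pow_eq_one, ← pow_mul, mul_comm,
        Nat.ordProj_mul_ordCompl_eq_self, pow_orderOf_eq_one]
    obtain ⟨m, hm, hmle⟩ := Transfer.exists_conj_le_of_not_dvd_relIndex hPM hP hrel
      (Subgroup.zpowers_le.2 (M.pow_mem (hLM hx) k)) hQ
    have hc : m * x ^ k * m⁻¹ ∈ P := hmle ⟨x ^ k, Subgroup.mem_zpowers _, rfl⟩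
    have h1 : m * x ^ k * m⁻¹ ∈ kerSub χ :=
      hLH _ ((kerSub_normal ξ).conj_mem _ (L.pow_mem hx k) m) (hPH hc)
    have h2 : x ^ k ∈ kerSub χ := by
      have := (kerSub_normal χ).conj_mem _ h1 m⁻¹
      simpa [mul_assoc] using this
    have hcop : Nat.Coprime k (p ^ n) :=
      ((Nat.coprime_ordCompl (Fact.out : p.Prime) (orderOf_pos x).ne').symm.pow_right n)
    have h3 := Transfer.mem_of_pow_mem_of_coprime hcop h2 hn
    exact h3
  refine lt_of_le_of_ne hLK fun heq => ?_
  have hirr := restrict_irr ξ H (show L ⊔ H = ⊤ by rw [heq]; exact hsup)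
  by_cases hχξ : (fun x : H => (ξ : G → ℂ) x) = fun x : H => (χ : G → ℂ) x
  · have h1 := congrFun hχξ 1
    simp only [OneMemClass.coe_one, deg_eq ξ.2, deg_eq χ.2, Nat.cast_inj] at h1
    exact hdeg.ne h1.symm
  · exact hcon (Char.classInner_irr_of_ne hirr hθ hχξ)

/-- **Broline.** -/
theorem broline (χ : IrrCharacter G) (h : ¬ kerSub χ ≤ fittingSubgroup G ∨
    (kerSub χ = fittingSubgroup G ∧ Group.IsSolvable (G ⧸ kerSub χ) ∧ kerSub χ ≠ ⊤)) :
    ∃ ξ : IrrCharacter G, charDegree (χ : G → ℂ) < charDegree (ξ : G → ℂ) ∧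
      kerSub ξ < kerSub χ := by
  classical
  set K := kerSub χ
  have hmapSylow : ∀ (q : ℕ) (_ : Fact q.Prime) (M : Subgroup G) (S : Sylow q M),
      ¬ q ∣ ((S : Subgroup M).map M.subtype).relIndex M := fun q _ M S => by
    rw [Subgroup.relIndex, Subgroup.subgroupOf,
      Subgroup.comap_map_eq_self_of_injective M.subtype_injective]
    exact S.not_dvd_index
  -- a witness from a Sylow subgroup whose normaliser is proper
  have hmove : ∀ (q : ℕ) (_ : Fact q.Prime) (M P : Subgroup G), M.Normal → P ≤ M → IsPGroup q P →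
      ¬ q ∣ P.relIndex M → ¬ P.Normal →
      ∃ x ∈ P, ∃ g : G, g * x * g⁻¹ ∉ Subgroup.normalizer (P : Set G) := by
    intro q _ M P hMn hPM hP hrel hnn
    by_contra hall
    push Not at hall
    refine hnn (Subgroup.normalizer_eq_top_iff.1 ((Subgroup.eq_top_iff' _).2 fun g => ?_))
    set D := Subgroup.normalizer (P : Set G) ⊓ M
    have hPD : P ≤ D := le_inf Subgroup.le_normalizer hPM
    have hrelD : ¬ q ∣ P.relIndex D := fun hd => hrel (hd.trans
      (Dvd.intro _ (Subgroup.relIndex_mul_relIndex P D M hPD inf_le_right)))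
    have hQD : P.map (MulAut.conj g).toMonoidHom ≤ D := by
      rintro _ ⟨x, hx, rfl⟩
      exact ⟨hall x hx g, hMn.conj_mem x (hPM hx) g⟩
    obtain ⟨d, hd, hdle⟩ := Transfer.exists_conj_le_of_not_dvd_relIndex hPD hP hrelD hQD (hP.map _)
    refine Subgroup.mem_normalizer_fintype fun x hx => ?_
    have h1 : d * (g * x * g⁻¹) * d⁻¹ ∈ P := hdle ⟨_, ⟨x, hx, rfl⟩, rfl⟩
    have h2 := (Subgroup.mem_normalizer_iff.1
      ((Subgroup.normalizer (P : Set G)).inv_mem hd.1) _).1 h1
    simpa [mul_assoc] using h2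
  rcases h with hF | ⟨hF, hsol, hK⟩
  · have hnil : ¬ Group.IsNilpotent K := fun e => hF (Cores.le_fittingSubgroup (kerSub_normal χ) e)
    obtain ⟨q, hq, S, hS⟩ : ∃ (q : ℕ) (_ : Fact q.Prime) (S : Sylow q K),
        ¬ (S : Subgroup K).Normal := by
      by_contra hall
      push Not at hall
      exact hnil (((Group.isNilpotent_of_finite_tfae (G := K)).out 0 3).2
        fun q hq S => hall q hq S)
    haveI := hq
    set P := (S : Subgroup K).map K.subtype
    have hPK : P ≤ K := Subgroup.map_subtype_le _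
    have hnn : ¬ P.Normal := fun hn => hS (by
      have := hn.comap K.subtype
      rwa [Subgroup.comap_map_eq_self_of_injective K.subtype_injective] at this)
    have hrel := hmapSylow q hq K S
    have hP : IsPGroup q P := S.2.map _
    obtain ⟨x, hx, g, hg⟩ := hmove q hq K P (kerSub_normal χ) hPK hP hrel hnn
    refine exists_larger_of_sylow χ K P le_rfl hPK hP hrel le_sup_left
      (fun m hm => ⟨0, by simpa using hm⟩) (Sylow.normalizer_sup_eq_top S)
      (Subgroup.le_normalizer hx) ?_ hg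
    rw [show (χ : G → ℂ) x = (χ : G → ℂ) 1 from hPK hx]
    exact Char.IsIrrCharacter.apply_one_ne_zero χ.2
  · haveI := hsol
    have hne : (⊤ : Subgroup (G ⧸ K)) ≠ ⊥ := fun e => hK ((Subgroup.eq_top_iff' _).2 fun g => by
      have := Subgroup.mem_top (g : G ⧸ K)
      rw [e, Subgroup.mem_bot] at this
      exact (QuotientGroup.eq_one_iff g).1 this)
    obtain ⟨q, hq, N, hNn, hN0, -, -, hNp, -, hmin⟩ :=
      Solvable.exists_minimal_normal_pGroup (N := (⊤ : Subgroup (G ⧸ K))) hne
    haveI := Fact.mk hq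
    haveI := hNn
    set π := QuotientGroup.mk' K
    set M := N.comap π
    have hMn : M.Normal := hNn.comap π
    have hKM : K ≤ M := fun k hk => by
      show π k ∈ N
      rw [show π k = 1 from (QuotientGroup.eq_one_iff k).2 hk]; exact N.one_mem
    have hpow : ∀ m ∈ M, ∃ n : ℕ, m ^ (q ^ n) ∈ K := by
      intro m hm
      obtain ⟨n, hn⟩ := hNp ⟨π m, hm⟩
      refine ⟨n, (QuotientGroup.eq_one_iff _).1 ?_⟩
      have := congrArg Subtype.val hn
      simpa [π] using this
    have hMK : ¬ M ≤ K := fun hle => hN0 ((Subgroup.eq_bot_iff_forall _).2 fun y hy => by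
      obtain ⟨m, rfl⟩ := QuotientGroup.mk'_surjective K y
      exact (QuotientGroup.eq_one_iff m).2 (hle hy))
    obtain ⟨S⟩ : Nonempty (Sylow q M) := inferInstance
    set P := (S : Subgroup M).map M.subtype
    have hPM : P ≤ M := Subgroup.map_subtype_le _
    have hP : IsPGroup q P := S.2.map _
    have hrel := hmapSylow q ⟨hq⟩ M S
    have hMle : M ≤ K ⊔ P := by
      have hKPM : K ⊔ P ≤ M := sup_le hKM hPM
      have hrelK : K.relIndex M = Nat.card N := by
        have := Subgroup.relIndex_comap (⊥ : Subgroup (G ⧸ K)) π M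
        rw [MonoidHom.comap_bot, QuotientGroup.ker_mk', Subgroup.relIndex_bot_left,
          Subgroup.map_comap_eq_self_of_surjective (QuotientGroup.mk'_surjective K)] at this
        exact this
      obtain ⟨a, ha⟩ := IsPGroup.iff_card.1 hNp
      have h1 : (K ⊔ P).relIndex M ∣ q ^ a := by
        rw [← ha, ← hrelK]
        exact Dvd.intro_left _ (Subgroup.relIndex_mul_relIndex K (K ⊔ P) M le_sup_left hKPM)
      have h2 : (K ⊔ P).relIndex M ∣ P.relIndex M :=
        Dvd.intro_left _ (Subgroup.relIndex_mul_relIndex P (K ⊔ P) M le_sup_right hKPM)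
      obtain ⟨b, _, hb⟩ := (Nat.dvd_prime_pow hq).1 h1
      refine Subgroup.relIndex_eq_one.1 ?_
      rcases Nat.eq_zero_or_pos b with hb0 | hb0
      · rw [hb, hb0, pow_zero]
      · exact absurd ((hb ▸ dvd_pow_self q hb0.ne').trans h2) hrel
    have hnn : ¬ P.Normal := fun hn => hMK (hMle.trans (sup_le le_rfl (by
      rw [show K = fittingSubgroup G from hF]
      exact Cores.le_fittingSubgroup hn (IsPGroup.isNilpotent hP))))
    set H := Subgroup.normalizer (P : Set G)
    have hwit : ∃ x ∈ H, (χ : G → ℂ) x ≠ 0 ∧ ∃ g : G, g * x * g⁻¹ ∉ H := by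
      by_contra hall
      push Not at hall
      obtain ⟨y, hy, hyK, hy0⟩ : ∃ y ∈ P, y ∉ K ∧ (χ : G → ℂ) y ≠ 0 := by
        by_contra hzero
        push Not at hzero
        haveI := Fintype.ofFinite M
        haveI := hMn
        have h0 := sum_normal_eq_zero χ M hMK
        have h1 : ∀ m : M, (χ : G → ℂ) m = if (m : G) ∈ K then (χ : G → ℂ) 1 else 0 := by
          intro m
          split_ifs with hm
          · exact hm
          · obtain ⟨k, hk, y, hy, hky⟩ := Subgroup.mem_sup_of_normal_left.1 (hMle m.2)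
            rw [← hky, ker_mul χ.2 hk]
            exact hzero y hy fun hyK => hm (hky ▸ K.mul_mem hk hyK)
        rw [Finset.sum_congr rfl fun m _ => h1 m, ← Finset.sum_filter, Finset.sum_const,
          nsmul_eq_mul] at h0
        rcases mul_eq_zero.1 h0 with h2 | h2
        · rw [Nat.cast_eq_zero, Finset.card_eq_zero, Finset.filter_eq_empty_iff] at h2
          exact h2 (Finset.mem_univ (1 : M)) K.one_mem
        · exact Char.IsIrrCharacter.apply_one_ne_zero χ.2 h2
      set C := (H ⊓ M).normalCore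
      have hKC : ∀ k ∈ K, k ∈ H → k ∈ C := fun k hk hkH g =>
        ⟨hall k hkH (by
          rw [show (χ : G → ℂ) k = (χ : G → ℂ) 1 from hk]
          exact Char.IsIrrCharacter.apply_one_ne_zero χ.2) g, hMn.conj_mem k (hKM hk) g⟩
      have hyC : y ∈ C := fun g =>
        ⟨hall y (Subgroup.le_normalizer hy) hy0 g, hMn.conj_mem y (hPM hy) g⟩
      have hCle : C ≤ H ⊓ M := Subgroup.normalCore_le _
      haveI : C.Normal := Subgroup.normalCore_normal _
      have hCK : M ≤ C ⊔ K := by
        have hD : ((C ⊔ K).map π).Normal :=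
          Subgroup.Normal.map inferInstance π (QuotientGroup.mk'_surjective K)
        have hDle : (C ⊔ K).map π ≤ N :=
          Subgroup.map_le_iff_le_comap.2 (sup_le (hCle.trans inf_le_right) hKM)
        rcases hmin _ hD hDle with e | e
        · exfalso
          have : π y ∈ (C ⊔ K).map π := Subgroup.mem_map_of_mem π ((le_sup_left : C ≤ _) hyC)
          rw [e, Subgroup.mem_bot] at this
          exact hyK ((QuotientGroup.eq_one_iff y).1 this)
        · intro m hm
          have h1 : π m ∈ (C ⊔ K).map π := e ▸ hm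
          obtain ⟨z, hz, hzm⟩ := h1
          have h2 : z⁻¹ * m ∈ K := (QuotientGroup.eq.1 hzm)
          simpa using mul_mem hz ((le_sup_right : K ≤ C ⊔ K) h2)
      obtain ⟨x, hx, g, hg⟩ := hmove q ⟨hq⟩ M P hMn hPM hP hrel hnn
      obtain ⟨c, hc, k, hk, hck⟩ := Subgroup.mem_sup_of_normal_left.1 (hCK (hPM hx))
      have hkH : k ∈ H := by
        have := H.mul_mem (H.inv_mem (hCle hc).1) (Subgroup.le_normalizer hx : x ∈ H)
        rwa [← hck, inv_mul_cancel_left] at this
      have hxC : x ∈ C := hck ▸ C.mul_mem hc (hKC k hk hkH)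
      exact hg (hxC g).1
    obtain ⟨x, hxH, hx0, g, hg⟩ := hwit
    haveI := hMn
    exact exists_larger_of_sylow χ M P hKM hPM hP hrel hMle hpow
      (Sylow.normalizer_sup_eq_top S) hxH hx0 hg

end Cfsg.Agent.Broline
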