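/-
Groups with exactly two degrees of irreducible characters (`1` and `m`).

Main results: `TwoDeg`, `TwoDeg.commutator_le_of_index_le`, `TwoDeg.isSolvable`, `dichotomy`,
`TwoDeg.structure_theorem`, `TwoDeg.commutator_comm`.
-/
import Cfsg.Agent.Lib.CharApp.DegreeSets
import Cfsg.Agent.Lib.Codegree.Basic
import Cfsg.Agent.Lib.Char.Monomial

set_option autoImplicit false
set_option linter.style.haveILetI false

namespace Cfsg.Agent.CharApp.TwoDegrees

open Cfsg Cfsg.Agent.Char Cfsg.Agent.CharApp.DegreeSets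
open scoped commutatorElement ComplexConjugate

variable {G : Type*} [Group G] [Finite G] {m : ℕ}

/-- The character degrees of `G` are `1` and `m ≠ 1`. -/
structure TwoDeg (G : Type*) [Group G] (m : ℕ) : Prop where
  cd : ∀ χ : IrrCharacter G, charDegree (χ : G → ℂ) = 1 ∨ charDegree (χ : G → ℂ) = m
  ex : ∃ χ : IrrCharacter G, charDegree (χ : G → ℂ) = m
  ne : m ≠ 1

theorem TwoDeg.one_lt (h : TwoDeg G m) : 1 < m := by
  obtain ⟨χ, hχ⟩ := h.ex
  have := TwoClassChar.deg_pos χ.2
  have := h.ne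
  omega

theorem TwoDeg.linear_of_lt (h : TwoDeg G m) (χ : IrrCharacter G)
    (hlt : charDegree (χ : G → ℂ) < m) : charDegree (χ : G → ℂ) = 1 :=
  (h.cd χ).resolve_right hlt.ne

theorem TwoDeg.le (h : TwoDeg G m) (χ : IrrCharacter G) : charDegree (χ : G → ℂ) ≤ m := by
  have := h.one_lt
  rcases h.cd χ with e | e <;> omega

theorem TwoDeg.commutator_ne_bot (h : TwoDeg G m) : commutator G ≠ ⊥ := by
  intro hb
  obtain ⟨χ, hχ⟩ := h.ex
  have hcomm : ∀ a b : G, a * b = b * a := fun a b => by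
    have : ⁅a, b⁆ ∈ commutator G :=
      Subgroup.commutator_mem_commutator (Subgroup.mem_top a) (Subgroup.mem_top b)
    rw [hb, Subgroup.mem_bot] at this
    exact commutatorElement_eq_one_iff_mul_comm.1 this
  have h1 := apply_one_eq_one_of_comm hcomm χ
  rw [apply_one χ.2, Nat.cast_eq_one, hχ] at h1
  exact h.ne h1

/-- A subgroup of index at most `m` contains the derived subgroup. -/
theorem TwoDeg.commutator_le_of_index_le (h : TwoDeg G m) (T : Subgroup G) (hT : T.index ≤ m) :
    commutator G ≤ T := by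
  classical
  haveI := Fintype.ofFinite G
  haveI := Fintype.ofFinite T
  haveI := Fintype.ofFinite (IrrCharacter G)
  intro x hx
  have h1c : IsCharacter T (1 : T → ℂ) := IsIrrCharacter.isCharacter isIrrCharacter_one
  obtain ⟨c, hc, hc'⟩ := IsCharacter.decompose (IsCharacter.indFun T h1c)
  set one : IrrCharacter G := ⟨1, isIrrCharacter_one⟩ with hone
  have hc1 : c one = 1 := by
    have := hc' one
    rw [frobenius_reciprocity T _ (IsIrrCharacter.isClassFunction one.2)] at this
    have e : classInner (1 : T → ℂ) (fun t : T => (one : G → ℂ) t) = 1 :=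
      classInner_irr_self isIrrCharacter_one
    rw [e] at this
    exact_mod_cast this.symm
  have hd : T.index = ∑ φ : IrrCharacter G, c φ * charDegree (φ : G → ℂ) := by
    have := congrFun hc 1
    rw [indFun_one_apply] at this
    simp only [Pi.one_apply, mul_one, Finset.sum_apply, Pi.smul_apply, smul_eq_mul,
      apply_one (Subtype.prop _)] at this
    exact_mod_cast this
  have hval : ∀ φ : IrrCharacter G, (c φ : ℂ) * (φ : G → ℂ) x = (c φ : ℂ) * (φ : G → ℂ) 1 := by
    intro φ
    rcases Nat.eq_zero_or_pos (c φ) with h0 | h0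
    · simp [h0]
    by_cases hφ : φ = one
    · simp [hφ, hone]
    congr 1
    refine apply_commutator_of_linear φ.2 (h.linear_of_lt φ ?_) hx
    have h2 : c one * charDegree (one : G → ℂ) + c φ * charDegree (φ : G → ℂ) ≤ T.index := by
      rw [hd, ← Finset.sum_pair (f := fun φ : IrrCharacter G => c φ * charDegree (φ : G → ℂ))
        (Ne.symm hφ)]
      exact Finset.sum_le_sum_of_subset (Finset.subset_univ _)
    have h3 := Nat.le_mul_of_pos_left (charDegree (φ : G → ℂ)) h0
    have h4 := TwoClassChar.deg_pos one.2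
    rw [hc1, one_mul] at h2
    omega
  have hπ : Cfsg.indFun T (1 : T → ℂ) x = (T.index : ℂ) := by
    have := congrFun hc 1
    rw [indFun_one_apply, Pi.one_apply, mul_one] at this
    rw [congrFun hc x, this]
    simp only [Finset.sum_apply, Pi.smul_apply, smul_eq_mul]
    exact Finset.sum_congr rfl fun φ _ => hval φ
  have hext : ∀ y : G, extendByZero T (1 : T → ℂ) y = if y ∈ T then 1 else 0 := fun y => by
    by_cases hy : y ∈ T
    · rw [extendByZero_mem T _ hy, if_pos hy]; rfl
    · rw [extendByZero_not_mem T _ hy, if_neg hy]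
  rw [Cfsg.indFun] at hπ
  simp only [hext, Finset.sum_boole] at hπ
  rw [inv_mul_eq_iff_eq_mul₀ (Nat.cast_ne_zero.2 Nat.card_pos.ne'), ← Nat.cast_mul, Nat.cast_inj,
    Subgroup.card_mul_index, Nat.card_eq_fintype_card, Finset.card_eq_iff_eq_univ,
    Finset.filter_eq_self] at hπ
  simpa using hπ 1

theorem TwoDeg.dvd_degree (h : TwoDeg G m) {p : ℕ} (hpm : p ∣ m) (χ : IrrCharacter G)
    (hχ : charDegree (χ : G → ℂ) ≠ 1) : p ∣ charDegree (χ : G → ℂ) :=
  ((h.cd χ).resolve_left hχ).symm ▸ hpm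

theorem TwoDeg.isSolvable (h : TwoDeg G m) : Group.IsSolvable G := by
  classical
  obtain ⟨L, ⟨n, rfl⟩, hmin⟩ := Set.Finite.exists_minimal (Set.toFinite
    (Set.range (derivedSeries G))) (Set.range_nonempty _)
  have hstab : ∀ k, derivedSeries G (n + k) = derivedSeries G n := fun k =>
    le_antisymm (derivedSeries_antitone G (Nat.le_add_right n k))
      (hmin ⟨n + k, rfl⟩ (derivedSeries_antitone G (Nat.le_add_right n k)))
  have hcop : (Nat.card (derivedSeries G n)).Coprime m := by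
    refine Nat.coprime_of_dvd fun p hp hpL hpm => ?_
    haveI := Fact.mk hp
    obtain ⟨N, hN, hNc, k, hk⟩ := exists_normal_pComplement p (h.dvd_degree hpm)
    have hQ : IsPGroup p (G ⧸ N) := IsPGroup.of_card (by rw [← N.index_eq_card, hk])
    haveI := hQ.isNilpotent
    obtain ⟨j, hj⟩ := (inferInstance : Group.IsSolvable (G ⧸ N)).solvable
    have hle : derivedSeries G n ≤ N := by
      rw [← hstab j, ← QuotientGroup.ker_mk' N, ← Subgroup.map_eq_bot_iff, ← le_bot_iff, ← hj]
      exact ((Subgroup.map_mono (derivedSeries_antitone G (Nat.le_add_left j n))).trans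
        (map_derivedSeries_le_derivedSeries _ j))
    exact hp.ne_one (Nat.eq_one_of_dvd_coprimes hNc
      (hpL.trans (Subgroup.card_dvd_of_le hle)) dvd_rfl)
  haveI : (derivedSeries G n).Normal := derivedSeries_normal G n
  have hcomm := comm_of_coprime (derivedSeries G n) fun χ hχ =>
    ((h.cd χ).resolve_left hχ).symm ▸ hcop
  refine ⟨⟨n + 1, ?_⟩⟩
  rw [derivedSeries_succ, Subgroup.commutator_eq_bot_iff_le_centralizer]
  exact fun a ha b hb => congrArg Subtype.val (hcomm ⟨b, hb⟩ ⟨a, ha⟩)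

theorem comm_commutator_conj {Q : Type*} [Group Q] {x y c : Q} (hc : c ∈ Subgroup.center Q)
    (h : x * y * x⁻¹ = c * y) : ∀ k : ℕ, x ^ k * y * (x ^ k)⁻¹ = c ^ k * y := by
  intro k
  induction k with
  | zero => simp
  | succ k ih =>
    calc x ^ (k + 1) * y * (x ^ (k + 1))⁻¹ = x * (x ^ k * y * (x ^ k)⁻¹) * x⁻¹ := by
          rw [pow_succ']; group
      _ = x * (c ^ k * y) * x⁻¹ := by rw [ih]
      _ = c ^ k * (x * y * x⁻¹) := by
          rw [← mul_assoc x, Subgroup.mem_center_iff.1 (pow_mem hc k) x]; group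
      _ = c ^ (k + 1) * y := by rw [h, pow_succ, mul_assoc]

theorem isPGroup_of_center_ne_bot {Q : Type*} [Group Q] [Finite Q]
    (hne : commutator Q ≠ ⊥) (hmin : ∀ M : Subgroup Q, M.Normal → M ≠ ⊥ → commutator Q ≤ M)
    (hZ : Subgroup.center Q ≠ ⊥) : ∃ p : ℕ, p.Prime ∧ IsPGroup p Q := by
  have hle : commutator Q ≤ Subgroup.center Q := hmin _ inferInstance hZ
  set p := (Nat.card (commutator Q)).minFac
  have hp : p.Prime := Nat.minFac_prime (mt (commutator Q).eq_bot_of_card_eq hne)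
  haveI := Fact.mk hp
  obtain ⟨z, hz⟩ := exists_prime_orderOf_dvd_card' (G := commutator Q) p (Nat.minFac_dvd _)
  have hzc : (z : Q) ∈ Subgroup.center Q := hle z.2
  have hnorm : ∀ w : Q, w ∈ Subgroup.center Q → (Subgroup.zpowers w).Normal := fun w hw =>
    ⟨fun a ha g => by
      rwa [Subgroup.mem_center_iff.1 ((Subgroup.zpowers_le.2 hw) ha) g, mul_inv_cancel_right]⟩
  have heq : commutator Q = Subgroup.zpowers (z : Q) := by
    refine le_antisymm (hmin _ (hnorm _ hzc) ?_) (Subgroup.zpowers_le.2 z.2)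
    rw [Ne, Subgroup.zpowers_eq_bot, OneMemClass.coe_eq_one]
    intro h1
    rw [h1, orderOf_one] at hz
    exact hp.ne_one hz.symm
  have hcard : Nat.card (commutator Q) = p := by
    rw [heq, Nat.card_zpowers, Subgroup.orderOf_coe, hz]
  have hpow : ∀ c ∈ commutator Q, c ^ p = 1 := fun c hc => by
    have := congrArg Subtype.val (pow_card_eq_one' (x := (⟨c, hc⟩ : commutator Q)))
    rwa [hcard] at this
  have hZp : IsPGroup p (Subgroup.center Q) := by
    rw [IsPGroup.iff_card]
    refine ⟨_, Nat.eq_prime_pow_of_unique_prime_dvd Nat.card_pos.ne' fun {r} hr hrd => ?_⟩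
    haveI := Fact.mk hr
    obtain ⟨w, hw⟩ := exists_prime_orderOf_dvd_card' (G := Subgroup.center Q) r hrd
    have hsub := hmin _ (hnorm _ w.2) fun e => by
      rw [Subgroup.zpowers_eq_bot, OneMemClass.coe_eq_one] at e
      rw [e, orderOf_one] at hw
      exact hr.ne_one hw.symm
    have hd := Subgroup.card_dvd_of_le hsub
    rw [hcard, Nat.card_zpowers, Subgroup.orderOf_coe, hw] at hd
    exact ((Nat.prime_dvd_prime_iff_eq hp hr).1 hd).symm
  refine ⟨p, hp, fun x => ?_⟩
  have hxp : x ^ p ∈ Subgroup.center Q := by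
    rw [Subgroup.mem_center_iff]
    intro y
    have hc : ⁅x, y⁆ ∈ commutator Q :=
      Subgroup.commutator_mem_commutator (Subgroup.mem_top x) (Subgroup.mem_top y)
    have := comm_commutator_conj (x := x) (y := y) (hle hc) (by rw [commutatorElement_def]; group) p
    rw [hpow _ hc, one_mul, mul_inv_eq_iff_eq_mul] at this
    exact this.symm
  obtain ⟨k, hk⟩ := hZp ⟨x ^ p, hxp⟩
  refine ⟨k + 1, ?_⟩
  rw [pow_succ', pow_mul]
  exact congrArg Subtype.val hk

/-- The structure of a group whose derived subgroup is its only minimal normal subgroup and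
whose centre is trivial. -/
theorem frobenius_of_center_eq_bot {Q : Type*} [Group Q] [Finite Q] [hQ : Group.IsSolvable Q]
    (hne : commutator Q ≠ ⊥) (hmin : ∀ M : Subgroup Q, M.Normal → M ≠ ⊥ → commutator Q ≤ M)
    (hZ : Subgroup.center Q = ⊥) :
    ∃ q : ℕ, q.Prime ∧ (∀ n ∈ commutator Q, n ^ q = 1) ∧
      (∀ a ∈ commutator Q, ∀ b ∈ commutator Q, a * b = b * a) ∧
      (∀ g ∉ commutator Q, ∀ n ∈ commutator Q, g * n = n * g → n = 1) ∧
      IsCyclic (Q ⧸ commutator Q) ∧ (commutator Q).index.Coprime q ∧ commutator Q ≠ ⊤ := by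
  classical
  set N := commutator Q with hN
  have hN2 : ⁅N, N⁆ = ⊥ := by
    by_contra h
    have hle := hmin _ (Subgroup.commutator_normal _ _) h
    have heq : ⁅N, N⁆ = N := le_antisymm (Subgroup.commutator_le_left N N) hle
    have hall : ∀ k, N ≤ derivedSeries Q k := by
      intro k
      induction k with
      | zero => exact le_top
      | succ k ih => rw [derivedSeries_succ, ← heq]; exact Subgroup.commutator_mono ih ih
    obtain ⟨k, hk⟩ := hQ.solvable
    exact hne (le_bot_iff.1 (hk ▸ hall k))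
  have hab : ∀ a ∈ N, ∀ b ∈ N, a * b = b * a := fun a ha b hb =>
    commutatorElement_eq_one_iff_mul_comm.1
      (Subgroup.mem_bot.1 (hN2 ▸ Subgroup.commutator_mem_commutator ha hb))
  have htop : N ≠ ⊤ := fun h => hne (by
    rw [h] at hN2; rwa [hN, commutator_def] )
  have hcm : ∀ x y : Q, x * y * x⁻¹ * y⁻¹ ∈ N := fun x y =>
    Subgroup.commutator_mem_commutator (Subgroup.mem_top x) (Subgroup.mem_top y)
  set C := Subgroup.centralizer (N : Set Q) with hC
  have hNC : N ≤ C := fun a ha b hb => hab b hb a ha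
  -- an element outside `C` has no fixed points on `N`
  have hfix : ∀ g ∉ C, ∀ n ∈ N, g * n = n * g → n = 1 := by
    intro g hg n hn hgn
    by_contra h1
    have hnor : (N ⊓ Subgroup.centralizer {g}).Normal := by
      refine ⟨fun a ha y => ?_⟩
      obtain ⟨haN, hag⟩ := Subgroup.mem_inf.1 ha
      have haN' : y * a * y⁻¹ ∈ N := Subgroup.Normal.conj_mem inferInstance a haN y
      refine Subgroup.mem_inf.2 ⟨haN', Subgroup.mem_centralizer_singleton_iff.2 ?_⟩
      have hga := Subgroup.mem_centralizer_singleton_iff.1 hag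
      have hcc : y * g * y⁻¹ * g⁻¹ ∈ N := hcm y g
      have h2 := hab _ haN' _ hcc
      calc y * a * y⁻¹ * g = (y * g * y⁻¹ * g⁻¹)⁻¹ * ((y * g * y⁻¹ * g⁻¹) * (y * a * y⁻¹)) * g := by
            group
        _ = (y * g * y⁻¹ * g⁻¹)⁻¹ * ((y * a * y⁻¹) * (y * g * y⁻¹ * g⁻¹)) * g := by rw [h2]
        _ = (y * g * y⁻¹ * g⁻¹)⁻¹ * (y * (a * g) * y⁻¹) := by group
        _ = (y * g * y⁻¹ * g⁻¹)⁻¹ * (y * (g * a) * y⁻¹) := by rw [hga]
        _ = g * (y * a * y⁻¹) := by group
    have hle := hmin _ hnor fun e => h1 (by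
      have : n ∈ N ⊓ Subgroup.centralizer {g} :=
        ⟨hn, Subgroup.mem_centralizer_singleton_iff.2 hgn.symm⟩
      rwa [e, Subgroup.mem_bot] at this)
    exact hg fun b hb =>
      Subgroup.mem_centralizer_singleton_iff.1 ((hle.trans inf_le_right) hb)
  have hCN : C = N := by
    refine le_antisymm (fun x hx => ?_) hNC
    obtain ⟨g, hg⟩ : ∃ g, g ∉ C := by
      by_contra hh
      push Not at hh
      refine hne (le_bot_iff.1 (hZ ▸ fun b hb => Subgroup.mem_center_iff.2 fun g => ?_))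
      exact (hh g b hb).symm
    let f : N → N := fun n => ⟨g * n * g⁻¹ * n⁻¹, hcm g n⟩
    have hfi : Function.Injective f := by
      intro a b hab'
      have e : g * a * g⁻¹ * (a : Q)⁻¹ = g * b * g⁻¹ * (b : Q)⁻¹ := congrArg Subtype.val hab'
      have e2 : g * ((b : Q)⁻¹ * a) * g⁻¹ = (b : Q)⁻¹ * a := by
        calc g * ((b : Q)⁻¹ * a) * g⁻¹
            = (g * b * g⁻¹)⁻¹ * ((g * a * g⁻¹ * (a : Q)⁻¹) * a) := by group
          _ = (g * b * g⁻¹)⁻¹ * ((g * b * g⁻¹ * (b : Q)⁻¹) * a) := by rw [e]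
          _ = (b : Q)⁻¹ * a := by group
      have := hfix g hg _ (N.mul_mem (N.inv_mem b.2) a.2) (mul_inv_eq_iff_eq_mul.1 e2)
      exact Subtype.ext (inv_mul_eq_one.1 this).symm
    obtain ⟨n, hn⟩ := (Finite.injective_iff_surjective.1 hfi) ⟨g * x * g⁻¹ * x⁻¹, hcm g x⟩
    have hn' : g * n * g⁻¹ * (n : Q)⁻¹ = g * x * g⁻¹ * x⁻¹ := congrArg Subtype.val hn
    set d := (n : Q)⁻¹ * x with hd
    have hdC : d ∈ C := C.mul_mem (C.inv_mem (hNC n.2)) hx
    have hdg : g * d = d * g := by
      rw [← mul_inv_eq_iff_eq_mul, hd]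
      calc g * ((n : Q)⁻¹ * x) * g⁻¹
          = (g * n * g⁻¹)⁻¹ * ((g * x * g⁻¹ * x⁻¹) * x) := by group
        _ = (g * n * g⁻¹)⁻¹ * ((g * n * g⁻¹ * (n : Q)⁻¹) * x) := by rw [hn']
        _ = (n : Q)⁻¹ * x := by group
    have hdZ : d ∈ Subgroup.center Q := by
      refine Subgroup.mem_center_iff.2 fun y => ?_
      have hC' : y * d * y⁻¹ ∈ C :=
        (inferInstance : C.Normal).conj_mem d hdC y
      have hc : (y * g * y⁻¹ * g⁻¹) ∈ N := hcm y g
      have h2 : (y * g * y⁻¹ * g⁻¹) * (y * d * y⁻¹) = (y * d * y⁻¹) * (y * g * y⁻¹ * g⁻¹) :=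
        hC' _ hc
      have h3 : g * (y * d * y⁻¹) = (y * d * y⁻¹) * g := by
        calc g * (y * d * y⁻¹)
            = (y * g * y⁻¹ * g⁻¹)⁻¹ * (y * (g * d) * y⁻¹) := by group
          _ = (y * g * y⁻¹ * g⁻¹)⁻¹ * (y * (d * g) * y⁻¹) := by rw [hdg]
          _ = (y * g * y⁻¹ * g⁻¹)⁻¹ * ((y * d * y⁻¹) * (y * g * y⁻¹ * g⁻¹)) * g := by group
          _ = (y * g * y⁻¹ * g⁻¹)⁻¹ * ((y * g * y⁻¹ * g⁻¹) * (y * d * y⁻¹)) * g := by rw [h2]
          _ = (y * d * y⁻¹) * g := by group
      have h4 := hfix g hg _ (hcm y d) (by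
        calc g * (y * d * y⁻¹ * d⁻¹) = (g * (y * d * y⁻¹)) * d⁻¹ := by group
          _ = (y * d * y⁻¹) * (g * d⁻¹) := by rw [h3]; group
          _ = (y * d * y⁻¹) * (d⁻¹ * (d * g) * d⁻¹) := by group
          _ = (y * d * y⁻¹) * (d⁻¹ * (g * d) * d⁻¹) := by rw [hdg]
          _ = (y * d * y⁻¹ * d⁻¹) * g := by group)
      exact mul_inv_eq_iff_eq_mul.1 (mul_inv_eq_one.1 h4)
    rw [hZ, Subgroup.mem_bot, hd, inv_mul_eq_one] at hdZ
    exact hdZ ▸ n.2
  set q := (Nat.card N).minFac
  have hq : q.Prime := Nat.minFac_prime (mt N.eq_bot_of_card_eq hne)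
  haveI := Fact.mk hq
  have hpow : ∀ n ∈ N, n ^ q = 1 := by
    obtain ⟨z, hz⟩ := exists_prime_orderOf_dvd_card' (G := N) q (Nat.minFac_dvd _)
    let M : Subgroup Q :=
      { carrier := {a | a ∈ N ∧ a ^ q = 1}
        one_mem' := ⟨N.one_mem, one_pow _⟩
        mul_mem' := fun {a b} ha hb =>
          ⟨N.mul_mem ha.1 hb.1, by
            rw [Commute.mul_pow (show Commute a b from hab a ha.1 b hb.1), ha.2, hb.2, one_mul]⟩
        inv_mem' := fun {a} ha => ⟨N.inv_mem ha.1, by rw [inv_pow, ha.2, inv_one]⟩ }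
    have hM : M.Normal := ⟨fun a ha y => ⟨Subgroup.Normal.conj_mem inferInstance a ha.1 y, by
      rw [conj_pow, ha.2, mul_one, mul_inv_cancel]⟩⟩
    have hMb : M ≠ ⊥ := fun e => by
      have : (z : Q) ∈ M := ⟨z.2, by rw [← hz, ← Subgroup.coe_pow, pow_orderOf_eq_one]; rfl⟩
      rw [e, Subgroup.mem_bot, OneMemClass.coe_eq_one] at this
      rw [this, orderOf_one] at hz
      exact hq.ne_one hz.symm
    exact fun n hn => (hmin M hM hMb hn).2
  letI : CommGroup N :=
    { (inferInstance : Group N) with mul_comm := fun a b => Subtype.ext (hab a a.2 b b.2) }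
  let act : Q →* AddMonoid.End (Additive N) :=
    { toFun := fun g => MonoidHom.toAdditive (MulAut.conjNormal g : MulAut N).toMonoidHom
      map_one' := by
        refine AddMonoidHom.ext fun a => Additive.toMul.injective (Subtype.ext ?_)
        show ((MulAut.conjNormal (1 : Q) a.toMul : N) : Q) = a.toMul
        simp
      map_mul' := fun g h => by
        refine AddMonoidHom.ext fun a => Additive.toMul.injective (Subtype.ext ?_)
        show ((MulAut.conjNormal (g * h) a.toMul : N) : Q) =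
          (MulAut.conjNormal g (MulAut.conjNormal h a.toMul) : N)
        simp [mul_assoc] }
  have hact : ∀ (g : Q) (n : N),
      (((act g) (Additive.ofMul n)).toMul : Q) = g * n * g⁻¹ := fun g n =>
    MulAut.conjNormal_apply g n
  have hker : act.ker = N := Subgroup.ext fun g => by
    constructor
    · intro e
      refine hCN.le fun b hb => ?_
      have := hact g ⟨b, hb⟩
      rw [MonoidHom.mem_ker.1 e] at this
      exact (mul_inv_eq_iff_eq_mul.1 this.symm).symm
    · intro hg
      refine MonoidHom.mem_ker.2 (AddMonoidHom.ext fun a => Additive.toMul.injective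
        (Subtype.ext ?_))
      refine (hact g a.toMul).trans ?_
      rw [← hCN.ge hg _ a.toMul.2, mul_inv_cancel_right]
      rfl
  have hcommS : ∀ a ∈ Set.range act, ∀ b ∈ Set.range act, a * b = b * a := by
    rintro _ ⟨x, rfl⟩ _ ⟨y, rfl⟩
    have : act (x * y * x⁻¹ * y⁻¹) = 1 := MonoidHom.mem_ker.1 (hker.symm ▸ hcm x y)
    calc act x * act y = act (x * y * x⁻¹ * y⁻¹ * (y * x)) := by rw [← map_mul]; congr 1; group
      _ = act y * act x := by rw [map_mul, this, one_mul, map_mul]
  letI : CommRing (Subring.closure (Set.range act)) := Subring.closureCommRingOfComm hcommS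
  haveI : Nontrivial (Subring.closure (Set.range act)) := by
    obtain ⟨n, hn, h1⟩ : ∃ n, n ∈ N ∧ n ≠ 1 := by
      obtain ⟨n, hn⟩ := Subgroup.ne_bot_iff_exists_ne_one.1 hne
      exact ⟨n, n.2, fun e => hn (Subtype.ext e)⟩
    refine ⟨⟨0, 1, fun e => h1 ?_⟩⟩
    exact congrArg (fun a : Additive N => (a.toMul : Q))
      (DFunLike.congr_fun (congrArg Subtype.val e).symm (Additive.ofMul ⟨n, hn⟩))
  have hkerS : ∀ s : Subring.closure (Set.range act), s ≠ 0 →
      ∀ a : Additive N, (s : AddMonoid.End (Additive N)) a = 0 → a = 0 := by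
    intro s hs a ha
    by_contra ha0
    let K : Subgroup Q :=
      { carrier := {n | ∃ h : n ∈ N, (s : AddMonoid.End (Additive N)) (Additive.ofMul ⟨n, h⟩) = 0}
        one_mem' := ⟨N.one_mem, map_zero _⟩
        mul_mem' := by
          rintro x y ⟨hx, ex⟩ ⟨hy, ey⟩
          refine ⟨N.mul_mem hx hy, ?_⟩
          rw [show Additive.ofMul (⟨x * y, _⟩ : N) = Additive.ofMul (⟨x, hx⟩ : N) +
            Additive.ofMul ⟨y, hy⟩ from rfl, map_add, ex, ey, add_zero]
        inv_mem' := by
          rintro x ⟨hx, ex⟩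
          refine ⟨N.inv_mem hx, ?_⟩
          rw [show Additive.ofMul (⟨x⁻¹, _⟩ : N) = -Additive.ofMul (⟨x, hx⟩ : N) from rfl, map_neg,
            ex, neg_zero] }
    have hK : K.Normal := ⟨fun x ⟨hx, ex⟩ y => ⟨Subgroup.Normal.conj_mem inferInstance x hx y, by
      have e1 : Additive.ofMul (⟨y * x * y⁻¹, Subgroup.Normal.conj_mem inferInstance x hx y⟩ : N) =
          act y (Additive.ofMul ⟨x, hx⟩) := by
        apply Additive.toMul.injective
        exact Subtype.ext (hact y ⟨x, hx⟩).symm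
      have e2 := congrArg Subtype.val
        (mul_comm s ⟨act y, Subring.subset_closure ⟨y, rfl⟩⟩)
      rw [e1]
      refine (DFunLike.congr_fun e2 (Additive.ofMul ⟨x, hx⟩)).trans ?_
      show act y ((s : AddMonoid.End (Additive N)) _) = 0
      rw [ex, map_zero]⟩⟩
    have hle := hmin K hK fun e => ha0 (by
      have : (a.toMul : Q) ∈ K := ⟨a.toMul.2, ha⟩
      rw [e, Subgroup.mem_bot] at this
      exact Additive.toMul.injective (Subtype.ext this))
    refine hs (Subtype.ext (AddMonoidHom.ext fun b => ?_))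
    obtain ⟨h, eb⟩ := hle b.toMul.2
    exact eb
  haveI : NoZeroDivisors (Subring.closure (Set.range act)) :=
    ⟨fun {s t} hst => or_iff_not_imp_left.2 fun hs => Subtype.ext <| AddMonoidHom.ext fun b =>
      hkerS s hs _ (DFunLike.congr_fun (congrArg Subtype.val hst) b)⟩
  haveI := NoZeroDivisors.to_isDomain (Subring.closure (Set.range act))
  let F : (Q ⧸ N) →* Subring.closure (Set.range act) :=
    QuotientGroup.lift N (act.codRestrict _ fun g => Subring.subset_closure ⟨g, rfl⟩)
      (fun g hg => Subtype.ext (MonoidHom.mem_ker.1 (hker.symm ▸ hg)))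
  have hF : Function.Injective F := by
    rw [injective_iff_map_eq_one]
    intro a ha
    induction a using QuotientGroup.induction_on with
    | H g => exact (QuotientGroup.eq_one_iff g).2 (hker ▸ MonoidHom.mem_ker.2 (congrArg Subtype.val ha))
  refine ⟨q, hq, hpow, hab, fun g hg => hfix g (hCN ▸ hg), isCyclic_of_injective_ringHom F hF,
    ?_, htop⟩
  rw [Nat.coprime_comm, hq.coprime_iff_not_dvd]
  intro hdvd
  rw [N.index_eq_card] at hdvd
  obtain ⟨e, he⟩ := exists_prime_orderOf_dvd_card' (G := Q ⧸ N) q hdvd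
  have hq0 : (q : Subring.closure (Set.range act)) = 0 := by
    refine Subtype.ext (AddMonoidHom.ext fun b => ?_)
    rw [Subring.coe_natCast]
    show (q : AddMonoid.End (Additive N)) b = 0
    rw [AddMonoid.End.natCast_apply]
    apply Additive.toMul.injective
    exact Subtype.ext (hpow _ b.toMul.2)
  haveI := (CharP.charP_iff_prime_eq_zero hq).2 hq0
  have h1 : (F e - 1) ^ q = 0 := by
    rw [sub_pow_char, one_pow, ← map_pow, ← he, pow_orderOf_eq_one, map_one, sub_self]
  have : e = 1 := hF (by rw [map_one]; exact sub_eq_zero.1 (eq_zero_of_pow_eq_zero h1))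
  rw [this, orderOf_one] at he
  exact hq.ne_one he.symm

theorem mem_of_pow_card_eq_one {A : Type*} [Group A] [Finite A] [IsCyclic A] (H : Subgroup A)
    {y : A} (hy : y ^ Nat.card H = 1) : y ∈ H := by
  classical
  haveI := Fintype.ofFinite A
  haveI := Fintype.ofFinite H
  have hle := IsCyclic.card_pow_eq_one_le (α := A) (n := Nat.card H) Nat.card_pos
  have hsub : (H : Set A).toFinset ⊆ Finset.univ.filter (fun a : A => a ^ Nat.card H = 1) :=
    fun a ha => by
      rw [Set.mem_toFinset] at ha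
      rw [Finset.mem_filter]
      exact ⟨Finset.mem_univ _, congrArg Subtype.val (pow_card_eq_one' (x := (⟨a, ha⟩ : H)))⟩
  have := Finset.eq_of_subset_of_card_le hsub (by
    simpa [Set.toFinset_card, Nat.card_eq_fintype_card] using hle)
  have hy' : y ∈ (H : Set A).toFinset := by rw [this]; simpa using hy
  simpa using hy'

theorem exists_linear_sep {A : Type*} [Group A] [Finite A] (h : ∀ a b : A, a * b = b * a) {y : A}
    (hy : y ≠ 1) : ∃ l : A →* ℂ, l y ≠ 1 := by
  by_contra hh
  push Not at hh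
  refine hy ?_
  have : IsConj y 1 := (isConj_iff_irr _ _).2 fun χ => by
    obtain ⟨l, hl⟩ := exists_hom_of_degree_one (IsIrrCharacter.isCharacter χ.2)
      (apply_one_eq_one_of_comm h χ)
    rw [← hl, hh, map_one]
  exact isConj_one_left.1 this

/-- The data of a Frobenius type section. -/
structure FrobSection (G : Type*) [Group G] (m : ℕ) (K N : Subgroup G) (q : ℕ) : Prop where
  K_normal : K.Normal
  N_normal : N.Normal
  le : K ≤ N
  ne : ¬ N ≤ K
  comm_le : commutator G ≤ N
  prime : q.Prime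
  cyclic : ∀ H : Subgroup G, N ≤ H → ∀ g : G, ∀ k : ℕ, k = N.relIndex H → g ^ k ∈ N → g ∈ H
  gen : ∀ a : ℕ, a ∣ N.index → a ≠ 1 → ∃ g : G, g ∉ N ∧ g ^ a ∈ N
  pow : ∀ n ∈ N, n ^ q ∈ K
  ab : ∀ a ∈ N, ∀ b ∈ N, a * b * a⁻¹ * b⁻¹ ∈ K
  fpf : ∀ g ∉ N, ∀ n ∈ N, g * n * g⁻¹ * n⁻¹ ∈ K → n ∈ K
  cop : N.index.Coprime q
  index_eq : N.index = m

/-- Every maximal section is a `p`-group or gives Frobenius type data. -/
theorem TwoDeg.section_dichotomy (h : TwoDeg G m) (K : Subgroup G) [K.Normal]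
    (hK : ¬ commutator G ≤ K)
    (hmax : ∀ M : Subgroup G, M.Normal → K ≤ M → ¬ commutator G ≤ M → M = K) :
    (∃ p : ℕ, p.Prime ∧ IsPGroup p (G ⧸ K)) ∨ ∃ N q, FrobSection G m K N q := by
  classical
  let π := QuotientGroup.mk' K
  have hπ : Function.Surjective π := QuotientGroup.mk'_surjective K
  have hmap : (commutator G).map π = commutator (G ⧸ K) := by
    rw [commutator_def, Subgroup.map_commutator, Subgroup.map_top_of_surjective π hπ,
      ← commutator_def]
  have hne : commutator (G ⧸ K) ≠ ⊥ := by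
    rw [← hmap, Ne, Subgroup.map_eq_bot_iff, QuotientGroup.ker_mk']
    exact hK
  have hmin : ∀ M : Subgroup (G ⧸ K), M.Normal → M ≠ ⊥ → commutator (G ⧸ K) ≤ M := by
    intro M hM hMne
    rw [← hmap, Subgroup.map_le_iff_le_comap]
    by_contra hh
    refine hMne ?_
    have := hmax (M.comap π) (hM.comap π) ((QuotientGroup.ker_mk' K).symm.le.trans
      (Subgroup.ker_le_comap π M)) hh
    rw [← Subgroup.map_comap_eq_self_of_surjective hπ M, this, Subgroup.map_eq_bot_iff,
      QuotientGroup.ker_mk']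
  haveI : Group.IsSolvable G := h.isSolvable
  haveI : Group.IsSolvable (G ⧸ K) := Group.isSolvable_of_surjective hπ
  by_cases hZ : Subgroup.center (G ⧸ K) = ⊥
  swap
  · exact Or.inl (isPGroup_of_center_ne_bot hne hmin hZ)
  obtain ⟨q, hq, hpow, hab, hfix, hcyc, hcop, htop⟩ := frobenius_of_center_eq_bot hne hmin hZ
  right
  set N := (commutator (G ⧸ K)).comap π with hN
  have hidx : N.index = (commutator (G ⧸ K)).index := Subgroup.index_comap_of_surjective _ hπ
  haveI hNn : N.Normal := Subgroup.Normal.comap inferInstance π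
  let f : (G ⧸ K) ⧸ commutator (G ⧸ K) →* G ⧸ N :=
    QuotientGroup.lift _ (QuotientGroup.map K N (MonoidHom.id G)
      ((QuotientGroup.ker_mk' K).symm.le.trans (Subgroup.ker_le_comap π (commutator (G ⧸ K))))) (by
      intro a ha
      induction a using QuotientGroup.induction_on with
      | H g => exact (QuotientGroup.eq_one_iff g).2 ha)
  haveI hcN : IsCyclic (G ⧸ N) := isCyclic_of_surjective f fun y => by
    induction y using QuotientGroup.induction_on with
    | H g => exact ⟨((g : G ⧸ K) : (G ⧸ K) ⧸ commutator (G ⧸ K)), rfl⟩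
  -- a character of degree the index
  have hm : N.index = m := by
    haveI := Fintype.ofFinite (G ⧸ K)
    haveI := Fintype.ofFinite (commutator (G ⧸ K))
    obtain ⟨y, hy⟩ := Subgroup.ne_bot_iff_exists_ne_one.1 hne
    have habC : ∀ a b : commutator (G ⧸ K), a * b = b * a :=
      fun a b => Subtype.ext (hab a a.2 b b.2)
    obtain ⟨l, hl⟩ := exists_linear_sep habC hy
    have hlirr : IsIrrCharacter (commutator (G ⧸ K)) l := by
      have := IsIrrCharacter.mul_linear
        (isIrrCharacter_one (G := commutator (G ⧸ K))) l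
      simpa using this
    have hI : inertia (commutator (G ⧸ K)) (l : _ → ℂ) = commutator (G ⧸ K) := by
      refine le_antisymm (fun g hg => ?_) (le_inertia _ (IsIrrCharacter.isClassFunction hlirr))
      by_contra hgN
      let φ : commutator (G ⧸ K) → commutator (G ⧸ K) := fun n =>
        ⟨g * n * g⁻¹, Subgroup.Normal.conj_mem inferInstance _ n.2 g⟩ * n⁻¹
      have hφ : Function.Injective φ := by
        intro a b e
        have e' : g * a * g⁻¹ * (a : G ⧸ K)⁻¹ = g * b * g⁻¹ * (b : G ⧸ K)⁻¹ :=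
          congrArg Subtype.val e
        have e2 : g * ((b : G ⧸ K)⁻¹ * a) * g⁻¹ = (b : G ⧸ K)⁻¹ * a := by
          calc g * ((b : G ⧸ K)⁻¹ * a) * g⁻¹
              = (g * b * g⁻¹)⁻¹ * ((g * a * g⁻¹ * (a : G ⧸ K)⁻¹) * a) := by group
            _ = (g * b * g⁻¹)⁻¹ * ((g * b * g⁻¹ * (b : G ⧸ K)⁻¹) * a) := by rw [e']
            _ = (b : G ⧸ K)⁻¹ * a := by group
        have := hfix g hgN _ ((commutator (G ⧸ K)).mul_mem
          ((commutator (G ⧸ K)).inv_mem b.2) a.2) (mul_inv_eq_iff_eq_mul.1 e2)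
        exact Subtype.ext (inv_mul_eq_one.1 this).symm
      obtain ⟨n, hn⟩ := Finite.injective_iff_surjective.1 hφ y
      apply hl
      rw [← hn, map_mul, (mem_inertia_iff _).1 hg n, ← map_mul, mul_inv_cancel, map_one]
    obtain ⟨χ, hχ, hover⟩ := exists_over (commutator (G ⧸ K)) hlirr
    obtain ⟨e, he0, -, hdeg, hself⟩ := degree_over _ hχ hlirr hover
    have hl1 : charDegree (l : commutator (G ⧸ K) → ℂ) = 1 := by simp [charDegree]
    rw [hI] at hdeg hself
    rw [hl1, mul_one] at hdeg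
    have hb := multiplicity_sq_le_index (commutator (G ⧸ K)) hχ
    rw [hself, ← hidx] at hb
    rw [show ((e : ℂ) ^ 2 * (N.index : ℂ)) = ((e ^ 2 * N.index : ℕ) : ℂ) by push_cast; rfl,
      Complex.natCast_re, Nat.cast_le] at hb
    have hpos : 0 < N.index := Nat.pos_of_ne_zero Subgroup.index_ne_zero_of_finite
    have he1 : e = 1 := by
      rcases Nat.lt_or_ge e 2 with h2 | h2
      · omega
      · exact absurd hb (not_le.2 (lt_mul_of_one_lt_left hpos (Nat.one_lt_pow two_ne_zero (by omega))))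
    rw [he1, one_mul, ← hidx] at hdeg
    have hd : charDegree (Codegree.inflate K ⟨χ, hχ⟩ : G → ℂ) = N.index := hdeg
    rcases h.cd (Codegree.inflate K ⟨χ, hχ⟩) with e1 | e1
    · exact absurd (Subgroup.index_eq_one.1 (hidx ▸ hd.symm.trans e1)) htop
    · exact hd.symm.trans e1
  refine ⟨N, q, ‹K.Normal›, hNn, (QuotientGroup.ker_mk' K).symm.le.trans
    (Subgroup.ker_le_comap π _), ?_, ?_, hq, ?_, ?_, ?_, ?_, ?_, hidx ▸ hcop, hm⟩
  · intro hNK
    exact hK (le_trans (Subgroup.map_le_iff_le_comap.1 hmap.le) hNK)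
  · exact Subgroup.map_le_iff_le_comap.1 hmap.le
  · intro H hNH g k hk hg
    have hcard : Nat.card (H.map (QuotientGroup.mk' N)) = k := by
      have h1 : ((H.map (QuotientGroup.mk' N))).index = H.index :=
        Subgroup.index_map_eq H (QuotientGroup.mk'_surjective N)
          (by rw [QuotientGroup.ker_mk']; exact hNH)
      have h2 := (H.map (QuotientGroup.mk' N)).card_mul_index
      rw [h1, ← N.index_eq_card, ← Subgroup.relIndex_mul_index hNH, ← hk] at h2
      exact Nat.eq_of_mul_eq_mul_right (Nat.pos_of_ne_zero Subgroup.index_ne_zero_of_finite) h2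
    have := mem_of_pow_card_eq_one (H.map (QuotientGroup.mk' N)) (y := QuotientGroup.mk' N g)
      (by rw [hcard, ← map_pow]; exact (QuotientGroup.eq_one_iff _).2 hg)
    rw [← Subgroup.mem_comap, Subgroup.comap_map_eq, QuotientGroup.ker_mk', sup_eq_left.2 hNH]
      at this
    exact this
  · intro a ha ha1
    obtain ⟨c, hc⟩ := IsCyclic.exists_ofOrder_eq_natCard (α := G ⧸ N)
    rw [← N.index_eq_card] at hc
    obtain ⟨g, hg⟩ := QuotientGroup.mk'_surjective N (c ^ (N.index / a))
    have hord : orderOf (c ^ (N.index / a)) = a := by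
      conv_lhs => rw [← hc]
      exact orderOf_pow_orderOf_div (by rw [hc]; exact Subgroup.index_ne_zero_of_finite)
        (hc.symm ▸ ha)
    refine ⟨g, fun hgN => ha1 ?_, (QuotientGroup.eq_one_iff _).1 ?_⟩
    · rw [← hord, ← hg, orderOf_eq_one_iff]
      exact (QuotientGroup.eq_one_iff _).2 hgN
    · show (QuotientGroup.mk' N) (g ^ a) = 1
      rw [map_pow, hg]
      exact orderOf_dvd_iff_pow_eq_one.1 hord.dvd
  · intro n hn
    exact (QuotientGroup.eq_one_iff _).1 (hpow _ hn)
  · intro a ha b hb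
    refine (QuotientGroup.eq_one_iff _).1 ?_
    have := hab _ ha _ hb
    show π (a * b * a⁻¹ * b⁻¹) = 1
    rw [map_mul, map_mul, map_mul, map_inv, map_inv, this]
    group
  · intro g hg n hn he
    refine (QuotientGroup.eq_one_iff n).1 (hfix (π g) hg (π n) hn ?_)
    have : π (g * n * g⁻¹ * n⁻¹) = 1 := (QuotientGroup.eq_one_iff _).2 he
    rw [map_mul, map_mul, map_mul, map_inv, map_inv, mul_inv_eq_one,
      mul_inv_eq_iff_eq_mul] at this
    exact this

/-- The middle term of Frobenius type data is abelian. -/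
theorem TwoDeg.comm_of_frobSection (h : TwoDeg G m) {K N : Subgroup G} {q : ℕ}
    (hs : FrobSection G m K N q) : ∀ a ∈ N, ∀ b ∈ N, a * b = b * a := by
  classical
  haveI := hs.K_normal
  haveI := hs.N_normal
  haveI := Fintype.ofFinite G
  haveI := Fintype.ofFinite N
  suffices key : ∀ ψ : IrrCharacter N, (ψ : N → ℂ) 1 = 1 from fun a ha b hb =>
    congrArg Subtype.val (comm_of_forall_degree_one key ⟨a, ha⟩ ⟨b, hb⟩)
  intro ψ
  set a := charDegree (ψ : N → ℂ) with haa
  rw [apply_one ψ.2, ← haa, Nat.cast_eq_one]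
  by_contra ha1
  have ha0 : 0 < a := TwoClassChar.deg_pos ψ.2
  -- every twist of `ψ` is moved only outside a subgroup of order divisible by `a`
  have hbig : ∀ θ : N → ℂ, IsIrrCharacter N θ → charDegree θ = a →
      a ∣ m ∧ ∀ g : G, g ^ a ∈ N → g ∈ inertia N θ := by
    intro θ hθ hθa
    obtain ⟨χ, hχ, hover⟩ := exists_over N hθ
    obtain ⟨e, -, -, hdeg, -⟩ := degree_over N hχ hθ hover
    have hχm : charDegree χ = m := by
      refine (h.cd ⟨χ, hχ⟩).resolve_left fun e1 => ha1 ?_
      have e2 : charDegree χ = 1 := e1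
      rw [hθa] at hdeg
      exact Nat.dvd_one.1 ⟨e * (inertia N θ).index, by rw [mul_comm a]; omega⟩
    rw [hχm, hθa] at hdeg
    refine ⟨hdeg ▸ dvd_mul_left a _, fun g hg => ?_⟩
    have hle := le_inertia N (θ := θ) (IsIrrCharacter.isClassFunction hθ)
    have hrel := Subgroup.relIndex_mul_index hle
    rw [hs.index_eq, hdeg] at hrel
    have hea : N.relIndex (inertia N θ) = e * a :=
      Nat.eq_of_mul_eq_mul_right (Nat.pos_of_ne_zero Subgroup.index_ne_zero_of_finite)
        (hrel.trans (by ring))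
    refine hs.cyclic _ hle g _ rfl ?_
    rw [hea, mul_comm e a, pow_mul]
    exact pow_mem hg e
  obtain ⟨hadvd, hψfix⟩ := hbig _ ψ.2 haa.symm
  obtain ⟨g, hg, hga⟩ := hs.gen a (hs.index_eq ▸ hadvd) ha1
  -- `ψ` vanishes off `K`
  have hvan : ∀ x : N, (x : G) ∉ K → (ψ : N → ℂ) x = 0 := by
    intro x hx
    by_contra hne
    let K' := K.subgroupOf N
    have habQ : ∀ u v : N ⧸ K', u * v = v * u := by
      intro u v
      induction u using QuotientGroup.induction_on with
      | H u => induction v using QuotientGroup.induction_on with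
        | H v =>
          rw [← QuotientGroup.mk_mul, ← QuotientGroup.mk_mul, QuotientGroup.eq,
            Subgroup.mem_subgroupOf]
          simpa [mul_assoc] using hs.ab _ (N.inv_mem v.2) _ (N.inv_mem u.2)
    let y : N := ⟨g * x * g⁻¹, hs.N_normal.conj_mem _ x.2 g⟩ * x⁻¹
    have hy : (QuotientGroup.mk y : N ⧸ K') ≠ 1 := fun e =>
      hx (hs.fpf g hg x x.2 ((QuotientGroup.eq_one_iff y).1 e))
    obtain ⟨l, hl⟩ := exists_linear_sep habQ hy
    let L : N →* ℂ := l.comp (QuotientGroup.mk' K')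
    have hirr := IsIrrCharacter.mul_linear ψ.2 L
    have hdeg : charDegree (fun n => (ψ : N → ℂ) n * L n) = a := by
      simp [charDegree, haa]
    have h1 := (mem_inertia_iff _).1 ((hbig _ hirr hdeg).2 g hga) x
    have h2 := (mem_inertia_iff _).1 (hψfix g hga) x
    rw [h2] at h1
    apply hl
    show L y = 1
    rw [show y = ⟨g * x * g⁻¹, hs.N_normal.conj_mem _ x.2 g⟩ * x⁻¹ from rfl, map_mul,
      mul_left_cancel₀ hne h1, ← map_mul, mul_inv_cancel, map_one]
  let K' := K.subgroupOf N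
  haveI := Fintype.ofFinite K'
  have hself : classInner (fun k : K' => (ψ : N → ℂ) k) (fun k : K' => (ψ : N → ℂ) k) =
      (K'.index : ℂ) := by
    have h1 := classInner_irr_self ψ.2
    rw [classInner, inv_mul_eq_iff_eq_mul₀ (Nat.cast_ne_zero.2 Nat.card_pos.ne'), mul_one] at h1
    rw [classInner, inv_mul_eq_iff_eq_mul₀ (Nat.cast_ne_zero.2 Nat.card_pos.ne'), ← Nat.cast_mul,
      K'.card_mul_index, ← h1]
    rw [← Finset.sum_filter_of_ne (p := fun n : N => n ∈ K') (s := Finset.univ)]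
    · exact (Finset.sum_subtype _ (fun x => by simp) (fun n : N => (ψ : N → ℂ) n * conj ((ψ : N → ℂ) n))).symm
    · intro n _ hn0
      by_contra hnK
      exact hn0 (by rw [hvan n hnK, zero_mul])
  obtain ⟨θ, hθ⟩ := exists_constituent (IsCharacter.restrict (IsIrrCharacter.isCharacter ψ.2) K')
    (by rw [OneMemClass.coe_one, apply_one ψ.2]; exact Nat.cast_ne_zero.2 ha0.ne')
  obtain ⟨e, -, -, hdeg, hee⟩ := degree_over K' ψ.2 θ.2 hθ
  rw [hself] at hee
  have hidx : K'.index = e ^ 2 * (inertia K' (θ : K' → ℂ)).index := by exact_mod_cast hee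
  haveI := Fact.mk hs.prime
  have hp : IsPGroup q (N ⧸ K') := fun u => by
    induction u using QuotientGroup.induction_on with
    | H u => exact ⟨1, by
        rw [pow_one, ← QuotientGroup.mk_pow, QuotientGroup.eq_one_iff]
        exact hs.pow u u.2⟩
  obtain ⟨s, hs'⟩ := IsPGroup.iff_card.1 hp
  rw [← K'.index_eq_card] at hs'
  have hcop : a.Coprime q := Nat.Coprime.coprime_dvd_left hadvd (hs.index_eq ▸ hs.cop)
  have hone : K'.index = 1 := by
    have h1 : K'.index ∣ a ^ 2 := by
      rw [hidx, haa, hdeg]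
      exact Dvd.intro ((inertia K' (θ : K' → ℂ)).index * charDegree (θ : K' → ℂ) ^ 2) (by ring)
    exact Nat.eq_one_of_dvd_coprimes (hs' ▸ (hcop.pow 2 s)) h1 (hs' ▸ dvd_rfl)
  exact hs.ne fun n hn => by
    have : (⟨n, hn⟩ : N) ∈ K' := Subgroup.index_eq_one.1 hone ▸ Subgroup.mem_top _
    exact this

theorem exists_max_section (K₀ : Subgroup G) [hn : K₀.Normal] (h₀ : ¬ commutator G ≤ K₀) :
    ∃ K : Subgroup G, K.Normal ∧ K₀ ≤ K ∧ ¬ commutator G ≤ K ∧
      ∀ M : Subgroup G, M.Normal → K ≤ M → ¬ commutator G ≤ M → M = K := by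
  obtain ⟨K, hle, hK⟩ := Finite.exists_le_maximal
    (p := fun M : Subgroup G => M.Normal ∧ ¬ commutator G ≤ M) (a := K₀) ⟨hn, h₀⟩
  exact ⟨K, hK.prop.1, hle, hK.prop.2, fun M hM hKM hMc =>
    le_antisymm (hK.2 ⟨hM, hMc⟩ hKM) hKM⟩

theorem dvd_card_of_isPGroup_quotient {p : ℕ} [Fact p.Prime] {K : Subgroup G} [K.Normal]
    (hK : IsPGroup p (G ⧸ K)) : ∀ M : Subgroup G, (Nat.card M).Coprime p → M ≤ K := by
  intro M hM x hx
  obtain ⟨k, hk⟩ := hK (x : G ⧸ K)
  have h1 : orderOf (x : G ⧸ K) ∣ p ^ k := orderOf_dvd_of_pow_eq_one hk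
  have h2 : orderOf (x : G ⧸ K) ∣ Nat.card M :=
    (orderOf_map_dvd (QuotientGroup.mk' K) x).trans (Subgroup.orderOf_dvd_natCard M hx)
  rw [← QuotientGroup.eq_one_iff, ← orderOf_eq_one_iff]
  exact Nat.eq_one_of_dvd_coprimes (hM.pow_right k) h2 h1

/-- **The structure theorem.** -/
theorem TwoDeg.structure_theorem (h : TwoDeg G m) :
    (∃ A : Subgroup G, A.Normal ∧ commutator G ≤ A ∧ (∀ a ∈ A, ∀ b ∈ A, a * b = b * a) ∧
      A.index = m) ∨
    ∃ p e : ℕ, p.Prime ∧ m = p ^ e ∧ Group.IsNilpotent G ∧ ∃ P A : Subgroup G,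
      P.Normal ∧ A.Normal ∧ IsPGroup p P ∧ (∀ a ∈ A, ∀ b ∈ A, a * b = b * a) ∧
      P ⊓ A = ⊥ ∧ P ⊔ A = ⊤ := by
  classical
  by_cases hB : ∃ K N q, FrobSection G m K N q
  · obtain ⟨K, N, q, hs⟩ := hB
    exact Or.inl ⟨N, hs.N_normal, hs.comm_le, h.comm_of_frobSection hs, hs.index_eq⟩
  right
  have hA : ∀ K : Subgroup G, ∀ [K.Normal], ¬ commutator G ≤ K →
      (∀ M : Subgroup G, M.Normal → K ≤ M → ¬ commutator G ≤ M → M = K) →
      ∃ p e : ℕ, p.Prime ∧ IsPGroup p (G ⧸ K) ∧ m = p ^ e := by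
    intro K _ hK hmax
    rcases h.section_dichotomy K hK hmax with ⟨p, hp, hpK⟩ | ⟨N, q, hs⟩
    · haveI := Fact.mk hp
      obtain ⟨ψ, hψ⟩ : ∃ ψ : IrrCharacter (G ⧸ K), (ψ : G ⧸ K → ℂ) 1 ≠ 1 := by
        by_contra hh
        push Not at hh
        refine hK fun x hx => (QuotientGroup.eq_one_iff x).1 ?_
        have hc := comm_of_forall_degree_one hh
        have hker : commutator G ≤ (QuotientGroup.mk' K).ker := by
          rw [commutator_def, Subgroup.commutator_le]
          intro a _ b _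
          rw [MonoidHom.mem_ker, map_commutatorElement, commutatorElement_eq_one_iff_mul_comm]
          exact hc _ _
        exact hker hx
      obtain ⟨d, -, hd1, hd2⟩ := IsIrrCharacter.degree_dvd_card ψ.2
      rw [apply_one ψ.2, Nat.cast_inj] at hd1
      obtain ⟨k, hk⟩ := IsPGroup.iff_card.1 hpK
      have hdm : charDegree (ψ : G ⧸ K → ℂ) = m :=
        (h.cd (Codegree.inflate K ψ)).resolve_left fun e1 => hψ (by
          rw [apply_one ψ.2, show charDegree (ψ : G ⧸ K → ℂ) = 1 from e1, Nat.cast_one])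
      obtain ⟨e, -, he⟩ := (Nat.dvd_prime_pow hp).1 (hk ▸ hd2)
      exact ⟨p, e, hp, hpK, by rw [← hdm, hd1, he]⟩
    · exact absurd ⟨K, N, q, hs⟩ hB
  obtain ⟨K₁, hK₁, -, hK₁c, hK₁m⟩ := exists_max_section (⊥ : Subgroup G)
    (fun hle => h.commutator_ne_bot (le_bot_iff.1 hle))
  obtain ⟨p, e, hp, -, hme⟩ := hA K₁ hK₁c hK₁m
  have he0 : e ≠ 0 := fun e0 => h.ne (by rw [hme, e0, pow_zero])
  haveI := Fact.mk hp
  obtain ⟨P, L, hLn, hPL⟩ := hasNormalPComplement_of_dvd p
    (h.dvd_degree (hme ▸ dvd_pow_self p he0))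
  haveI := hLn
  have hLcop : (Nat.card L).Coprime p := by
    rw [Nat.coprime_comm, hp.coprime_iff_not_dvd, ← hPL.index_eq_card]
    exact P.not_dvd_index
  have hLab := comm_of_coprime L fun χ hχ =>
    ((h.cd χ).resolve_left hχ).symm ▸ hme ▸ hLcop.pow_right e
  haveI := Fintype.ofFinite G
  haveI := Fintype.ofFinite L
  have hGL : commutator G ≤ Subgroup.centralizer (L : Set G) := by
    intro x hx l hl
    have hconj : IsConj (⟨x * l * x⁻¹, hLn.conj_mem l hl x⟩ : L) ⟨l, hl⟩ := by
      refine (isConj_iff_irr _ _).2 fun θ => ?_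
      obtain ⟨χ, hχ, hover⟩ := exists_over L θ.2
      obtain ⟨e', he', -, hdeg, -⟩ := degree_over L hχ θ.2 hover
      have hle : (inertia L (θ : L → ℂ)).index ≤ m := by
        refine le_trans ?_ (h.le ⟨χ, hχ⟩)
        rw [show charDegree ((⟨χ, hχ⟩ : IrrCharacter G) : G → ℂ) = charDegree χ from rfl, hdeg]
        calc (inertia L (θ : L → ℂ)).index
            ≤ e' * (inertia L (θ : L → ℂ)).index := Nat.le_mul_of_pos_left _ he'
          _ ≤ _ := Nat.le_mul_of_pos_right _ (TwoClassChar.deg_pos θ.2)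
      exact (mem_inertia_iff _).1 (h.commutator_le_of_index_le _ hle hx) ⟨l, hl⟩
    obtain ⟨c, hc⟩ := isConj_iff.1 hconj
    have := congrArg Subtype.val (hc.symm.trans (by rw [hLab c, mul_inv_cancel_right]))
    exact (mul_inv_eq_iff_eq_mul.1 this.symm).symm
  have hsup : L ⊔ (P : Subgroup G) = ⊤ := hPL.sup_eq_top
  set C := Subgroup.centralizer (L : Set G) with hC
  have hLC : L ≤ C := fun a ha b hb => congrArg Subtype.val (hLab ⟨b, hb⟩ ⟨a, ha⟩)
  have hCtop : C = ⊤ := by
    by_contra hne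
    -- `P ⊓ C` is normal
    have hPC : ((P : Subgroup G) ⊓ C).Normal := by
      refine Subgroup.normalizer_eq_top_iff.1 (top_le_iff.1 (hsup ▸ sup_le ?_ ?_))
      · intro l hl
        rw [Subgroup.mem_normalizer_iff]
        intro x
        constructor
        · intro hx
          have := hx.2 l hl
          rwa [this, mul_inv_cancel_right]
        · intro hx
          have := hx.2 l hl
          have e : l * x * l⁻¹ = x := by
            have h2 : l * (l * x * l⁻¹) = (l * x * l⁻¹) * l := this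
            calc l * x * l⁻¹ = l⁻¹ * (l * (l * x * l⁻¹)) := by group
              _ = l⁻¹ * ((l * x * l⁻¹) * l) := by rw [h2]
              _ = x := by group
          rwa [e] at hx
      · intro y hy
        rw [Subgroup.mem_normalizer_iff]
        intro x
        refine and_congr ⟨fun hx => (P : Subgroup G).mul_mem ((P : Subgroup G).mul_mem hy hx)
          ((P : Subgroup G).inv_mem hy), fun hx => ?_⟩
          ⟨fun hx => (inferInstance : C.Normal).conj_mem x hx y, fun hx => ?_⟩
        · have := (P : Subgroup G).mul_mem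
            ((P : Subgroup G).mul_mem ((P : Subgroup G).inv_mem hy) hx) hy
          rwa [show y⁻¹ * (y * x * y⁻¹) * y = x by group] at this
        · simpa [mul_assoc] using (inferInstance : C.Normal).conj_mem _ hx y⁻¹
    by_cases hcase : commutator G ≤ (P : Subgroup G) ⊓ C
    · refine hne (top_le_iff.1 fun g _ l hl => ?_)
      have h1 : g * l * g⁻¹ * l⁻¹ ∈ L ⊓ (P : Subgroup G) :=
        ⟨L.mul_mem (hLn.conj_mem l hl g) (L.inv_mem hl),
          (hcase (Subgroup.commutator_mem_commutator (Subgroup.mem_top g) (Subgroup.mem_top l))).1⟩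
      rw [hPL.disjoint.eq_bot, Subgroup.mem_bot, mul_inv_eq_one, mul_inv_eq_iff_eq_mul] at h1
      exact h1.symm
    obtain ⟨K, hK, hle, hKc, hKm⟩ := @exists_max_section G _ _ _ hPC hcase
    obtain ⟨p', e'', hp', hpK, hme'⟩ := hA K hKc hKm
    obtain rfl : p' = p := by
      have hd : p ∣ p' ^ e'' := hme' ▸ hme ▸ dvd_pow_self p he0
      exact ((Nat.prime_dvd_prime_iff_eq hp hp').1 (hp.dvd_of_dvd_pow hd)).symm
    have hLK := dvd_card_of_isPGroup_quotient hpK L hLcop
    refine hKc fun x hx => ?_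
    have hxC : x ∈ C := hGL hx
    obtain ⟨l, hl, y, hy, rfl⟩ := Subgroup.mem_sup_of_normal_left.1 (hsup ▸ Subgroup.mem_top x)
    have hyC : y ∈ C := by simpa using C.mul_mem (C.inv_mem (hLC hl)) hxC
    exact K.mul_mem (hLK hl) (hle ⟨hy, hyC⟩)
  have hLZ : L ≤ Subgroup.center G := fun l hl =>
    Subgroup.mem_center_iff.2 fun g => ((hCtop ▸ Subgroup.mem_top g : g ∈ C) l hl).symm
  have hPn : (P : Subgroup G).Normal := by
    refine Subgroup.normalizer_eq_top_iff.1 (top_le_iff.1 (hsup ▸ sup_le ?_ Subgroup.le_normalizer))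
    exact hLZ.trans (Subgroup.center_le_normalizer _)
  have hnil : Group.IsNilpotent G := by
    obtain ⟨k, hk⟩ := IsPGroup.iff_card.1 P.2
    have hidx : (Subgroup.center G).index ∣ p ^ k := by
      rw [← hk, ← hPL.symm.index_eq_card]
      exact Subgroup.index_dvd_of_le hLZ
    obtain ⟨j, -, hj⟩ := (Nat.dvd_prime_pow hp).1 hidx
    haveI : Group.IsNilpotent (G ⧸ Subgroup.center G) :=
      (IsPGroup.of_card (p := p) (n := j) (by rw [← Subgroup.index_eq_card, hj])).isNilpotent
    exact Group.of_quotient_center_nilpotent inferInstance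
  exact ⟨p, e, hp, hme, hnil, P, L, hPn, hLn, P.2,
    fun a ha b hb => congrArg Subtype.val (hLab ⟨a, ha⟩ ⟨b, hb⟩),
    disjoint_iff.1 hPL.disjoint.symm, by rw [sup_comm]; exact hsup⟩

/-- With two degrees the derived subgroup is abelian. -/
theorem TwoDeg.commutator_comm (h : TwoDeg G m) :
    ∀ a ∈ commutator G, ∀ b ∈ commutator G, a * b = b * a := by
  rcases h.structure_theorem with ⟨A, -, hle, hab, -⟩ | ⟨p, e, -, -, hnil, -⟩
  · exact fun a ha b hb => hab a (hle ha) b (hle hb)
  classical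
  haveI := Fintype.ofFinite G
  haveI := hnil
  intro a ha b hb
  rw [← commutatorElement_eq_one_iff_mul_comm]
  have hall : ∀ χ : IrrCharacter G, (χ : G → ℂ) ⁅a, b⁆ = (χ : G → ℂ) 1 := by
    intro χ
    obtain ⟨H, lam, hχ⟩ := monomial_of_isNilpotent χ.2
    haveI := Fintype.ofFinite H
    have hdeg : H.index ≤ m := by
      have h1 := apply_one χ.2
      rw [hχ, indFun_one_apply, map_one, Units.val_one, mul_one, Nat.cast_inj] at h1
      exact h1 ▸ hχ ▸ h.le χ
    have hGH := h.commutator_le_of_index_le H hdeg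
    have hterm : ∀ x : G, extendByZero H (fun t : H => (lam t : ℂ)) (x⁻¹ * ⁅a, b⁆ * x) = 1 := by
      intro x
      have hc : ∀ u ∈ commutator G, x⁻¹ * u * x ∈ commutator G := fun u hu => by
        simpa using (inferInstance : (commutator G).Normal).conj_mem u hu x⁻¹
      let u : H := ⟨x⁻¹ * a * x, hGH (hc a ha)⟩
      let v : H := ⟨x⁻¹ * b * x, hGH (hc b hb)⟩
      have e : x⁻¹ * ⁅a, b⁆ * x = ((⁅u, v⁆ : H) : G) := by
        simp only [commutatorElement_def, Subgroup.coe_mul, InvMemClass.coe_inv, u, v]; group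
      rw [e, extendByZero_coe, map_commutatorElement,
        commutatorElement_eq_one_iff_mul_comm.2 (mul_comm _ _), Units.val_one]
    conv_rhs => rw [hχ, indFun_one_apply, map_one, Units.val_one, mul_one]
    rw [hχ, Cfsg.indFun, Finset.sum_congr rfl fun x _ => hterm x, Finset.sum_const,
      Finset.card_univ, nsmul_one, ← Nat.card_eq_fintype_card,
      inv_mul_eq_iff_eq_mul₀ (Nat.cast_ne_zero.2 Nat.card_pos.ne'), ← Nat.cast_mul,
      Subgroup.card_mul_index]
  exact isConj_one_left.1 ((isConj_iff_irr _ _).2 hall)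

end Cfsg.Agent.CharApp.TwoDegrees
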