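/-
Groups with character degrees `1` and `p`: an abelian normal subgroup of index `p`, or a centre
of index `p ^ 3`.

Main results: `MaxAb`, `MaxAb.center_relIndex`, `degrees_one_p_structure`, `degrees_of_index`,
`degrees_of_center_index`.
-/
import Cfsg.Agent.Lib.CharApp.TwoDegrees
import Cfsg.Agent.Lib.Ito.Basic
import Mathlib.GroupTheory.GroupAction.CardCommute

set_option autoImplicit false
set_option linter.style.haveILetI false

namespace Cfsg.Agent.CharApp.DegreeOneP

open Cfsg Cfsg.Agent.Char Cfsg.Agent.CharApp.DegreeSets Cfsg.Agent.CharApp.TwoDegrees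
open scoped commutatorElement

variable {G : Type*} [Group G] {p : ℕ}

/-- A maximal abelian subgroup containing the derived subgroup. -/
structure MaxAb (A : Subgroup G) : Prop where
  ab : ∀ a ∈ A, ∀ b ∈ A, a * b = b * a
  comm_le : commutator G ≤ A
  self : ∀ x : G, (∀ a ∈ A, x * a = a * x) → x ∈ A

theorem MaxAb.normal {A : Subgroup G} (hA : MaxAb A) : A.Normal := by
  refine ⟨fun a ha g => ?_⟩
  have := A.mul_mem (hA.comm_le
    (Subgroup.commutator_mem_commutator (Subgroup.mem_top g) (Subgroup.mem_top a))) ha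
  rwa [commutatorElement_def, inv_mul_cancel_right] at this

theorem exists_maxAb [Finite G] {B : Subgroup G} (hB : ∀ a ∈ B, ∀ b ∈ B, a * b = b * a)
    (hcB : commutator G ≤ B) : ∃ A : Subgroup G, MaxAb A ∧ B ≤ A := by
  obtain ⟨A, hle, hA⟩ := Finite.exists_le_maximal
    (p := fun M : Subgroup G => ∀ a ∈ M, ∀ b ∈ M, a * b = b * a) (a := B) hB
  refine ⟨A, ⟨hA.prop, hcB.trans hle, fun x hx => ?_⟩, hle⟩
  have hcl : IsMulCommutative (Subgroup.closure (insert x (A : Set G))) := by
    refine Subgroup.isMulCommutative_closure ?_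
    rintro a (rfl | ha) b (rfl | hb)
    · rfl
    · exact hx b hb
    · exact (hx a ha).symm
    · exact hA.prop a ha b hb
  have := hA.2 (y := Subgroup.closure (insert x (A : Set G)))
    (fun a ha b hb => congrArg Subtype.val (hcl.is_comm.comm ⟨a, ha⟩ ⟨b, hb⟩))
    (fun a ha => Subgroup.subset_closure (Set.mem_insert_of_mem _ ha))
  exact this (Subgroup.subset_closure (Set.mem_insert _ _))

variable (A : Subgroup G) [hAn : A.Normal]

/-- Conjugation on a normal subgroup. -/
def cj (g : G) (a : A) : A := ⟨g * a * g⁻¹, hAn.conj_mem a a.2 g⟩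

theorem cj_mul (g h : G) (a : A) : cj A (g * h) a = cj A g (cj A h a) :=
  Subtype.ext (by simp [cj, mul_assoc])

theorem cj_map_mul (g : G) (a b : A) : cj A g (a * b) = cj A g a * cj A g b :=
  Subtype.ext (by simp [cj, mul_assoc])

/-- The twist of a linear character by an element. -/
def dd (v : A →* ℂ) (g : G) (a : A) : ℂ := v (cj A g a * a⁻¹)

theorem apply_cj (v : A →* ℂ) (g : G) (a : A) : v (cj A g a) = dd A v g a * v a := by
  rw [dd, ← map_mul, inv_mul_cancel_right]

theorem mem_inertia_iff_cj {v : A →* ℂ} {g : G} :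
    g ∈ inertia A (v : A → ℂ) ↔ ∀ a : A, v (cj A g a) = v a :=
  mem_inertia_iff A

theorem hom_ne_zero {H : Type*} [Group H] (v : H →* ℂ) (a : H) : v a ≠ 0 := by
  intro e
  have := map_one v
  rw [← mul_inv_cancel a, map_mul, e, zero_mul] at this
  exact zero_ne_one this

theorem dd_eq_one_iff {v : A →* ℂ} {g : G} :
    (∀ a, dd A v g a = 1) ↔ g ∈ inertia A (v : A → ℂ) := by
  rw [mem_inertia_iff_cj]
  refine forall_congr' fun a => ?_
  rw [apply_cj]
  exact ⟨fun h => by rw [h, one_mul], fun h => mul_right_cancel₀ (hom_ne_zero v a) (by rw [h, one_mul])⟩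

variable [Finite G]

theorem linear_isIrr (v : A →* ℂ) : IsIrrCharacter A (v : A → ℂ) := by
  haveI := Fintype.ofFinite A
  simpa using IsIrrCharacter.mul_linear (isIrrCharacter_one (G := A)) v

theorem charDegree_linear {H : Type*} [Group H] (v : H →* ℂ) : charDegree (v : H → ℂ) = 1 := by
  simp [charDegree]

theorem inertia_index (h : TwoDeg G p) (hp : p.Prime) (v : A →* ℂ) :
    (inertia A (v : A → ℂ)).index = 1 ∨ (inertia A (v : A → ℂ)).index = p := by
  haveI := Fintype.ofFinite G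
  haveI := Fintype.ofFinite A
  obtain ⟨χ, hχ, hover⟩ := exists_over A (linear_isIrr A v)
  obtain ⟨e, -, -, hdeg, -⟩ := degree_over A hχ (linear_isIrr A v) hover
  rw [charDegree_linear, mul_one] at hdeg
  have hd : (inertia A (v : A → ℂ)).index ∣ charDegree χ := hdeg ▸ dvd_mul_left _ _
  rcases h.cd ⟨χ, hχ⟩ with e1 | e1
  · exact Or.inl (Nat.dvd_one.1 (e1 ▸ hd))
  · exact (Nat.dvd_prime hp).1 (e1 ▸ hd)

theorem le_inertia_linear (v : A →* ℂ) : A ≤ inertia A (v : A → ℂ) :=
  le_inertia A (IsIrrCharacter.isClassFunction (linear_isIrr A v))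

theorem inertia_normal (hA : MaxAb A) (v : A →* ℂ) : (inertia A (v : A → ℂ)).Normal := by
  refine ⟨fun a ha g => ?_⟩
  have := (inertia A (v : A → ℂ)).mul_mem (le_inertia_linear A v (hA.comm_le
    (Subgroup.commutator_mem_commutator (Subgroup.mem_top g) (Subgroup.mem_top a)))) ha
  rwa [commutatorElement_def, inv_mul_cancel_right] at this

theorem pow_mem_inertia (h : TwoDeg G p) (hp : p.Prime) (hA : MaxAb A) (v : A →* ℂ) (g : G) :
    g ^ p ∈ inertia A (v : A → ℂ) := by
  haveI := inertia_normal A hA v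
  have := (inertia A (v : A → ℂ)).pow_index_mem g
  rcases inertia_index A h hp v with e | e <;> rw [e] at this
  · exact pow_mem (by simpa using this) p
  · exact this

theorem eq_of_forall_linear (hab : ∀ a b : A, a * b = b * a) {x y : A}
    (h : ∀ v : A →* ℂ, v x = v y) : x = y := by
  by_contra hne
  obtain ⟨v, hv⟩ := exists_linear_sep hab (y := x * y⁻¹) (mul_inv_eq_one.not.2 hne)
  apply hv
  rw [map_mul, h v, ← map_mul, mul_inv_cancel, map_one]

theorem mem_of_forall_inertia (hA : MaxAb A) {g : G}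
    (h : ∀ v : A →* ℂ, g ∈ inertia A (v : A → ℂ)) : g ∈ A := by
  refine hA.self g fun a ha => ?_
  have := eq_of_forall_linear A (fun a b => Subtype.ext (hA.ab a a.2 b b.2))
    (x := cj A g ⟨a, ha⟩) (y := ⟨a, ha⟩) fun v => (mem_inertia_iff_cj A).1 (h v) _
  exact mul_inv_eq_iff_eq_mul.1 (congrArg Subtype.val this)

/-- Adding an element on the right of the stabiliser changes nothing. -/
theorem apply_cj_mul_right (hA : MaxAb A) {v : A →* ℂ} {t : G}
    (ht : t ∈ inertia A (v : A → ℂ)) (g : G) (a : A) :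
    v (cj A (g * t) a) = v (cj A g a) := by
  rw [show g * t = (g * t * g⁻¹) * g by group, cj_mul]
  exact (mem_inertia_iff_cj A).1 ((inertia_normal A hA v).conj_mem t ht g) _

/-- Two linear characters with different stabilisers. -/
theorem pair_lemma (h : TwoDeg G p) (hp : p.Prime) (hA : MaxAb A) {v w : A →* ℂ}
    (hv : (inertia A (v : A → ℂ)).index = p) (hw : (inertia A (w : A → ℂ)).index = p)
    (hne : inertia A (v : A → ℂ) ≠ inertia A (w : A → ℂ)) :
    (∀ g k : G, ∀ a, dd A v g (cj A k a) = dd A v g a) ∧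
      ∀ g : G, ∃ k : G, ∀ a, dd A w g a = dd A v k a := by
  classical
  set Tv := inertia A (v : A → ℂ)
  set Tw := inertia A (w : A → ℂ)
  haveI : Tv.Normal := inertia_normal A hA v
  haveI : Tw.Normal := inertia_normal A hA w
  haveI := Fact.mk hp
  -- the two stabilisers generate
  have hsup : ∀ g : G, ∃ t ∈ Tv, ∃ a ∈ Tw, g = t * a := by
    obtain ⟨a, ha, haT⟩ : ∃ a ∈ Tw, a ∉ Tv := by
      by_contra hh
      push Not at hh
      refine hne (Subgroup.eq_of_le_of_card_ge hh (le_of_eq ?_)).symm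
      have h1 := Tv.card_mul_index
      rw [hv, ← Tw.card_mul_index, hw] at h1
      exact Nat.eq_of_mul_eq_mul_right hp.pos h1
    intro g
    have hcard : Nat.card (G ⧸ Tv) = p := by rw [← Tv.index_eq_card, hv]
    obtain ⟨j, hj⟩ := mem_powers_of_prime_card hcard (g := (a : G ⧸ Tv))
      (g' := (g : G ⧸ Tv)) (fun e => haT ((QuotientGroup.eq_one_iff a).1 e))
    refine ⟨g * (a ^ j)⁻¹, (QuotientGroup.eq_one_iff _).1 ?_, a ^ j, pow_mem ha j, by group⟩
    rw [QuotientGroup.mk_mul, QuotientGroup.mk_inv, QuotientGroup.mk_pow]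
    exact mul_inv_eq_one.2 hj.symm
  set u : A →* ℂ := v * w
  set Tu := inertia A (u : A → ℂ)
  haveI : Tu.Normal := inertia_normal A hA u
  have key : ∀ a ∈ Tw, ∀ b ∈ Tv, a * b ∈ Tu → ∀ x, dd A v a x * dd A w b x = 1 := by
    intro a ha b hb hu x
    have h1 := (mem_inertia_iff_cj A).1 hu x
    have h2 : v (cj A (a * b) x) = v (cj A a x) := apply_cj_mul_right A hA hb a x
    have h3 : w (cj A (a * b) x) = w (cj A b x) := by
      rw [cj_mul]; exact (mem_inertia_iff_cj A).1 ha _
    simp only [u, MonoidHom.mul_apply] at h1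
    rw [h2, h3, apply_cj, apply_cj] at h1
    refine mul_right_cancel₀ (mul_ne_zero (hom_ne_zero v x) (hom_ne_zero w x)) ?_
    rw [one_mul]
    linear_combination h1
  have hexb : ∀ a ∈ Tw, ∃ b ∈ Tv, a * b ∈ Tu := by
    intro a ha
    by_cases haU : a ∈ Tu
    · exact ⟨1, one_mem _, by rwa [mul_one]⟩
    obtain ⟨b, hb, hbT⟩ : ∃ b ∈ Tv, b ∉ Tu := by
      by_contra hh
      push Not at hh
      refine hne (Subgroup.eq_of_le_of_card_ge (fun b hb => ?_) ?_)
      · refine (mem_inertia_iff_cj A).2 fun x => ?_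
        have h1 := (mem_inertia_iff_cj A).1 (hh b hb) x
        simp only [u, MonoidHom.mul_apply, (mem_inertia_iff_cj A).1 hb x] at h1
        exact mul_left_cancel₀ (hom_ne_zero v x) h1
      · refine le_of_eq ?_
        have h1 := Tv.card_mul_index
        rw [hv, ← Tw.card_mul_index, hw] at h1
        exact Nat.eq_of_mul_eq_mul_right hp.pos h1.symm
    have hcard : Nat.card (G ⧸ Tu) = p := by
      rw [← Tu.index_eq_card]
      refine (inertia_index A h hp u).resolve_left fun e => haU ?_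
      rw [show Tu = ⊤ from Subgroup.index_eq_one.1 e]
      exact Subgroup.mem_top a
    obtain ⟨j, hj⟩ := mem_powers_of_prime_card hcard (g := (b : G ⧸ Tu))
      (g' := ((a : G ⧸ Tu))⁻¹) (fun e => hbT ((QuotientGroup.eq_one_iff b).1 e))
    refine ⟨b ^ j, pow_mem hb j, (QuotientGroup.eq_one_iff _).1 ?_⟩
    rw [QuotientGroup.mk_mul, QuotientGroup.mk_pow, show (b : G ⧸ Tu) ^ j = (a : G ⧸ Tu)⁻¹ from hj,
      mul_inv_cancel]
  have hfixv : ∀ t ∈ Tv, ∀ g x, dd A v g (cj A t x) = dd A v g x := by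
    intro t ht g x
    refine mul_right_cancel₀ (hom_ne_zero v (cj A t x)) ?_
    rw [← apply_cj, ← cj_mul, apply_cj_mul_right A hA ht, apply_cj,
      (mem_inertia_iff_cj A).1 ht x]
  have hfixw : ∀ t ∈ Tw, ∀ g x, dd A w g (cj A t x) = dd A w g x := by
    intro t ht g x
    refine mul_right_cancel₀ (hom_ne_zero w (cj A t x)) ?_
    rw [← apply_cj, ← cj_mul, apply_cj_mul_right A hA ht, apply_cj,
      (mem_inertia_iff_cj A).1 ht x]
  have hinv : ∀ g k : G, ∀ x, dd A v g (cj A k x) = dd A v g x := by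
    intro g k x
    obtain ⟨t, ht, a, ha, rfl⟩ := hsup g
    have hga : ∀ y, dd A v (t * a) y = dd A v a y := fun y => by
      refine mul_right_cancel₀ (hom_ne_zero v y) ?_
      rw [← apply_cj, ← apply_cj, cj_mul]
      exact (mem_inertia_iff_cj A).1 ht _
    obtain ⟨b, hb, hab⟩ := hexb a ha
    obtain ⟨s, hs, c, hc, rfl⟩ := hsup k
    rw [hga, hga, cj_mul, hfixv s hs]
    have h1 := key a ha b hb hab (cj A c x)
    rw [hfixw c hc] at h1
    have h2 := key a ha b hb hab x
    exact mul_right_cancel₀ (right_ne_zero_of_mul_eq_one h2) (h1.trans h2.symm)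
  refine ⟨hinv, fun g => ?_⟩
  obtain ⟨t, ht, a, ha, e⟩ := hsup g⁻¹
  -- `g = a⁻¹ t⁻¹`
  have hga : ∀ y, dd A w g y = dd A w t⁻¹ y := fun y => by
    refine mul_right_cancel₀ (hom_ne_zero w y) ?_
    rw [← apply_cj, ← apply_cj, show g = a⁻¹ * t⁻¹ by rw [← inv_inv g, e]; group, cj_mul]
    exact (mem_inertia_iff_cj A).1 (inv_mem ha) _
  obtain ⟨a', ha', hab⟩ : ∃ a' ∈ Tw, a' * t⁻¹ ∈ Tu := by
    by_cases htU : t⁻¹ ∈ Tu
    · exact ⟨1, one_mem _, by rwa [one_mul]⟩
    obtain ⟨c, hc, hcT⟩ : ∃ c ∈ Tw, c ∉ Tu := by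
      by_contra hh
      push Not at hh
      refine hne (Subgroup.eq_of_le_of_card_ge (fun c hc => ?_) (le_of_eq ?_)).symm
      · refine (mem_inertia_iff_cj A).2 fun x => ?_
        have h1 := (mem_inertia_iff_cj A).1 (hh c hc) x
        simp only [u, MonoidHom.mul_apply, (mem_inertia_iff_cj A).1 hc x] at h1
        exact mul_right_cancel₀ (hom_ne_zero w x) h1
      · have h1 := Tv.card_mul_index
        rw [hv, ← Tw.card_mul_index, hw] at h1
        exact Nat.eq_of_mul_eq_mul_right hp.pos h1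
    have hcard : Nat.card (G ⧸ Tu) = p := by
      rw [← Tu.index_eq_card]
      refine (inertia_index A h hp u).resolve_left fun e => htU ?_
      rw [show Tu = ⊤ from Subgroup.index_eq_one.1 e]
      exact Subgroup.mem_top _
    obtain ⟨j, hj⟩ := mem_powers_of_prime_card hcard (g := (c : G ⧸ Tu))
      (g' := (t : G ⧸ Tu)) (fun e => hcT ((QuotientGroup.eq_one_iff c).1 e))
    refine ⟨c ^ j, pow_mem hc j, (QuotientGroup.eq_one_iff _).1 ?_⟩
    rw [QuotientGroup.mk_mul, QuotientGroup.mk_pow, QuotientGroup.mk_inv,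
      show (c : G ⧸ Tu) ^ j = (t : G ⧸ Tu) from hj, mul_inv_cancel]
  refine ⟨a'⁻¹, fun x => ?_⟩
  rw [hga]
  have h1 := key a' ha' t⁻¹ (inv_mem ht) hab x
  have h2 : dd A v a'⁻¹ x * dd A v a' x = 1 := by
    have e1 := apply_cj A v a'⁻¹ (cj A a' x)
    rw [← cj_mul, inv_mul_cancel, hinv, apply_cj A v a' x, ← mul_assoc] at e1
    refine mul_right_cancel₀ (hom_ne_zero v x) ?_
    rw [one_mul, ← e1]
    congr 1
    exact Subtype.ext (by simp [cj])
  exact mul_left_cancel₀ (left_ne_zero_of_mul_eq_one h1) (h1.trans (by rw [mul_comm]; exact h2.symm))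

/-- Without an abelian normal subgroup of index `p`, the centre has index `p` in every maximal
abelian subgroup containing the derived subgroup. -/
theorem MaxAb.center_relIndex (h : TwoDeg G p) (hp : p.Prime) (hA : MaxAb A)
    (hne : A.index ≠ p) :
    Subgroup.center G ≤ A ∧ (Subgroup.center G).relIndex A = p ∧ IsPGroup p (G ⧸ A) := by
  classical
  haveI := Fact.mk hp
  have hZA : Subgroup.center G ≤ A := fun z hz =>
    hA.self z fun a _ => (Subgroup.mem_center_iff.1 hz a).symm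
  have hpA : ∀ g : G, g ^ p ∈ A := fun g =>
    mem_of_forall_inertia A hA fun v => pow_mem_inertia A h hp hA v g
  have hpg : IsPGroup p (G ⧸ A) := fun x => by
    induction x using QuotientGroup.induction_on with
    | H g => exact ⟨1, by rw [pow_one, ← QuotientGroup.mk_pow, QuotientGroup.eq_one_iff]; exact hpA g⟩
  refine ⟨hZA, ?_, hpg⟩
  have hmoved : ∀ g ∉ A, ∃ v : A →* ℂ, g ∉ inertia A (v : A → ℂ) := fun g hg => by
    by_contra hh
    push Not at hh
    exact hg (mem_of_forall_inertia A hA hh)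
  have hidx : ∀ {v : A →* ℂ} {g : G}, g ∉ inertia A (v : A → ℂ) →
      (inertia A (v : A → ℂ)).index = p := fun {v g} hg =>
    (inertia_index A h hp v).resolve_left fun e => hg (by
      rw [Subgroup.index_eq_one.1 e]; exact Subgroup.mem_top g)
  have hAtop : A ≠ ⊤ := fun e => by
    refine h.commutator_ne_bot (le_bot_iff.1 ?_)
    rw [commutator_def, Subgroup.commutator_le]
    intro a _ b _
    exact Subgroup.mem_bot.2 (commutatorElement_eq_one_iff_mul_comm.2
      (hA.ab a (e ▸ Subgroup.mem_top a) b (e ▸ Subgroup.mem_top b)))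
  obtain ⟨g₀, hg₀A⟩ : ∃ g, g ∉ A := by
    by_contra hh
    push Not at hh
    exact hAtop ((Subgroup.eq_top_iff' A).2 hh)
  obtain ⟨v₀, hg₀⟩ := hmoved g₀ hg₀A
  set T₀ := inertia A (v₀ : A → ℂ)
  obtain ⟨g₁, hg₁T, hg₁A⟩ : ∃ g ∈ T₀, g ∉ A := by
    by_contra hh
    push Not at hh
    exact hne ((le_antisymm (le_inertia_linear A v₀) hh : A = T₀) ▸ hidx hg₀)
  obtain ⟨v₁, hg₁⟩ := hmoved g₁ hg₁A
  have hne01 : T₀ ≠ inertia A (v₁ : A → ℂ) := fun e => hg₁ (e ▸ hg₁T)
  obtain ⟨hinv, h01⟩ := pair_lemma A h hp hA (hidx hg₀) (hidx hg₁) hne01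
  -- every twist is a twist of `v₀`
  have hall : ∀ (v : A →* ℂ) (g : G), ∃ k : G, ∀ x, dd A v g x = dd A v₀ k x := by
    intro v g
    by_cases hg : g ∈ inertia A (v : A → ℂ)
    · exact ⟨1, fun x => by rw [(dd_eq_one_iff A).2 hg x, (dd_eq_one_iff A).2 (one_mem _) x]⟩
    by_cases he : T₀ = inertia A (v : A → ℂ)
    · have hne1 : inertia A (v₁ : A → ℂ) ≠ inertia A (v : A → ℂ) := fun e => hne01 (he.trans e.symm)
      obtain ⟨-, h1v⟩ := pair_lemma A h hp hA (hidx hg₁) (hidx hg) hne1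
      obtain ⟨k, hk⟩ := h1v g
      obtain ⟨k', hk'⟩ := h01 k
      exact ⟨k', fun x => (hk x).trans (hk' x)⟩
    · exact (pair_lemma A h hp hA (hidx hg₀) (hidx hg) he).2 g
  -- the twists of `v₀` are the powers of `μ`
  let μ : A →* ℂ :=
    { toFun := fun x => dd A v₀ g₀ x
      map_one' := by
        show v₀ _ = 1
        rw [show cj A g₀ 1 * (1 : A)⁻¹ = 1 from Subtype.ext (by simp [cj]), map_one]
      map_mul' := fun x y => by
        refine mul_right_cancel₀ (hom_ne_zero v₀ (x * y)) ?_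
        rw [← apply_cj, cj_map_mul, map_mul, map_mul, apply_cj, apply_cj]; ring }
  have hμ : ∀ (x : A) (j : ℕ), v₀ (cj A (g₀ ^ j) x) = μ x ^ j * v₀ x := by
    intro x j
    induction j with
    | zero => simp [cj]
    | succ j ih =>
      rw [pow_succ', cj_mul, apply_cj, hinv, ih, pow_succ']
      show _ = μ x * μ x ^ j * v₀ x
      rw [mul_assoc]
      rfl
  have hpow : ∀ k : G, ∃ j : ℕ, ∀ x, dd A v₀ k x = μ x ^ j := by
    intro k
    haveI : T₀.Normal := inertia_normal A hA v₀
    have hcard : Nat.card (G ⧸ T₀) = p := by rw [← T₀.index_eq_card]; exact hidx hg₀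
    obtain ⟨j, hj⟩ := mem_powers_of_prime_card hcard (g := (g₀ : G ⧸ T₀))
      (g' := (k : G ⧸ T₀)) (fun e => hg₀ ((QuotientGroup.eq_one_iff g₀).1 e))
    refine ⟨j, fun x => mul_right_cancel₀ (hom_ne_zero v₀ x) ?_⟩
    rw [← apply_cj, ← hμ]
    have ht : (g₀ ^ j)⁻¹ * k ∈ T₀ := by
      rw [← QuotientGroup.eq, QuotientGroup.mk_pow]; exact hj
    rw [show k = g₀ ^ j * ((g₀ ^ j)⁻¹ * k) by group]
    exact apply_cj_mul_right A hA ht _ x
  have hμp : ∀ x, μ x ^ p = 1 := fun x => by
    refine mul_right_cancel₀ (hom_ne_zero v₀ x) ?_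
    rw [← hμ, one_mul]
    exact (mem_inertia_iff_cj A).1 (le_inertia_linear A v₀ (hpA g₀)) x
  have hker : ∀ x : A, μ x = 1 ↔ (x : G) ∈ Subgroup.center G := by
    intro x
    refine ⟨fun hx => Subgroup.mem_center_iff.2 fun g => ?_, fun hx => ?_⟩
    · have := eq_of_forall_linear A (fun a b => Subtype.ext (hA.ab a a.2 b b.2))
        (x := cj A g x) (y := x) fun v => by
          obtain ⟨k, hk⟩ := hall v g
          obtain ⟨j, hj⟩ := hpow k
          rw [apply_cj, hk, hj, hx, one_pow, one_mul]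
      exact mul_inv_eq_iff_eq_mul.1 (congrArg Subtype.val this)
    · show v₀ (cj A g₀ x * x⁻¹) = 1
      rw [show cj A g₀ x = x from Subtype.ext (by
        show g₀ * x * g₀⁻¹ = x
        rw [Subgroup.mem_center_iff.1 hx g₀, mul_inv_cancel_right]), mul_inv_cancel, map_one]
  obtain ⟨x₀, hx₀⟩ : ∃ x, μ x ≠ 1 := by
    by_contra hh
    push Not at hh
    exact hg₀ ((dd_eq_one_iff A).1 hh)
  have hk : (μ.toHomUnits).ker = (Subgroup.center G).subgroupOf A := by
    ext x
    rw [MonoidHom.mem_ker, Subgroup.mem_subgroupOf, ← hker x, Units.ext_iff]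
    rfl
  have hdvd : Monoid.exponent μ.toHomUnits.range ∣ p := Monoid.exponent_dvd_of_forall_pow_eq_one (by
    rintro ⟨_, x, rfl⟩
    exact Subtype.ext (Units.ext (hμp x)))
  have hprim : IsPrimitiveRoot (μ.toHomUnits x₀) p := by
    rw [IsPrimitiveRoot.iff_orderOf]
    refine orderOf_eq_prime (Units.ext (hμp x₀)) fun e => hx₀ ?_
    exact congrArg Units.val e
  haveI := hp.ne_zero
  have hrange : μ.toHomUnits.range = Subgroup.zpowers (μ.toHomUnits x₀) := by
    refine le_antisymm ?_ (Subgroup.zpowers_le.2 ⟨x₀, rfl⟩)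
    rintro _ ⟨x, rfl⟩
    haveI : NeZero p := ⟨hp.ne_zero⟩
    obtain ⟨i, -, hi⟩ := (IsPrimitiveRoot.coe_units_iff.2 hprim).eq_pow_of_pow_eq_one
      (ξ := (μ.toHomUnits x : ℂ)) (hμp x)
    exact ⟨i, by simpa [zpow_natCast] using Units.ext (by simpa using hi)⟩
  rw [Subgroup.relIndex, ← hk, Subgroup.index_ker, hrange, Nat.card_zpowers, ← hprim.eq_orderOf]

theorem card_sup_zpowers_le {x y : G} (hc : x ∈ Subgroup.center G) :
    Nat.card (Subgroup.zpowers x ⊔ Subgroup.zpowers y : Subgroup G) ≤ orderOf x * orderOf y := by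
  haveI : (Subgroup.zpowers x).Normal := ⟨fun a ha g => by
    rwa [Subgroup.mem_center_iff.1 ((Subgroup.zpowers_le.2 hc) ha) g, mul_inv_cancel_right]⟩
  rw [← Nat.card_zpowers x, ← Nat.card_zpowers y, ← Nat.card_prod]
  refine Nat.card_le_card_of_surjective
    (fun q : Subgroup.zpowers x × Subgroup.zpowers y =>
      (⟨q.1 * q.2, Subgroup.mul_mem_sup q.1.2 q.2.2⟩ :
        (Subgroup.zpowers x ⊔ Subgroup.zpowers y : Subgroup G))) ?_
  rintro ⟨z, hz⟩
  obtain ⟨a, ha, b, hb, rfl⟩ := Subgroup.mem_sup_of_normal_left.1 hz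
  exact ⟨(⟨a, ha⟩, ⟨b, hb⟩), rfl⟩

omit hAn in
/-- If the derived subgroup is not central there is an abelian normal subgroup of index `p`
or the centre has index at most `p ^ 3`. -/
theorem commutator_le_center (h : TwoDeg G p) (hp : p.Prime) {A : Subgroup G} (hA : MaxAb A)
    (hidx : ∀ B : Subgroup G, MaxAb B → B.index ≠ p) (hbig : p ^ 3 ≤ A.index) :
    commutator G ≤ Subgroup.center G := by
  classical
  haveI := hA.normal
  haveI := Fact.mk hp
  obtain ⟨hZA, hrel, hpg⟩ := MaxAb.center_relIndex A h hp hA (hidx A hA)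
  haveI := Fintype.ofFinite G
  haveI := Fintype.ofFinite A
  have habA : ∀ a b : A, a * b = b * a := fun a b => Subtype.ext (hA.ab a a.2 b b.2)
  obtain ⟨a₀, ha₀, ha₀Z⟩ : ∃ a ∈ A, a ∉ Subgroup.center G := by
    by_contra hh
    push Not at hh
    rw [Subgroup.relIndex_eq_one.2 hh] at hrel
    exact hp.ne_one hrel.symm
  -- `A = Z ⟨a₀⟩`
  have hgen : ∀ a ∈ A, ∃ j : ℕ, (a₀ ^ j)⁻¹ * a ∈ Subgroup.center G := by
    intro a ha
    have hcard : Nat.card (A ⧸ (Subgroup.center G).subgroupOf A) = p := by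
      rw [← Subgroup.index_eq_card]; exact hrel
    obtain ⟨j, hj⟩ := mem_powers_of_prime_card hcard
      (g := ((⟨a₀, ha₀⟩ : A) : A ⧸ (Subgroup.center G).subgroupOf A))
      (g' := ((⟨a, ha⟩ : A) : A ⧸ (Subgroup.center G).subgroupOf A))
      (fun e => ha₀Z ((QuotientGroup.eq_one_iff (⟨a₀, ha₀⟩ : A)).1 e))
    refine ⟨j, ?_⟩
    have : ((⟨a₀, ha₀⟩ : A) ^ j)⁻¹ * ⟨a, ha⟩ ∈ (Subgroup.center G).subgroupOf A := by
      rw [← QuotientGroup.eq, QuotientGroup.mk_pow]; exact hj
    exact this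
  have hcZ : ∀ g : G, g * a₀ * g⁻¹ * a₀⁻¹ ∈ Subgroup.center G := by
    intro g
    -- conjugation acts trivially on `A / Z`, which has order `p`
    by_contra hnot
    let Z' := (Subgroup.center G).subgroupOf A
    obtain ⟨j, hj⟩ := hgen _ (hA.normal.conj_mem a₀ ha₀ g)
    have hconj : ∀ i : ℕ, ∀ k : ℕ, (a₀ ^ (j ^ i * k))⁻¹ * (g ^ i * a₀ ^ k * (g ^ i)⁻¹) ∈
        Subgroup.center G := by
      intro i
      induction i with
      | zero => intro k; simp
      | succ i ih =>
        intro k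
        have h1 := ih k
        set z := (a₀ ^ (j ^ i * k))⁻¹ * (g ^ i * a₀ ^ k * (g ^ i)⁻¹) with hz
        set y := (a₀ ^ j)⁻¹ * (g * a₀ * g⁻¹) with hy
        have e1 : g ^ i * a₀ ^ k * (g ^ i)⁻¹ = a₀ ^ (j ^ i * k) * z := by rw [hz]; group
        have e2 : g * a₀ * g⁻¹ = a₀ ^ j * y := by rw [hy]; group
        have e3 : g ^ (i + 1) * a₀ ^ k * (g ^ (i + 1))⁻¹ =
            a₀ ^ (j ^ (i + 1) * k) * (y ^ (j ^ i * k) * z) := by
          calc g ^ (i + 1) * a₀ ^ k * (g ^ (i + 1))⁻¹
              = g * (g ^ i * a₀ ^ k * (g ^ i)⁻¹) * g⁻¹ := by rw [pow_succ']; group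
            _ = g * (a₀ ^ (j ^ i * k) * z) * g⁻¹ := by rw [e1]
            _ = g * a₀ ^ (j ^ i * k) * (g⁻¹ * (g * z * g⁻¹)) := by group
            _ = g * a₀ ^ (j ^ i * k) * (g⁻¹ * z) := by
                rw [Subgroup.mem_center_iff.1 h1 g, mul_inv_cancel_right]
            _ = (g * a₀ * g⁻¹) ^ (j ^ i * k) * z := by rw [conj_pow]; group
            _ = (a₀ ^ j * y) ^ (j ^ i * k) * z := by rw [e2]
            _ = a₀ ^ (j ^ (i + 1) * k) * (y ^ (j ^ i * k) * z) := by
                rw [Commute.mul_pow (Subgroup.mem_center_iff.1 hj _), ← pow_mul, mul_assoc,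
                  pow_succ, mul_comm (j ^ i) j, mul_assoc j]
        rw [e3, inv_mul_cancel_left]
        exact Subgroup.mul_mem _ (pow_mem hj _) h1
    obtain ⟨r, hr⟩ := hpg (g : G ⧸ A)
    have hgA : g ^ (p ^ r) ∈ A := by
      rw [← QuotientGroup.eq_one_iff, QuotientGroup.mk_pow]; exact hr
    have h1 := hconj (p ^ r) 1
    rw [mul_one, pow_one, hA.ab _ hgA _ ha₀, mul_inv_cancel_right] at h1
    -- `a₀ ^ (j ^ p ^ r)` and `a₀` agree modulo the centre
    have horder : ∀ i : ℕ, (a₀ ^ i)⁻¹ * a₀ ∈ Subgroup.center G → (i : ZMod p) = 1 := by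
      intro i hi
      have hord : orderOf ((⟨a₀, ha₀⟩ : A) : A ⧸ Z') = p := by
        refine orderOf_eq_prime ?_ fun e => ha₀Z ((QuotientGroup.eq_one_iff (⟨a₀, ha₀⟩ : A)).1 e)
        have hcard : Nat.card (A ⧸ Z') = p := by rw [← Subgroup.index_eq_card]; exact hrel
        conv_lhs => rw [← hcard]
        exact pow_card_eq_one'
      have : ((⟨a₀, ha₀⟩ : A) : A ⧸ Z') ^ i = ((⟨a₀, ha₀⟩ : A) : A ⧸ Z') ^ 1 := by
        rw [pow_one, ← QuotientGroup.mk_pow, QuotientGroup.eq]
        exact hi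
      rw [pow_eq_pow_iff_modEq, hord] at this
      simpa using (ZMod.natCast_eq_natCast_iff _ _ _).2 this
    have h2 := horder _ h1
    push_cast at h2
    rw [ZMod.pow_card_pow] at h2
    refine hnot ?_
    have h3 : (a₀ ^ j)⁻¹ * a₀ ∈ Subgroup.center G := by
      have hmod : ((j : ℕ) : ZMod p) = ((1 : ℕ) : ZMod p) := by simpa using h2
      rw [ZMod.natCast_eq_natCast_iff] at hmod
      have hcard : Nat.card (A ⧸ Z') = p := by rw [← Subgroup.index_eq_card]; exact hrel
      have hd : orderOf ((⟨a₀, ha₀⟩ : A) : A ⧸ Z') ∣ p := hcard ▸ orderOf_dvd_natCard _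
      have : ((⟨a₀, ha₀⟩ : A) : A ⧸ Z') ^ j = ((⟨a₀, ha₀⟩ : A) : A ⧸ Z') ^ 1 :=
        pow_eq_pow_iff_modEq.2 (hmod.of_dvd hd)
      rw [pow_one, ← QuotientGroup.mk_pow, QuotientGroup.eq] at this
      exact this
    have e : g * a₀ * g⁻¹ * a₀⁻¹ =
        a₀ ^ j * ((a₀ ^ j)⁻¹ * (g * a₀ * g⁻¹)) * (((a₀ ^ j)⁻¹ * a₀)⁻¹ * (a₀ ^ j)⁻¹) := by group
    rw [e, Subgroup.mem_center_iff.1 hj (a₀ ^ j),
      show ∀ u w : G, u * a₀ ^ j * (w * (a₀ ^ j)⁻¹) = u * (a₀ ^ j * w * (a₀ ^ j)⁻¹) from
        fun u w => by group,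
      Subgroup.mem_center_iff.1 (Subgroup.inv_mem _ h3) (a₀ ^ j), mul_inv_cancel_right]
    exact Subgroup.mul_mem _ hj (Subgroup.inv_mem _ h3)
  -- the homomorphism `g ↦ [g, a₀]`
  let c : G →* G :=
    { toFun := fun g => g * a₀ * g⁻¹ * a₀⁻¹
      map_one' := by simp
      map_mul' := fun g k => by
        have hz := Subgroup.mem_center_iff.1 (hcZ k)
        calc g * k * a₀ * (g * k)⁻¹ * a₀⁻¹
            = g * (k * a₀ * k⁻¹ * a₀⁻¹) * a₀ * g⁻¹ * a₀⁻¹ := by group
          _ = (k * a₀ * k⁻¹ * a₀⁻¹) * (g * a₀ * g⁻¹ * a₀⁻¹) := by rw [hz g]; group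
          _ = (g * a₀ * g⁻¹ * a₀⁻¹) * (k * a₀ * k⁻¹ * a₀⁻¹) := (hz _).symm }
  have hcentA : ∀ g a₁ : G, g * a₀ = a₀ * g → a₁ ∈ A → g * a₁ = a₁ * g := by
    intro g a ha1 ha
    obtain ⟨j, hj⟩ := hgen a ha
    have e : a = a₀ ^ j * ((a₀ ^ j)⁻¹ * a) := by group
    rw [e]
    exact (Commute.mul_right (Commute.pow_right ha1 j) (Subgroup.mem_center_iff.1 hj g))
  have hker : c.ker = A := by
    ext g
    rw [MonoidHom.mem_ker]
    constructor
    · intro e
      refine hA.self g fun a ha => hcentA g a ?_ ha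
      exact mul_inv_eq_iff_eq_mul.1 (mul_inv_eq_one.1 e)
    · intro hg
      show g * a₀ * g⁻¹ * a₀⁻¹ = 1
      rw [hA.ab g hg a₀ ha₀]
      group
  have hcp : ∀ g, orderOf (c g) ≤ p := by
    intro g
    refine Nat.le_of_dvd hp.pos (orderOf_dvd_of_pow_eq_one ?_)
    rw [← map_pow, ← MonoidHom.mem_ker, hker]
    exact mem_of_forall_inertia A hA fun v => pow_mem_inertia A h hp hA v g
  suffices key : ∀ s t : G, ⁅s, t⁆ ∈ Subgroup.center G by
    rw [commutator_def, Subgroup.commutator_le]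
    exact fun s _ t _ => key s t
  intro s t
  set S := Subgroup.zpowers (c s) ⊔ Subgroup.zpowers (c t)
  have hScard : Nat.card S < Nat.card c.range := by
    refine lt_of_le_of_lt (le_trans (card_sup_zpowers_le (hcZ s))
      (Nat.mul_le_mul (hcp s) (hcp t))) ?_
    rw [← Subgroup.index_ker, hker]
    refine lt_of_lt_of_le ?_ hbig
    calc p * p = p ^ 2 := (sq p).symm
      _ < p ^ 3 := Nat.pow_lt_pow_right hp.one_lt (by norm_num)
  obtain ⟨g, hg⟩ : ∃ g, c g ∉ S := by
    by_contra hh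
    push Not at hh
    refine absurd hScard (not_lt.2 (Nat.le_of_dvd Nat.card_pos (Subgroup.card_dvd_of_le ?_)))
    rintro _ ⟨g, rfl⟩
    exact hh g
  have hcA : ∀ g, c g ∈ A := fun g => hZA (hcZ g)
  haveI : (S.subgroupOf A).Normal := ⟨fun a ha b => by rwa [habA b, mul_inv_cancel_right]⟩
  obtain ⟨l, hl⟩ := exists_linear_sep (A := A ⧸ S.subgroupOf A)
    (fun a b => by
      induction a using QuotientGroup.induction_on with
      | H a => induction b using QuotientGroup.induction_on with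
        | H b => rw [← QuotientGroup.mk_mul, habA, QuotientGroup.mk_mul])
    (y := ((⟨c g, hcA g⟩ : A) : A ⧸ S.subgroupOf A))
    (fun e => hg ((QuotientGroup.eq_one_iff (⟨c g, hcA g⟩ : A)).1 e))
  let v : A →* ℂ := l.comp (QuotientGroup.mk' _)
  -- `v` is fixed by an element as soon as it kills its bracket with `a₀`
  have hfix : ∀ (x : A →* ℂ) (u : G), x ⟨c u, hcA u⟩ = 1 → u ∈ inertia A (x : A → ℂ) := by
    intro x u hu
    refine (mem_inertia_iff_cj A).2 fun a => ?_
    obtain ⟨j, hj⟩ := hgen a a.2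
    have e : cj A u a = ⟨c u, hcA u⟩ ^ j * a := by
      apply Subtype.ext
      set z := (a₀ ^ j)⁻¹ * (a : G) with hz
      have ea : (a : G) = a₀ ^ j * z := by rw [hz]; group
      show u * a * u⁻¹ = c u ^ j * a
      have e1 : u * a₀ * u⁻¹ = c u * a₀ := by
        show _ = u * a₀ * u⁻¹ * a₀⁻¹ * a₀; group
      calc u * a * u⁻¹ = u * (a₀ ^ j * z) * u⁻¹ := by rw [ea]
        _ = u * a₀ ^ j * u⁻¹ * (u * z * u⁻¹) := by group
        _ = (c u * a₀) ^ j * z := by
            rw [← conj_pow, e1, Subgroup.mem_center_iff.1 hj u, mul_inv_cancel_right]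
        _ = c u ^ j * (a₀ ^ j * z) := by
            rw [(show Commute (c u) a₀ from (Subgroup.mem_center_iff.1 (hcZ u) a₀).symm).mul_pow j,
              mul_assoc]
        _ = c u ^ j * a := by rw [ea]
    rw [e, map_mul, map_pow, hu, one_pow, one_mul]
  have hext : ∀ x : A →* ℂ, g ∉ inertia A (x : A → ℂ) → s ∈ inertia A (x : A → ℂ) →
      t ∈ inertia A (x : A → ℂ) →
      x ⟨⁅s, t⁆, hA.comm_le (Subgroup.commutator_mem_commutator (Subgroup.mem_top s)
        (Subgroup.mem_top t))⟩ = 1 := by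
    intro x hgx hs ht
    haveI := Fintype.ofFinite (inertia A (x : A → ℂ))
    obtain ⟨χ, hχ, hover⟩ := exists_over A (linear_isIrr A x)
    obtain ⟨ψ, hψ, hind, hres, -⟩ := exists_correspondent A (linear_isIrr A x) hχ hover
    have hT : (inertia A (x : A → ℂ)).index = p :=
      (inertia_index A h hp x).resolve_left fun e => hgx (by
        rw [Subgroup.index_eq_one.1 e]; exact Subgroup.mem_top g)
    have hdeg : charDegree χ = p * charDegree ψ := by
      have h1 := congrFun hind 1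
      rw [indFun_one_apply, hT, apply_one hψ, apply_one hχ] at h1
      exact_mod_cast h1.symm
    have hψ1 : charDegree ψ = 1 := by
      have := h.le ⟨χ, hχ⟩
      have e : charDegree ((⟨χ, hχ⟩ : IrrCharacter G) : G → ℂ) = charDegree χ := rfl
      rw [e, hdeg] at this
      have := TwoClassChar.deg_pos hψ
      nlinarith [hp.one_lt]
    have hlin : ψ 1 = 1 := by rw [apply_one hψ, hψ1, Nat.cast_one]
    obtain ⟨l', hl'⟩ := exists_hom_of_degree_one (IsIrrCharacter.isCharacter hψ) hlin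
    have hrr : (fun n : A => ψ ⟨(n : G), le_inertia_linear A x n.2⟩) = (x : A → ℂ) := by
      refine eq_of_constituent_of_degree ?_ (linear_isIrr A x) ?_ (a := 1) ?_ ?_
      · exact IsCharacter.comp_hom (IsIrrCharacter.isCharacter hψ)
          (Subgroup.inclusion (le_inertia_linear A x))
      · rw [hres]; exact hover
      · exact hlin.trans Nat.cast_one.symm
      · simp
    rw [← hrr]
    show ψ ⟨⁅s, t⁆, _⟩ = 1
    rw [← hl']
    have e : (⟨⁅s, t⁆, le_inertia_linear A x (hA.comm_le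
        (Subgroup.commutator_mem_commutator (Subgroup.mem_top s) (Subgroup.mem_top t)))⟩ :
        inertia A (x : A → ℂ)) = ⁅(⟨s, hs⟩ : inertia A (x : A → ℂ)), ⟨t, ht⟩⁆ :=
      Subtype.ext (by simp [commutatorElement_def])
    rw [e]
    have := Abelianization.commutator_subset_ker l'.toHomUnits
      (Subgroup.commutator_mem_commutator (Subgroup.mem_top (⟨s, hs⟩ : inertia A (x : A → ℂ)))
        (Subgroup.mem_top ⟨t, ht⟩))
    exact congrArg Units.val (MonoidHom.mem_ker.1 this)
  -- the linear characters trivial on the centre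
  haveI : ((Subgroup.center G).subgroupOf A).Normal := inferInstance
  have hcl : ∀ a : G, a ∈ A → a ∉ Subgroup.center G → ∃ ω : A →* ℂ,
      (∀ z : A, (z : G) ∈ Subgroup.center G → ω z = 1) ∧
      ∀ ha : a ∈ A, ω ⟨a, ha⟩ ≠ 1 := by
    intro a ha haZ
    obtain ⟨l', hl'⟩ := exists_linear_sep (A := A ⧸ (Subgroup.center G).subgroupOf A)
      (fun a b => by
        induction a using QuotientGroup.induction_on with
        | H a => induction b using QuotientGroup.induction_on with
          | H b => rw [← QuotientGroup.mk_mul, habA, QuotientGroup.mk_mul])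
      (y := ((⟨a, ha⟩ : A) : A ⧸ (Subgroup.center G).subgroupOf A))
      (fun e => haZ ((QuotientGroup.eq_one_iff (⟨a, ha⟩ : A)).1 e))
    exact ⟨l'.comp (QuotientGroup.mk' _), fun z hz => by
      rw [MonoidHom.comp_apply, show (QuotientGroup.mk' _) z = 1 from
        (QuotientGroup.eq_one_iff z).2 hz, map_one], fun _ => hl'⟩
  by_contra hst
  obtain ⟨ω, hω1, hω2⟩ := hcl _ (hA.comm_le (Subgroup.commutator_mem_commutator
    (Subgroup.mem_top s) (Subgroup.mem_top t))) hst
  have hvS : ∀ u, c u ∈ S → v ⟨c u, hcA u⟩ = 1 := fun u hu => by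
    show l _ = 1
    rw [show (QuotientGroup.mk' _) (⟨c u, hcA u⟩ : A) = 1 from
      (QuotientGroup.eq_one_iff _).2 hu, map_one]
  have hvg : g ∉ inertia A (v : A → ℂ) := fun hgi => hl (by
    have h1 := (mem_inertia_iff_cj A).1 hgi ⟨a₀, ha₀⟩
    have e : cj A g ⟨a₀, ha₀⟩ = ⟨c g, hcA g⟩ * ⟨a₀, ha₀⟩ :=
      Subtype.ext (by show g * a₀ * g⁻¹ = g * a₀ * g⁻¹ * a₀⁻¹ * a₀; group)
    rw [e, map_mul] at h1
    exact mul_right_cancel₀ (hom_ne_zero v _) (h1.trans (one_mul _).symm))
  have hωg : g ∉ inertia A ((v * ω : A →* ℂ) : A → ℂ) := fun hgi => hvg (by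
    refine hfix v g ?_
    have h1 := (mem_inertia_iff_cj A).1 hgi ⟨a₀, ha₀⟩
    have e : cj A g ⟨a₀, ha₀⟩ = ⟨c g, hcA g⟩ * ⟨a₀, ha₀⟩ :=
      Subtype.ext (by show g * a₀ * g⁻¹ = g * a₀ * g⁻¹ * a₀⁻¹ * a₀; group)
    rw [e, map_mul] at h1
    have h2 := mul_right_cancel₀ (hom_ne_zero _ _) (h1.trans (one_mul _).symm)
    rw [MonoidHom.mul_apply, hω1 _ (hcZ g), mul_one] at h2
    exact h2)
  have hs1 := hvS s (Subgroup.mem_sup_left (Subgroup.mem_zpowers _))
  have ht1 := hvS t (Subgroup.mem_sup_right (Subgroup.mem_zpowers _))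
  have e1 := hext v hvg (hfix v s hs1) (hfix v t ht1)
  have e2 := hext (v * ω) hωg
    (hfix _ s (by rw [MonoidHom.mul_apply, hs1, hω1 _ (hcZ s), one_mul]))
    (hfix _ t (by rw [MonoidHom.mul_apply, ht1, hω1 _ (hcZ t), one_mul]))
  rw [MonoidHom.mul_apply, e1, one_mul] at e2
  exact hω2 _ e2

omit hAn in
/-- The main implication. -/
theorem degrees_one_p_structure (h : TwoDeg G p) (hp : p.Prime) :
    (∃ A : Subgroup G, A.Normal ∧ (∀ a ∈ A, ∀ b ∈ A, a * b = b * a) ∧ A.index = p) ∨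
      (Subgroup.center G).index = p ^ 3 := by
  classical
  by_cases hB : ∃ B : Subgroup G, MaxAb B ∧ B.index = p
  · obtain ⟨B, hB, hi⟩ := hB
    exact Or.inl ⟨B, hB.normal, hB.ab, hi⟩
  push Not at hB
  right
  haveI := Fact.mk hp
  obtain ⟨A, hA, -⟩ := exists_maxAb h.commutator_comm le_rfl
  haveI := hA.normal
  obtain ⟨hZA, hrel, hpg⟩ := MaxAb.center_relIndex A h hp hA (hB A hA)
  obtain ⟨k, hk⟩ := IsPGroup.iff_card.1 hpg
  rw [← A.index_eq_card] at hk
  have hZ := Subgroup.relIndex_mul_index hZA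
  rw [hrel, hk] at hZ
  have hk0 : k ≠ 0 := fun e => by
    have hAt : A = ⊤ := Subgroup.index_eq_one.1 (by rw [hk, e, pow_zero])
    refine h.commutator_ne_bot (le_bot_iff.1 ?_)
    rw [commutator_def, Subgroup.commutator_le]
    intro a _ b _
    exact Subgroup.mem_bot.2 (commutatorElement_eq_one_iff_mul_comm.2
      (hA.ab a (hAt ▸ Subgroup.mem_top a) b (hAt ▸ Subgroup.mem_top b)))
  have hk1 : k ≠ 1 := fun e => hB A hA (by rw [hk, e, pow_one])
  rcases Nat.lt_or_ge k 3 with hk3 | hk3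
  · obtain rfl : k = 2 := by omega
    rw [← hZ]; ring
  exfalso
  set z := Nat.card (Subgroup.center G) with hz
  have hGZ : commutator G ≤ Subgroup.center G := commutator_le_center h hp hA hB
    (hk ▸ Nat.pow_le_pow_right hp.pos hk3)
  have hcent : ∀ g ∉ Subgroup.center G, Nat.card (Subgroup.centralizer ({g} : Set G)) ≤ p * z := by
    intro g hg
    set B₀ := Subgroup.closure (insert g ((Subgroup.center G : Subgroup G) : Set G)) with hB0
    have hmaxB : ∀ x : G, g * x = x * g →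
        ∃ B : Subgroup G, MaxAb B ∧ B₀ ≤ B ∧ x ∈ B := by
      intro x hx
      have hcl : IsMulCommutative (Subgroup.closure
          (insert x (insert g ((Subgroup.center G : Subgroup G) : Set G)))) := by
        refine Subgroup.isMulCommutative_closure ?_
        intro a ha b hb
        rcases ha with rfl | rfl | ha
        · rcases hb with rfl | rfl | hb
          · rfl
          · exact hx.symm
          · exact Subgroup.mem_center_iff.1 hb a
        · rcases hb with rfl | rfl | hb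
          · exact hx
          · rfl
          · exact Subgroup.mem_center_iff.1 hb a
        · exact (Subgroup.mem_center_iff.1 ha b).symm
      obtain ⟨B, hB', hle⟩ := exists_maxAb
        (B := Subgroup.closure (insert x (insert g ((Subgroup.center G : Subgroup G) : Set G))))
        (fun a ha b hb => congrArg Subtype.val (hcl.is_comm.comm ⟨a, ha⟩ ⟨b, hb⟩))
        (fun a ha => Subgroup.subset_closure
          (Set.mem_insert_of_mem _ (Set.mem_insert_of_mem _ (hGZ ha))))
      exact ⟨B, hB', (Subgroup.closure_mono (Set.subset_insert _ _)).trans hle,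
        hle (Subgroup.subset_closure (Set.mem_insert _ _))⟩
    have hBcard : ∀ B : Subgroup G, MaxAb B → Nat.card B = p * z := by
      intro B hB'
      haveI := hB'.normal
      obtain ⟨hle, hr, -⟩ := MaxAb.center_relIndex B h hp hB' (hB B hB')
      rw [← hr, mul_comm, hz, ← Nat.card_congr (Subgroup.subgroupOfEquivOfLe hle).toEquiv]
      exact (Subgroup.card_mul_index _).symm
    have hZB0 : Subgroup.center G ≤ B₀ := fun a ha =>
      Subgroup.subset_closure (Set.mem_insert_of_mem _ ha)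
    have hB0card : p * z ≤ Nat.card B₀ := by
      obtain ⟨B, hB', hle, -⟩ := hmaxB g rfl
      obtain ⟨m, hm⟩ := Subgroup.card_dvd_of_le hZB0
      have hd : z * m ∣ z * p := by
        rw [← hm, mul_comm z p, ← hBcard B hB']; exact Subgroup.card_dvd_of_le hle
      rcases (Nat.dvd_prime hp).1 (Nat.dvd_of_mul_dvd_mul_left Nat.card_pos hd) with e | e
      · refine absurd ?_ hg
        have : Subgroup.center G = B₀ := Subgroup.eq_of_le_of_card_ge hZB0
          (by rw [hm, e, mul_one])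
        rw [this]
        exact Subgroup.subset_closure (Set.mem_insert _ _)
      · rw [hm, e, mul_comm]
    obtain ⟨B₁, hB₁, hle₁, -⟩ := hmaxB g rfl
    refine le_trans (Nat.le_of_dvd Nat.card_pos (Subgroup.card_dvd_of_le fun x hx => ?_))
      (hBcard B₁ hB₁).le
    obtain ⟨B, hB', hle, hxB⟩ := hmaxB x (Subgroup.mem_centralizer_singleton_iff.1 hx).symm
    have hBB : B₀ = B := Subgroup.eq_of_le_of_card_ge hle (by rw [hBcard B hB']; exact hB0card)
    exact hle₁ (hBB ▸ hxB)
  haveI := Fintype.ofFinite G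
  haveI := Fintype.ofFinite (IrrCharacter G)
  set r := Nat.card (ConjClasses G) with hr
  -- lower bound by degrees
  have hlow : Nat.card G ≤ r * p ^ 2 := by
    have h1 : (∑ χ : IrrCharacter G, (charDegree (χ : G → ℂ)) ^ 2) = Nat.card G := by
      have := sum_sq_degrees (G := G)
      simp only [apply_one (Subtype.prop _)] at this
      exact_mod_cast this
    rw [← h1, hr, ← card_irr_eq_card_conjClasses, Nat.card_eq_fintype_card, ← Finset.card_univ,
      ← smul_eq_mul]
    exact Finset.sum_le_card_nsmul _ _ _ fun χ _ => Nat.pow_le_pow_left (h.le χ) 2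
  -- upper bound by centralisers
  have hup : r * Nat.card G < z * (p + 1) * Nat.card G := by
    rw [hr, ← card_comm_eq_card_conjClasses_mul_card]
    have e : Nat.card {q : G × G // Commute q.1 q.2} =
        ∑ g : G, Nat.card (Subgroup.centralizer ({g} : Set G)) := by
      rw [← Nat.card_sigma]
      exact Nat.card_congr
        { toFun := fun q => ⟨q.1.1, q.1.2, Subgroup.mem_centralizer_singleton_iff.2 q.2.symm.eq⟩
          invFun := fun q => ⟨(q.1, q.2.1),
            (Subgroup.mem_centralizer_singleton_iff.1 q.2.2).symm⟩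
          left_inv := fun q => rfl
          right_inv := fun q => rfl }
    rw [e, ← Finset.sum_filter_add_sum_filter_not Finset.univ (fun g => g ∈ Subgroup.center G)]
    have h1 : ∑ g ∈ Finset.univ.filter (fun g => g ∈ Subgroup.center G),
        Nat.card (Subgroup.centralizer ({g} : Set G)) ≤ z * Nat.card G := by
      refine le_trans (Finset.sum_le_card_nsmul _ _ (Nat.card G) fun g _ => Subgroup.card_le_card_group _) ?_
      rw [smul_eq_mul, hz, Nat.card_eq_fintype_card (α := Subgroup.center G), Fintype.card_subtype]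
    have h2 : ∑ g ∈ Finset.univ.filter (fun g => g ∉ Subgroup.center G),
        Nat.card (Subgroup.centralizer ({g} : Set G)) <
          Nat.card G * (p * z) := by
      have hlt : (Finset.univ.filter (fun g => g ∉ Subgroup.center G)).card < Nat.card G := by
        rw [Nat.card_eq_fintype_card]
        exact Finset.card_lt_univ_of_notMem (x := 1) (by simp)
      refine lt_of_le_of_lt (Finset.sum_le_card_nsmul _ _ (p * z) fun g hg => hcent g
        (Finset.mem_filter.1 hg).2) ?_
      rw [smul_eq_mul]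
      exact Nat.mul_lt_mul_of_pos_right hlt (Nat.mul_pos hp.pos Nat.card_pos)
    calc _ < z * Nat.card G + Nat.card G * (p * z) := Nat.add_lt_add_of_le_of_lt h1 h2
      _ = z * (p + 1) * Nat.card G := by ring
  have hr2 : r < z * (p + 1) := Nat.lt_of_mul_lt_mul_right hup
  have hcardG : Nat.card G = z * (p * p ^ k) := by
    rw [hZ, hz]; exact (Subgroup.card_mul_index _).symm
  have hzpos : 0 < z := Nat.card_pos
  have h4 : z * (p * p ^ k) < z * ((p + 1) * p ^ 2) := by
    calc z * (p * p ^ k) = Nat.card G := hcardG.symm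
      _ ≤ r * p ^ 2 := hlow
      _ < z * (p + 1) * p ^ 2 := Nat.mul_lt_mul_of_pos_right hr2 (pow_pos hp.pos 2)
      _ = _ := mul_assoc _ _ _
  have h5 := Nat.lt_of_mul_lt_mul_left h4
  have h6 : p * p ^ 3 ≤ p * p ^ k := Nat.mul_le_mul_left p (Nat.pow_le_pow_right hp.pos hk3)
  have h7 := hp.two_le
  nlinarith [Nat.mul_le_mul h7 h7]

omit hAn in
/-- Degrees from an abelian normal subgroup of index `p`. -/
theorem degrees_of_index (hp : p.Prime) {A : Subgroup G} (hAn : A.Normal)
    (hA : ∀ a ∈ A, ∀ b ∈ A, a * b = b * a) (hi : A.index = p) (χ : IrrCharacter G) :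
    charDegree (χ : G → ℂ) = 1 ∨ charDegree (χ : G → ℂ) = p := by
  haveI := hAn
  haveI := Fintype.ofFinite G
  obtain ⟨n, -, hn, hd⟩ := Ito.exists_degree_dvd_index χ.2 A hA
  rw [apply_one χ.2, Nat.cast_inj] at hn
  exact (Nat.dvd_prime hp).1 (hn ▸ hi ▸ hd)

omit hAn in
/-- Degrees from a centre of index `p ^ 3`. -/
theorem degrees_of_center_index (hp : p.Prime) (hi : (Subgroup.center G).index = p ^ 3)
    (χ : IrrCharacter G) : charDegree (χ : G → ℂ) = 1 ∨ charDegree (χ : G → ℂ) = p := by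
  classical
  haveI := Fintype.ofFinite G
  haveI := Fintype.ofFinite (Subgroup.center G)
  have hab : ∀ a b : Subgroup.center G, a * b = b * a := fun a b =>
    Subtype.ext (Subgroup.mem_center_iff.1 b.2 a)
  obtain ⟨n, -, hn, hd⟩ := Ito.exists_degree_dvd_index χ.2 (Subgroup.center G)
    fun a ha b hb => congrArg Subtype.val (hab ⟨a, ha⟩ ⟨b, hb⟩)
  rw [apply_one χ.2, Nat.cast_inj] at hn
  obtain ⟨θ, hθ⟩ := exists_constituent
    (IsCharacter.restrict (IsIrrCharacter.isCharacter χ.2) (Subgroup.center G))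
    (by rw [OneMemClass.coe_one, apply_one χ.2]
        exact Nat.cast_ne_zero.2 (TwoClassChar.deg_pos χ.2).ne')
  obtain ⟨e, -, -, hdeg, hself⟩ := degree_over (Subgroup.center G) χ.2 θ.2 hθ
  have hI : inertia (Subgroup.center G) (θ : Subgroup.center G → ℂ) = ⊤ := by
    refine eq_top_iff.2 fun g _ => (mem_inertia_iff _).2 fun z => ?_
    exact congrArg _ (Subtype.ext (by
      show g * (z : G) * g⁻¹ = z
      rw [Subgroup.mem_center_iff.1 z.2 g, mul_inv_cancel_right]))
  have hθ1 : charDegree (θ : Subgroup.center G → ℂ) = 1 := by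
    have := apply_one_eq_one_of_comm hab θ
    rw [apply_one θ.2] at this
    exact_mod_cast this
  rw [hI, Subgroup.index_top, hθ1, mul_one, mul_one] at hdeg
  have hb := multiplicity_sq_le_index (Subgroup.center G) χ.2
  rw [hself, hI, Subgroup.index_top, Nat.cast_one, mul_one, hi,
    show ((e : ℂ) ^ 2) = ((e ^ 2 : ℕ) : ℂ) by push_cast; rfl, Complex.natCast_re, Nat.cast_le]
    at hb
  obtain ⟨i, hi3, hi'⟩ := (Nat.dvd_prime_pow hp).1 (hn ▸ hi ▸ hd : charDegree (χ : G → ℂ) ∣ p ^ 3)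
  rw [← hdeg, hi', ← pow_mul] at hb
  have := (Nat.pow_le_pow_iff_right hp.one_lt).1 hb
  rcases i with _ | _ | i
  · exact Or.inl (by rw [hi', pow_zero])
  · exact Or.inr (by rw [hi', pow_one])
  · omega

end Cfsg.Agent.CharApp.DegreeOneP
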