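/-
A fully ramified section under a cyclic Frobenius action: `e ≡ ±1` modulo the order of the action.

Main results: `pm_one_of_autocorr`, `sum_coset_eq`, `degree_congr`.
-/
import Cfsg.Agent.Lib.FullyRamified.Basic
import Cfsg.Agent.Lib.Char.Brauer

set_option autoImplicit false
set_option linter.style.haveILetI false

open scoped ComplexConjugate

namespace Cfsg.Agent.FrobeniusSection

open Cfsg

/-- An integer vector on a group all of whose shift differences have squared norm two. -/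
theorem pm_one_of_autocorr {L : Type*} [CommGroup L] [Fintype L] (hn : 2 ≤ Fintype.card L)
    (a : L → ℤ) (h : ∀ ν : L, ν ≠ 1 → ∑ i, (a i - a (i * ν)) ^ 2 = 2) :
    (Fintype.card L : ℤ) ∣ ∑ i, a i - 1 ∨ (Fintype.card L : ℤ) ∣ ∑ i, a i + 1 := by
  classical
  obtain ⟨i₀, -, hi₀⟩ := Finset.exists_min_image Finset.univ a Finset.univ_nonempty
  set b : L → ℤ := fun i => a i - a i₀
  have hb : ∀ i, b i = 0 ∨ b i = 1 := by
    intro i
    have h0 : 0 ≤ b i := sub_nonneg.2 (hi₀ i (Finset.mem_univ i))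
    rcases eq_or_ne i i₀ with rfl | hne
    · left; simp [b]
    have h1 := h (i₀⁻¹ * i) (by simpa [inv_mul_eq_one, eq_comm] using hne)
    have h2 : b i ^ 2 ≤ 2 := by
      rw [← h1]
      refine le_trans (le_of_eq ?_) (Finset.single_le_sum (fun j _ => sq_nonneg _) (Finset.mem_univ i₀))
      rw [mul_inv_cancel_left]
      simp only [b]
      ring
    have h3 : b i < 2 := by nlinarith
    omega
  set s := ∑ i, b i
  have hsq : ∑ i, b i ^ 2 = s := Finset.sum_congr rfl fun i _ => by
    rcases hb i with e | e <;> simp [e]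
  set n : ℤ := (Fintype.card L : ℤ)
  have htot : 2 * (n * s - s * s) = 2 * (n - 1) := by
    have h1 : ∑ ν : L, ∑ i, (b i - b (i * ν)) ^ 2 = 2 * (n - 1) := by
      have e : ∀ ν : L, ∑ i, (b i - b (i * ν)) ^ 2 = if ν = 1 then 0 else 2 := fun ν => by
        split_ifs with hν
        · subst hν; simp
        · rw [← h ν hν]
          exact Finset.sum_congr rfl fun i _ => by simp only [b]; ring
      simp only [e, Finset.sum_ite, Finset.sum_const_zero, zero_add, Finset.sum_const, nsmul_eq_mul]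
      rw [Finset.filter_ne', Finset.card_erase_of_mem (Finset.mem_univ _), Finset.card_univ,
        Nat.cast_sub (by omega)]
      simp only [n]
      ring
    rw [← h1, Finset.sum_comm]
    have e2 : ∀ i : L, ∑ ν, (b i - b (i * ν)) ^ 2 = n * b i ^ 2 - 2 * b i * s + s := fun i => by
      rw [Fintype.sum_equiv (Equiv.mulLeft i) (fun ν => (b i - b (i * ν)) ^ 2)
        (fun j => (b i - b j) ^ 2) (fun ν => rfl)]
      simp only [sub_sq, Finset.sum_add_distrib, Finset.sum_sub_distrib, hsq, ← Finset.mul_sum,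
        Finset.sum_const, Finset.card_univ, nsmul_eq_mul]
      rfl
    rw [Finset.sum_congr rfl fun i _ => e2 i, Finset.sum_add_distrib, Finset.sum_sub_distrib,
      ← Finset.mul_sum, hsq, ← Finset.sum_mul, ← Finset.mul_sum, Finset.sum_const,
      Finset.card_univ, nsmul_eq_mul]
    simp only [n]
    ring
  have hfac : (s - 1) * (s + 1 - n) = 0 := by linarith
  have hsum : ∑ i, a i = n * a i₀ + s := by
    simp only [s, b, Finset.sum_sub_distrib, Finset.sum_const, Finset.card_univ, nsmul_eq_mul, n]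
    ring
  rcases mul_eq_zero.1 hfac with e | e
  · exact Or.inl ⟨a i₀, by rw [hsum]; linarith⟩
  · exact Or.inr ⟨a i₀ + 1, by rw [hsum]; linarith⟩

variable {Γ : Type*} [Group Γ] (G N : Subgroup Γ) [G.Normal] [N.Normal]
  [Fintype G] [Fintype N]

/-- The conjugates of `N x` by `G` fill the coset `G x` evenly. -/
theorem sum_coset_eq (hNG : N ≤ G)
    (hfrob : ∀ x : Γ, x ∉ G → ∀ g : Γ, g ∈ G → x * g * x⁻¹ * g⁻¹ ∈ N → g ∈ N)
    {F : Γ → ℂ} (hF : IsClassFunction Γ F) {x : Γ} (hx : x ∉ G) :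
    (Nat.card N : ℂ) * ∑ g : G, F ((g : Γ) * x) = (Nat.card G : ℂ) * ∑ m : N, F ((m : Γ) * x) := by
  classical
  have hGn : G.Normal := inferInstance
  have hNn : N.Normal := inferInstance
  let mk : G → Γ ⧸ N := fun g => ((g : Γ) : Γ ⧸ N)
  let c : G → G := fun g => ⟨(g : Γ) * x * (g : Γ)⁻¹ * x⁻¹, by
    rw [mul_assoc, mul_assoc, ← mul_assoc x]
    exact G.mul_mem g.2 (hGn.conj_mem _ (G.inv_mem g.2) x)⟩
  let H : G → ℂ := fun g => ∑ m : N, F ((m : Γ) * g * x)
  have hH : ∀ g g' : G, mk g = mk g' → H g = H g' := fun g g' e => by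
    have hm : (g' : Γ) * (g : Γ)⁻¹ ∈ N := by
      rw [← QuotientGroup.eq_one_iff, QuotientGroup.mk_mul, QuotientGroup.mk_inv]
      show mk g' * (mk g)⁻¹ = 1
      rw [e, mul_inv_cancel]
    refine (Fintype.sum_equiv (Equiv.mulRight (⟨_, hm⟩ : N)) _ _ fun m => ?_).symm
    simp [mul_assoc]
  have hmk : ∀ g g' : G, mk g = mk g' → mk (c g) = mk (c g') := fun g g' e => by
    simp only [mk, c, QuotientGroup.mk_mul, QuotientGroup.mk_inv] at e ⊢
    rw [e]
  have hrep : ∀ g : G, ∃ r : G, mk r = mk g ∧ ∀ g' : G, mk g' = mk g →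
      Function.invFun mk (mk g') = r := fun g =>
    ⟨Function.invFun mk (mk g), Function.invFun_eq ⟨g, rfl⟩, fun g' e => by rw [e]⟩
  let r : G → G := fun g => Function.invFun mk (mk g)
  have hr : ∀ g, mk (r g) = mk g := fun g => Function.invFun_eq ⟨g, rfl⟩
  let σ : G → G := fun g => g * (r g)⁻¹ * c (r g)
  have hσ : ∀ g, mk (σ g) = mk (c (r g)) := fun g => by
    have h1 := hr g
    simp only [mk, σ, Subgroup.coe_mul, Subgroup.coe_inv, QuotientGroup.mk_mul,
      QuotientGroup.mk_inv] at h1 ⊢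
    rw [h1, mul_inv_cancel, one_mul]
  have hinj : Function.Injective σ := by
    intro g g' e
    have h1 : mk (c (r g)) = mk (c (r g')) := by rw [← hσ, ← hσ, e]
    have h2 : mk (r g) = mk (r g') := by
      have hmem := hfrob x hx ((r g' : Γ)⁻¹ * (r g : Γ))
        (G.mul_mem (G.inv_mem (r g').2) (r g).2) ?_
      · exact ((QuotientGroup.eq).2 hmem).symm
      · simp only [mk, c, QuotientGroup.mk_mul, QuotientGroup.mk_inv] at h1
        rw [← QuotientGroup.eq_one_iff]
        simp only [QuotientGroup.mk_mul, QuotientGroup.mk_inv]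
        generalize ((r g : Γ) : Γ ⧸ N) = A at h1 ⊢
        generalize ((r g' : Γ) : Γ ⧸ N) = B at h1 ⊢
        generalize (x : Γ ⧸ N) = X at h1 ⊢
        have h3 : A * X * A⁻¹ = B * X * B⁻¹ := mul_right_cancel h1
        calc X * (B⁻¹ * A) * X⁻¹ * (B⁻¹ * A)⁻¹
            = X * B⁻¹ * (A * X * A⁻¹)⁻¹ * B := by group
          _ = 1 := by rw [h3]; group
    have h4 : mk g = mk g' := by rw [← hr, ← hr g', h2]
    have h5 : r g = r g' := by simp only [r, h4]
    simpa [σ, h5] using e
  have hσbij := Finite.injective_iff_bijective.1 hinj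
  have hHσ : ∀ g, H (σ g) = H (c g) := fun g =>
    hH _ _ ((hσ g).trans (hmk _ _ (hr g)))
  have h1 : ∑ g : G, H g = (Nat.card N : ℂ) * ∑ g : G, F ((g : Γ) * x) := by
    simp only [H]
    rw [Finset.sum_comm, Nat.card_eq_fintype_card, ← nsmul_eq_mul, ← Finset.card_univ,
      ← Finset.sum_const]
    refine Finset.sum_congr rfl fun m _ => ?_
    exact Fintype.sum_equiv (Equiv.mulLeft (⟨m, hNG m.2⟩ : G)) _ _ fun g => by simp
  have h2 : ∑ g : G, H (c g) = (Nat.card G : ℂ) * ∑ m : N, F ((m : Γ) * x) := by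
    rw [Nat.card_eq_fintype_card, ← nsmul_eq_mul, ← Finset.card_univ, ← Finset.sum_const]
    refine Finset.sum_congr rfl fun g _ => ?_
    refine Fintype.sum_equiv (MulAut.conjNormal (g : Γ)⁻¹).toEquiv _ _ fun m => ?_
    show F ((m : Γ) * ((g : Γ) * x * (g : Γ)⁻¹ * x⁻¹) * x) = F (((MulAut.conjNormal (g : Γ)⁻¹ m : N) : Γ) * x)
    rw [MulAut.conjNormal_apply, inv_inv, ← hF ((g : Γ)⁻¹ * m * g * x) g]
    congr 1
    group
  rw [← h1, ← h2, ← Fintype.sum_equiv (Equiv.ofBijective σ hσbij) _ _ fun g => (hHσ g).symm]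

/-- **`e ≡ ±1`** in a fully ramified section with cyclic Frobenius action. -/
theorem degree_congr [Fintype Γ] (hNG : N ≤ G) (hGlt : G ≠ ⊤) (hcyc : IsCyclic (Γ ⧸ G))
    (hfrob : ∀ x : Γ, x ∉ G → ∀ g : Γ, g ∈ G → x * g * x⁻¹ * g⁻¹ ∈ N → g ∈ N)
    (θ : IrrCharacter N)
    (hinv : ∀ (x : Γ) (n : N),
      (θ : N → ℂ) ⟨x * n * x⁻¹, ‹N.Normal›.conj_mem n n.2 x⟩ = (θ : N → ℂ) n)
    (χ : IrrCharacter G) (e : ℕ)
    (hram : indFun (N.subgroupOf G) (fun n : N.subgroupOf G => (θ : N → ℂ) ⟨(n : G), n.2⟩) =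
      fun g => (e : ℂ) * (χ : G → ℂ) g) :
    (G.index : ℤ) ∣ (e : ℤ) - 1 ∨ (G.index : ℤ) ∣ (e : ℤ) + 1 := by
  classical
  haveI := Fintype.ofFinite (N.subgroupOf G)
  set θ' : N.subgroupOf G → ℂ := fun n => (θ : N → ℂ) ⟨(n : G), n.2⟩
  have hθ' : IsIrrCharacter (N.subgroupOf G) θ' :=
    Char.IsIrrCharacter.comp_equiv θ.2 (Subgroup.subgroupOfEquivOfLe hNG)
  have hindN : ∀ n : N.subgroupOf G,
      indFun (N.subgroupOf G) θ' (n : G) = ((N.subgroupOf G).index : ℂ) * θ' n := by
    intro n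
    rw [CliffordChar.indFun_coe, CliffordChar.orbitSum, Finset.sum_apply]
    have : ∀ g : G, CliffordChar.conjFun (N.subgroupOf G) g θ' n = θ' n := fun g => by
      rw [CliffordChar.conjFun_apply]
      have := hinv (g : Γ)⁻¹ ⟨(n : G), n.2⟩
      simpa [θ'] using this
    rw [Finset.sum_congr rfl fun g _ => this g, Finset.sum_const, Finset.card_univ, nsmul_eq_mul,
      ← Nat.card_eq_fintype_card, ← (N.subgroupOf G).card_mul_index, Nat.cast_mul]
    have : (Nat.card (N.subgroupOf G) : ℂ) ≠ 0 := Nat.cast_ne_zero.2 Nat.card_pos.ne'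
    field_simp
  have hidx0 : ((N.subgroupOf G).index : ℂ) ≠ 0 :=
    Nat.cast_ne_zero.2 Subgroup.index_ne_zero_of_finite
  have he0 : (e : ℂ) ≠ 0 := fun h0 => by
    have := hindN 1
    rw [hram] at this
    simp only [h0, zero_mul] at this
    exact mul_ne_zero hidx0 (Char.IsIrrCharacter.apply_one_ne_zero hθ') this.symm
  -- `e² = [G : N]`
  have hsq : (e : ℂ) * e = ((N.subgroupOf G).index : ℂ) := by
    have h1 : classInner (indFun (N.subgroupOf G) θ') (indFun (N.subgroupOf G) θ') =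
        ((N.subgroupOf G).index : ℂ) := by
      rw [Char.frobenius_reciprocity _ _ (Char.indFun_isClassFunction _ _),
        show (fun h : N.subgroupOf G => indFun (N.subgroupOf G) θ' (h : G)) =
          ((N.subgroupOf G).index : ℂ) • θ' from funext hindN,
        Char.classInner_smul_right, Char.classInner_irr_self hθ', mul_one, Complex.conj_natCast]
    rw [hram, show (fun g => (e : ℂ) * (χ : G → ℂ) g) = (e : ℂ) • (χ : G → ℂ) from rfl,
      Char.classInner_smul_left, Char.classInner_smul_right, Char.classInner_irr_self χ.2,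
      Complex.conj_natCast, mul_one] at h1
    exact h1
  have hχN : ∀ n : N.subgroupOf G, (χ : G → ℂ) n = (e : ℂ) * θ' n := fun n => by
    have := hindN n
    rw [hram, ← hsq, mul_assoc] at this
    exact mul_left_cancel₀ he0 this
  have hχ0 : ∀ g : G, g ∉ N.subgroupOf G → (χ : G → ℂ) g = 0 := fun g hg => by
    have := congrFun hram g
    rw [CliffordChar.indFun_not_mem _ _ hg] at this
    exact (mul_eq_zero.1 this.symm).resolve_left he0
  have hχinv : ∀ (x : Γ) (g : G),
      (χ : G → ℂ) ⟨x * g * x⁻¹, ‹G.Normal›.conj_mem g g.2 x⟩ = (χ : G → ℂ) g := by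
    intro x g
    by_cases hg : (g : Γ) ∈ N
    · have h1 := hχN ⟨⟨x * g * x⁻¹, ‹G.Normal›.conj_mem g g.2 x⟩, ‹N.Normal›.conj_mem _ hg x⟩
      refine h1.trans (Eq.trans ?_ (hχN ⟨g, hg⟩).symm)
      congr 1
      exact hinv x ⟨g, hg⟩
    · rw [hχ0 _ hg, hχ0 _ fun hh => hg ?_]
      have := ‹N.Normal›.conj_mem _ (show x * (g : Γ) * x⁻¹ ∈ N from hh) x⁻¹
      simpa [mul_assoc] using this
  obtain ⟨χh, hχh, hext⟩ := FullyRamified.exists_extension_of_cyclic hcyc χ.2 hχinv
  have hcomm : ∀ a b : Γ ⧸ G, a * b = b * a := fun a b => by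
    letI := hcyc.commGroup
    exact mul_comm a b
  have hres : IsIrrCharacter G (fun z : G => χh z) := by rw [funext hext]; exact χ.2
  let F : Γ → ℂ := fun y => χh y * conj (χh y)
  have hFc : IsClassFunction Γ F := fun g h => by
    simp only [F, Char.IsIrrCharacter.isClassFunction hχh g h]
  have hN0 : (Nat.card N : ℂ) ≠ 0 := Nat.cast_ne_zero.2 Nat.card_pos.ne'
  have hcoset : ∀ x : Γ, x ∉ G → ∑ m : N, F ((m : Γ) * x) = (Nat.card N : ℂ) := by
    intro x hx
    have h1 := sum_coset_eq G N hNG hfrob hFc hx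
    have h2 : ∑ g : G, F ((g : Γ) * x) = (Nat.card G : ℂ) := by
      rw [← FullyRamified.coset_sum_eq_card hcomm hχh hres (x : Γ ⧸ G)]
      refine Finset.sum_bij' (fun g _ => (g : Γ) * x) (fun y hy => (⟨y * x⁻¹, ?_⟩ : G))
        ?_ ?_ ?_ ?_ ?_
      · rw [← QuotientGroup.eq_one_iff, QuotientGroup.mk_mul, QuotientGroup.mk_inv,
          (Finset.mem_filter.1 hy).2, mul_inv_cancel]
      · intro g _
        refine Finset.mem_filter.2 ⟨Finset.mem_univ _, ?_⟩
        rw [QuotientGroup.mk_mul, (QuotientGroup.eq_one_iff (g : Γ)).2 g.2, one_mul]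
      · intros; exact Finset.mem_univ _
      · intro g _; exact Subtype.ext (mul_inv_cancel_right _ _)
      · intro y _; exact inv_mul_cancel_right _ _
      · intro g _; rfl
    rw [h2, mul_comm] at h1
    exact (mul_left_cancel₀ (Nat.cast_ne_zero.2 Nat.card_pos.ne') h1).symm
  -- the supplement `Δ`
  obtain ⟨q₀, hq₀⟩ := hcyc.exists_generator
  obtain ⟨x₀, rfl⟩ := QuotientGroup.mk_surjective q₀
  have hx₀ : x₀ ∉ G := fun hh => hGlt ((Subgroup.eq_top_iff' _).2 fun y => by
    obtain ⟨i, hi⟩ := Subgroup.mem_zpowers_iff.1 (hq₀ (y : Γ ⧸ G))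
    rw [(QuotientGroup.eq_one_iff _).2 hh, one_zpow] at hi
    exact (QuotientGroup.eq_one_iff y).1 hi.symm)
  set D := N ⊔ Subgroup.zpowers x₀
  have hND : N ≤ D := le_sup_left
  have hDG : ∀ y ∈ D, y ∈ G → y ∈ N := by
    intro y hy hyG
    obtain ⟨m, hm, z, hz, rfl⟩ := Subgroup.mem_sup_of_normal_left.1 hy
    obtain ⟨i, rfl⟩ := Subgroup.mem_zpowers_iff.1 hz
    have hiG : x₀ ^ i ∈ G := (Subgroup.mul_mem_cancel_left G (hNG hm)).1 hyG
    refine N.mul_mem hm (hfrob x₀ hx₀ _ hiG ?_)
    rw [(Commute.self_zpow x₀ i).eq, mul_inv_cancel_right, mul_inv_cancel]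
    exact N.one_mem
  haveI := Fintype.ofFinite D
  haveI := Fintype.ofFinite (N.subgroupOf D)
  let f : D →* Γ ⧸ G := (QuotientGroup.mk' G).comp D.subtype
  have hfker : f.ker = N.subgroupOf D := by
    ext y
    rw [MonoidHom.mem_ker, Subgroup.mem_subgroupOf]
    show ((y : Γ) : Γ ⧸ G) = 1 ↔ _
    rw [QuotientGroup.eq_one_iff]
    exact ⟨hDG y y.2, fun hh => hNG hh⟩
  have hfsurj : Function.Surjective f := fun q => by
    obtain ⟨i, rfl⟩ := Subgroup.mem_zpowers_iff.1 (hq₀ q)
    exact ⟨⟨x₀ ^ i, (le_sup_right : Subgroup.zpowers x₀ ≤ D) ⟨i, rfl⟩⟩, QuotientGroup.mk_zpow G x₀ i⟩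
  let E : D ⧸ N.subgroupOf D ≃* Γ ⧸ G :=
    (QuotientGroup.quotientMulEquivOfEq hfker.symm).trans
      (QuotientGroup.quotientKerEquivOfSurjective f hfsurj)
  haveI : IsCyclic (D ⧸ N.subgroupOf D) :=
    isCyclic_of_surjective E.symm.toMonoidHom E.symm.surjective
  letI : CommGroup (D ⧸ N.subgroupOf D) := IsCyclic.commGroup
  have hidx : (N.subgroupOf D).index = G.index := by
    rw [Subgroup.index_eq_card, Subgroup.index_eq_card, Nat.card_congr E.toEquiv]
  let L := (D ⧸ N.subgroupOf D) →* ℂˣ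
  have hLcard : Nat.card L = G.index := by
    rw [CommGroup.card_monoidHom_of_hasEnoughRootsOfUnity, ← Subgroup.index_eq_card, hidx]
  haveI : Finite L := Nat.finite_of_card_ne_zero
    (hLcard.symm ▸ Subgroup.index_ne_zero_of_finite)
  haveI := Fintype.ofFinite L
  set θ'' : N.subgroupOf D → ℂ := fun n => (θ : N → ℂ) ⟨(n : D), n.2⟩
  have hθ'' : IsIrrCharacter (N.subgroupOf D) θ'' :=
    Char.IsIrrCharacter.comp_equiv θ.2 (Subgroup.subgroupOfEquivOfLe hND)
  obtain ⟨φ, hφ, hφN⟩ := FullyRamified.exists_extension_of_cyclic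
    (inferInstance : IsCyclic (D ⧸ N.subgroupOf D)) hθ'' (fun g z => hinv (g : Γ) ⟨(z : D), z.2⟩)
  let ev : L → (D →* ℂ) := fun lam =>
    (Units.coeHom ℂ).comp (lam.comp (QuotientGroup.mk' (N.subgroupOf D)))
  let tw : L → D → ℂ := fun lam y => φ y * ev lam y
  have htw : ∀ lam, IsIrrCharacter D (tw lam) := fun lam =>
    Char.IsIrrCharacter.mul_linear hφ (ev lam)
  let ψ : D → ℂ := fun y => χh y
  have hψ : IsCharacter D ψ := Char.IsCharacter.restrict (Char.IsIrrCharacter.isCharacter hχh) D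
  choose a ha using fun lam => Char.IsCharacter.classInner_nat hψ
    (Char.IsIrrCharacter.isCharacter (htw lam))
  have hψN : ∀ n : N.subgroupOf D, ψ (n : D) = (e : ℂ) * θ'' n := fun n =>
    (hext ⟨((n : D) : Γ), hNG n.2⟩).trans (hχN ⟨⟨((n : D) : Γ), hNG n.2⟩, n.2⟩)
  have hevN : ∀ lam (n : N.subgroupOf D), ev lam (n : D) = 1 := fun lam n => by
    show ((lam (QuotientGroup.mk' _ (n : D)) : ℂˣ) : ℂ) = 1
    rw [show QuotientGroup.mk' (N.subgroupOf D) (n : D) = 1 from
      (QuotientGroup.eq_one_iff _).2 n.2, map_one, Units.val_one]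
  have hevmul : ∀ (l l' : L) (y : D), ev (l * l') y = ev l y * ev l' y := fun l l' y =>
    Units.val_mul _ _
  -- orthogonality in the dual group
  have hdual : ∀ y : D, y ∉ N.subgroupOf D → ∑ lam : L, ev lam y = 0 := by
    intro y hy
    obtain ⟨lam₀, hlam₀⟩ := CommGroup.exists_apply_ne_one_of_hasEnoughRootsOfUnity
      (G := D ⧸ N.subgroupOf D) (M := ℂ) (a := (y : D ⧸ N.subgroupOf D))
      (fun hh => hy ((QuotientGroup.eq_one_iff y).1 hh))
    have h1 : ev lam₀ y * ∑ lam : L, ev lam y = ∑ lam : L, ev lam y := by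
      rw [Finset.mul_sum]
      refine Fintype.sum_equiv (Equiv.mulLeft lam₀) _ _ fun lam => ?_
      simp [ev]
    by_contra hne
    exact hlam₀ (Units.ext ((mul_eq_right₀ hne).1 h1))
  have hD0 : (Nat.card D : ℂ) ≠ 0 := Nat.cast_ne_zero.2 Nat.card_pos.ne'
  have hsumN : ∀ g : D → ℂ, ∑ y ∈ Finset.univ.filter (· ∈ N.subgroupOf D), g y =
      ∑ n : N.subgroupOf D, g n := fun g =>
    Finset.sum_subtype (p := fun y => y ∈ N.subgroupOf D) _ (fun y => by simp) g
  have hasum : ∑ lam : L, (a lam : ℂ) = (e : ℂ) := by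
    refine mul_left_cancel₀ hD0 ?_
    rw [Finset.mul_sum, Finset.sum_congr rfl fun lam _ => by
      rw [← ha lam, Char.card_mul_classInner], Finset.sum_comm]
    have h1 : ∀ y : D, ∑ lam : L, ψ y * conj (tw lam y) =
        if y ∈ N.subgroupOf D then (Nat.card L : ℂ) * (ψ y * conj (φ y)) else 0 := by
      intro y
      split_ifs with hy
      · simp only [tw, hevN _ ⟨y, hy⟩, mul_one, Finset.sum_const, Finset.card_univ, nsmul_eq_mul,
          Nat.card_eq_fintype_card]
      · simp only [tw, map_mul, ← mul_assoc, ← Finset.mul_sum, ← map_sum, hdual y hy, map_zero,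
          mul_zero]
    rw [Finset.sum_congr rfl fun y _ => h1 y, ← Finset.sum_filter, hsumN, ← Finset.mul_sum]
    simp only [hψN, hφN, mul_assoc, ← Finset.mul_sum]
    rw [← Char.card_mul_classInner, Char.classInner_irr_self hθ'', mul_one, hLcard, ← hidx,
      ← (N.subgroupOf D).card_mul_index, Nat.cast_mul]
    ring
  -- the twisted extensions are distinct
  have htwinj : ∀ lam lam', classInner (tw lam) (tw lam') ≠ 0 → lam = lam' := by
    intro lam lam' hne
    have hr : ∀ y, conj (ev lam' y) = ev (lam'⁻¹) y := fun y => by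
      rw [← Char.IsCharacter.apply_inv (Char.isCharacter_of_hom (ev lam'))]
      show ((lam' (QuotientGroup.mk' _ y⁻¹) : ℂˣ) : ℂ) = (((lam' (QuotientGroup.mk' _ y))⁻¹ : ℂˣ) : ℂ)
      rw [map_inv, map_inv]
    by_contra hll
    have hne1 : lam * lam'⁻¹ ≠ 1 := fun hh => hll (mul_inv_eq_one.1 hh)
    have hz : ∑ y : D, ev (lam * lam'⁻¹) y * (φ y * conj (φ y)) = 0 := by
      have hcm : ∀ a b : D ⧸ N.subgroupOf D, a * b = b * a := mul_comm
      have hφres : IsIrrCharacter (N.subgroupOf D) (fun z : N.subgroupOf D => φ z) := by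
        rw [funext hφN]; exact hθ''
      rw [← Finset.sum_fiberwise Finset.univ (fun y : D => (y : D ⧸ N.subgroupOf D))]
      have h1 : ∀ q : D ⧸ N.subgroupOf D,
          ∑ y ∈ Finset.univ.filter (fun y : D => (y : D ⧸ N.subgroupOf D) = q),
            ev (lam * lam'⁻¹) y * (φ y * conj (φ y)) =
          (Nat.card (N.subgroupOf D) : ℂ) * (((lam * lam'⁻¹) q : ℂˣ) : ℂ) := fun q => by
        rw [mul_comm, ← FullyRamified.coset_sum_eq_card hcm hφ hφres q, Finset.mul_sum]
        refine Finset.sum_congr rfl fun y hy => ?_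
        rw [← (Finset.mem_filter.1 hy).2]
        rfl
      rw [Finset.sum_congr rfl fun q _ => h1 q, ← Finset.mul_sum]
      have := sum_hom_units_eq_zero ((Units.coeHom ℂ).comp (lam * lam'⁻¹)) fun hh =>
        hne1 (MonoidHom.ext fun q => Units.ext (DFunLike.congr_fun hh q))
      simp only [MonoidHom.comp_apply, Units.coeHom_apply] at this
      rw [this, mul_zero]
    refine hne (mul_left_cancel₀ hD0 ?_)
    rw [Char.card_mul_classInner, mul_zero, ← hz]
    refine Finset.sum_congr rfl fun y _ => ?_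
    simp only [tw, map_mul, hr]
    rw [hevmul]
    ring
  -- `ψ` is a combination of the twisted extensions
  have hdec : ψ = ∑ lam : L, (a lam : ℂ) • tw lam := by
    haveI := Fintype.ofFinite (IrrCharacter D)
    let emb : L → IrrCharacter D := fun lam => ⟨tw lam, htw lam⟩
    have hemb : Function.Injective emb := fun l l' hh => htwinj l l' (by
      rw [show tw l = tw l' from congrArg Subtype.val hh, Char.classInner_irr_self (htw l')]
      exact one_ne_zero)
    obtain ⟨c, hc, hcin⟩ := Char.IsCharacter.decompose hψ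
    have hca : ∀ lam, c (emb lam) = a lam := fun lam => by
      exact_mod_cast (hcin (emb lam)).symm.trans (ha lam)
    choose d hd0 hd using fun ξ : IrrCharacter D => Char.IsIrrCharacter.exists_degree ξ.2
    obtain ⟨t, ht0, ht⟩ := Char.IsIrrCharacter.exists_degree hθ''
    have hdt : ∀ lam, d (emb lam) = t := fun lam => by
      have h1 : tw lam 1 = θ'' 1 := by
        simp only [tw, map_one, mul_one]
        exact hφN 1
      exact_mod_cast ((hd (emb lam)).symm.trans h1).trans ht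
    have htot : ∑ ξ, c ξ * d ξ = e * t := by
      have h1 := congrFun hc 1
      simp only [Finset.sum_apply, Pi.smul_apply, smul_eq_mul, hd] at h1
      have h2 : ψ 1 = (e : ℂ) * θ'' 1 := hψN 1
      rw [h2, ht] at h1
      exact_mod_cast h1.symm
    have himg : ∑ ξ ∈ Finset.univ.image emb, c ξ * d ξ = e * t := by
      rw [Finset.sum_image fun _ _ _ _ hh => hemb hh]
      simp only [hca, hdt, ← Finset.sum_mul]
      congr 1
      exact_mod_cast hasum
    have hout : ∀ ξ, ξ ∉ Finset.univ.image emb → c ξ = 0 := fun ξ hξ => by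
      have h1 : ∑ ξ ∈ (Finset.univ.image emb)ᶜ, c ξ * d ξ = 0 := by
        have := Finset.sum_add_sum_compl (Finset.univ.image emb) fun ξ => c ξ * d ξ
        omega
      exact (mul_eq_zero.1 (Finset.sum_eq_zero_iff.1 h1 ξ (Finset.mem_compl.2 hξ))).resolve_right
        (hd0 ξ).ne'
    refine hc.trans ?_
    rw [← Finset.sum_subset (Finset.subset_univ (Finset.univ.image emb)) fun ξ _ hξ => by
      rw [hout ξ hξ, Nat.cast_zero, zero_smul], Finset.sum_image fun _ _ _ _ hh => hemb hh]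
    exact Finset.sum_congr rfl fun lam _ => by rw [hca]
  -- autocorrelation
  have hcorr : ∀ ν : L, (Nat.card (N.subgroupOf D) : ℂ) * ((G.index : ℂ) * ∑ lam, (a lam : ℂ) * a (lam * ν)) =
      (Nat.card (N.subgroupOf D) : ℂ) * ((e : ℂ) * e - 1 + if ν = 1 then (G.index : ℂ) else 0) := by
    intro ν
    have hshift : (fun y => ψ y * ev ν y) = ∑ lam : L, (a lam : ℂ) • tw (lam * ν) := by
      funext y
      rw [congrFun hdec y]
      simp only [Finset.sum_apply, Pi.smul_apply, smul_eq_mul, Finset.sum_mul, tw, hevmul]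
      exact Finset.sum_congr rfl fun lam _ => by ring
    have hlhs : classInner (fun y => ψ y * ev ν y) ψ = ∑ lam, (a lam : ℂ) * a (lam * ν) := by
      rw [hshift, Char.classInner_sum_left]
      refine Finset.sum_congr rfl fun lam _ => ?_
      rw [Char.classInner_smul_left, ← Char.classInner_conj_symm, ha, Complex.conj_natCast]
    rw [← hidx, ← mul_assoc, ← Nat.cast_mul, (N.subgroupOf D).card_mul_index, ← hlhs,
      Char.card_mul_classInner]
    have hNN : ∑ n : N.subgroupOf D, ψ (n : D) * ev ν (n : D) * conj (ψ (n : D)) =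
        (Nat.card (N.subgroupOf D) : ℂ) * ((e : ℂ) * e) := by
      have h1 : ∑ n : N.subgroupOf D, θ'' n * conj (θ'' n) = (Nat.card (N.subgroupOf D) : ℂ) := by
        rw [← Char.card_mul_classInner, Char.classInner_irr_self hθ'', mul_one]
      rw [← h1, Finset.sum_mul]
      exact Finset.sum_congr rfl fun n _ => by
        rw [hψN, hevN, map_mul, Complex.conj_natCast]; ring
    set P := Finset.univ.filter fun y : D => y ∉ N.subgroupOf D
    have hP : (Nat.card (N.subgroupOf D) : ℂ) * ∑ y ∈ P, ψ y * ev ν y * conj (ψ y) =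
        (Nat.card (N.subgroupOf D) : ℂ) * ∑ y ∈ P, ev ν y := by
      have h1 : ∀ n : N.subgroupOf D, ∑ y ∈ P, ψ y * ev ν y * conj (ψ y) =
          ∑ y ∈ P, ev ν y * F (((n : D) : Γ) * (y : Γ)) := by
        intro n
        symm
        refine Finset.sum_equiv (Equiv.mulLeft (n : D)) (fun y => ?_) fun y _ => ?_
        · simp only [P, Finset.mem_filter, Finset.mem_univ, true_and, Equiv.coe_mulLeft,
            Subgroup.mul_mem_cancel_left _ n.2]
        · show _ = ψ ((n : D) * y) * ev ν ((n : D) * y) * conj (ψ ((n : D) * y))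
          rw [map_mul, hevN, one_mul]
          simp only [F, ψ, Subgroup.coe_mul]
          ring
      rw [Nat.card_eq_fintype_card, ← nsmul_eq_mul, ← Finset.card_univ, ← Finset.sum_const,
        Finset.sum_congr rfl fun n _ => h1 n, Finset.sum_comm, Finset.mul_sum]
      refine Finset.sum_congr rfl fun y hy => ?_
      rw [← Finset.mul_sum, mul_comm]
      congr 1
      have hyG : (y : Γ) ∉ G := fun hh => (Finset.mem_filter.1 hy).2 (hDG y y.2 hh)
      rw [Finset.card_univ, ← Nat.card_eq_fintype_card,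
        Nat.card_congr (Subgroup.subgroupOfEquivOfLe hND).toEquiv, ← hcoset _ hyG]
      exact Fintype.sum_equiv (Subgroup.subgroupOfEquivOfLe hND).toEquiv _ _ fun n => rfl
    have hP' : ∑ y ∈ P, ψ y * ev ν y * conj (ψ y) = ∑ y ∈ P, ev ν y :=
      mul_left_cancel₀ (Nat.cast_ne_zero.2 Nat.card_pos.ne') hP
    have hsplit : ∀ g : D → ℂ, ∑ y, g y = ∑ n : N.subgroupOf D, g n + ∑ y ∈ P, g y := fun g => by
      rw [← hsumN, Finset.sum_filter_add_sum_filter_not]
    have hev : ∑ y : D, ev ν y = if ν = 1 then (Nat.card D : ℂ) else 0 := by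
      split_ifs with hν
      · subst hν
        simp [ev, Nat.card_eq_fintype_card]
      · refine sum_hom_units_eq_zero (ev ν) fun hh => hν (MonoidHom.ext fun q => Units.ext ?_)
        obtain ⟨y, rfl⟩ := QuotientGroup.mk_surjective q
        exact DFunLike.congr_fun hh y
    have hev' := hsplit (fun y => ev ν y)
    simp only [hevN, Finset.sum_const, Finset.card_univ, nsmul_eq_mul, mul_one, hev,
      ← Nat.card_eq_fintype_card] at hev'
    rw [hsplit, hNN, hP', eq_sub_of_add_eq' hev'.symm]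
    split_ifs
    · rw [← (N.subgroupOf D).card_mul_index, Nat.cast_mul]; ring
    · ring
  have hNd0 : (Nat.card (N.subgroupOf D) : ℂ) ≠ 0 := Nat.cast_ne_zero.2 Nat.card_pos.ne'
  have hint : ∀ ν : L, (G.index : ℤ) * ∑ lam, (a lam : ℤ) * a (lam * ν) =
      (e : ℤ) * e - 1 + if ν = 1 then (G.index : ℤ) else 0 := fun ν => by
    have := mul_left_cancel₀ hNd0 (hcorr ν)
    split_ifs at this ⊢ <;> exact_mod_cast this
  have hn2 : 2 ≤ Fintype.card L := by
    rw [← Nat.card_eq_fintype_card, hLcard]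
    have h1 : G.index ≠ 0 := Subgroup.index_ne_zero_of_finite
    have h2 : G.index ≠ 1 := fun hh => hGlt (Subgroup.index_eq_one.1 hh)
    omega
  have hG0 : (G.index : ℤ) ≠ 0 := by exact_mod_cast Subgroup.index_ne_zero_of_finite
  have key := pm_one_of_autocorr hn2 (fun lam => (a lam : ℤ)) fun ν hν => by
    refine mul_left_cancel₀ hG0 ?_
    have h1 := hint 1
    have h2 := hint ν
    rw [if_pos rfl] at h1
    rw [if_neg hν] at h2
    rw [show ∑ lam, (a lam : ℤ) * a (lam * 1) = ∑ lam, (a lam : ℤ) * a lam from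
      Finset.sum_congr rfl fun l _ => by rw [show l * 1 = l from mul_one l]] at h1
    have h3 : ∑ lam, (a (lam * ν) : ℤ) * a (lam * ν) = ∑ lam, (a lam : ℤ) * a lam :=
      Fintype.sum_equiv (Equiv.mulRight ν) _ _ fun lam => rfl
    have h4 : ∑ lam, ((a lam : ℤ) - a (lam * ν)) ^ 2 = ∑ lam, (a lam : ℤ) * a lam +
        ∑ lam, (a (lam * ν) : ℤ) * a (lam * ν) - 2 * ∑ lam, (a lam : ℤ) * a (lam * ν) := by
      rw [Finset.mul_sum, ← Finset.sum_add_distrib, ← Finset.sum_sub_distrib]
      exact Finset.sum_congr rfl fun lam _ => by ring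
    rw [h4, h3]
    linear_combination 2 * h1 - 2 * h2
  rw [← Nat.card_eq_fintype_card, hLcard,
    show ∑ lam, (a lam : ℤ) = (e : ℤ) by exact_mod_cast hasum] at key
  exact key

end Cfsg.Agent.FrobeniusSection
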