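/-
The canonical fixed character over a fixed character of a normal subgroup of odd index.

Main results: `Inverts`, `pow_mul_mem`, `existsUnique_fixed`, `exists_fixed_hom`,
`exists_hom_primePow`, `exists_fixed_extension`.
-/
import Cfsg.Agent.Lib.CharApp.Clifford
import Cfsg.Agent.Lib.CharExtend.Basic
import Cfsg.Agent.Lib.GaloisPow.Twist
import Cfsg.Agent.Lib.Char.Linear
import Cfsg.Agent.Lib.Transfer.Residual

set_option autoImplicit false
set_option linter.style.haveILetI false

open scoped ComplexConjugate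

namespace Cfsg.Agent.OddFixed

open Cfsg Cfsg.Agent.CharExtend

universe u

variable {G : Type u} [Group G] {k : ℕ}

/-- `g ↦ g ^ k` is prime to the order and inverts the elements of odd order. -/
structure Inverts (G : Type u) [Group G] (k : ℕ) : Prop where
  coprime : Nat.Coprime k (Nat.card G)
  odd : ∀ g : G, Odd (orderOf g) → g ^ k = g⁻¹

theorem Inverts.subgroup (h : Inverts G k) (H : Subgroup G) : Inverts H k := by
  refine ⟨h.coprime.coprime_dvd_right H.card_subgroup_dvd_card, fun x hx => Subtype.ext ?_⟩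
  rw [SubgroupClass.coe_pow, InvMemClass.coe_inv]
  exact h.odd x (by rwa [← Subgroup.orderOf_coe] at hx)

section index

variable [Finite G] (N : Subgroup G) [hN : N.Normal] (hidx : Odd N.index)
include hidx

theorem pow_mul_mem (h : Inverts G k) (g : G) : g ^ k * g ∈ N := by
  set o := orderOf g
  have ho : o ≠ 0 := (orderOf_pos g).ne'
  set a := o.factorization 2
  have hodd : Odd (orderOf (g ^ (2 ^ a))) := by
    refine Odd.of_dvd_nat (n := ordCompl[2] o) ?_ (orderOf_dvd_of_pow_eq_one ?_)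
    · exact (Nat.coprime_two_left).1 (Nat.coprime_ordCompl Nat.prime_two ho)
    · rw [← pow_mul, Nat.ordProj_mul_ordCompl_eq_self, pow_orderOf_eq_one]
  have h1 : (g ^ k * g) ^ (2 ^ a) = 1 := by
    rw [Commute.mul_pow (Commute.pow_self g k), ← pow_mul, mul_comm k, pow_mul, h.odd _ hodd,
      inv_mul_cancel]
  refine Transfer.mem_of_pow_mem_of_coprime (a := 2 ^ a) (b := N.index)
    ((Nat.coprime_two_left.2 hidx).pow_left a) ?_ (N.pow_index_mem _)
  rw [h1]; exact N.one_mem

theorem quot_pow (h : Inverts G k) (g : G) : ((g ^ k : G) : G ⧸ N) = (g : G ⧸ N)⁻¹ := by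
  rw [eq_inv_iff_mul_eq_one, ← QuotientGroup.mk_mul]
  exact (QuotientGroup.eq_one_iff _).2 (pow_mul_mem N hidx h g)

omit hN in
theorem eq_one_of_conj_inv [N.Normal] {c q : G ⧸ N} (h : c * q * c⁻¹ = q⁻¹) : q = 1 := by
  have hodd : ∀ x : G ⧸ N, ∃ m, x = (x ^ 2) ^ m := by
    intro x
    have ho : Odd (orderOf x) := Odd.of_dvd_nat (by rwa [← N.index_eq_card]) (orderOf_dvd_natCard x)
    obtain ⟨m, hm⟩ := ho
    refine ⟨m + 1, ?_⟩
    rw [← pow_mul, show 2 * (m + 1) = orderOf x + 1 by omega, pow_succ, pow_orderOf_eq_one, one_mul]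
  have hc2 : Commute (c ^ 2) q := by
    show c ^ 2 * q = q * c ^ 2
    have h1 : c * q = q⁻¹ * c := by rw [← h]; group
    have h2 : c * q⁻¹ = q * c := by
      have h3 := congrArg (fun x => x⁻¹) h
      simp only [mul_inv_rev, inv_inv] at h3
      rw [show c * q⁻¹ = c * (q⁻¹ * c⁻¹) * c by group, h3]
    rw [pow_two, mul_assoc, h1, ← mul_assoc, h2, mul_assoc]
  obtain ⟨m, hm⟩ := hodd c
  have hc : Commute c q := hm ▸ hc2.pow_left m
  have h1 : q = q⁻¹ := by
    conv_lhs => rw [show q = c * q * c⁻¹ by rw [hc.eq, mul_inv_cancel_right]]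
    exact h
  obtain ⟨m', hm'⟩ := hodd q
  rw [hm', show q ^ 2 = 1 by rw [pow_two]; nth_rw 2 [h1]; exact mul_inv_cancel q, one_pow]

end index

section unique

variable [Fintype G] (N : Subgroup G) [hN : N.Normal] [Fintype N]

theorem sum_indFun_mul (θ : N → ℂ) (χ : IrrCharacter G) (x : G) :
    ∑ z : G, conj (indFun N θ z) * (χ : G → ℂ) (z * x) =
      (Nat.card G : ℂ) * classInner (fun n : N => (χ : G → ℂ) n) θ / (χ : G → ℂ) 1 *
        (χ : G → ℂ) x := by
  obtain ⟨d, ρ, hρ, hρχ⟩ := χ.2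
  set f : G → ℂ := fun z => conj (indFun N θ z)
  have hf : IsClassFunction G f := fun g h =>
    congrArg conj (Char.indFun_isClassFunction N θ g h)
  have hop := Char.groupSumOp_eq_smul ρ hf
  have h1 : ∑ z, f z * ρ.character z =
      (Nat.card G : ℂ) * classInner (fun n : N => (χ : G → ℂ) n) θ := by
    rw [← Char.frobenius_reciprocity' N θ (Char.IsIrrCharacter.isClassFunction χ.2),
      Char.card_mul_classInner, ← hρχ]
    exact Finset.sum_congr rfl fun z _ => mul_comm _ _
  have h2 : LinearMap.trace ℂ _ (Char.groupSumOp ρ f * ρ x) =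
      ∑ z : G, f z * ρ.character (z * x) := by
    simp only [Char.groupSumOp, Finset.sum_mul, smul_mul_assoc, ← map_mul, map_sum, map_smul,
      smul_eq_mul]
    rfl
  rw [← hρχ] at h1 ⊢
  refine Eq.trans h2.symm ?_
  rw [hop, ← Module.End.one_eq_id, smul_mul_assoc, one_mul, map_smul, smul_eq_mul, h1,
    Representation.char_one]
  rfl

variable (h : Inverts G k) (hidx : Odd N.index) (θ : IrrCharacter N)
  (hθ : ∀ n : N, (θ : N → ℂ) (n ^ k) = (θ : N → ℂ) n)
include h hidx hθ

/-- Exactly one fixed character lies over a fixed character. -/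
theorem existsUnique_fixed :
    ∃! χ : IrrCharacter G, classInner (fun n : N => (χ : G → ℂ) n) (θ : N → ℂ) ≠ 0 ∧
      ∀ g : G, (χ : G → ℂ) (g ^ k) = (χ : G → ℂ) g := by
  classical
  haveI := Fintype.ofFinite (IrrCharacter G)
  choose e he using fun χ : IrrCharacter G =>
    Char.IsCharacter.classInner_nat (Char.IsCharacter.restrict
      (Char.IsIrrCharacter.isCharacter χ.2) N) (Char.IsIrrCharacter.isCharacter θ.2)
  set T := CharApp.inertia N (θ : N → ℂ)
  have ht0 : (T.index : ℂ) ≠ 0 := Nat.cast_ne_zero.2 Subgroup.index_ne_zero_of_finite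
  have hθ0 : (θ : N → ℂ) 1 ≠ 0 := Char.IsIrrCharacter.apply_one_ne_zero θ.2
  have hdeg : ∀ χ, e χ ≠ 0 → (χ : G → ℂ) 1 = (e χ : ℂ) * T.index * (θ : N → ℂ) 1 := fun χ hχ => by
    rw [← he χ]
    exact CharApp.restrict_degree N χ.2 θ.2 (by rw [he]; exact Nat.cast_ne_zero.2 hχ)
  set O : Finset (IrrCharacter G) := Finset.univ.filter fun χ => e χ ≠ 0
  -- off `N` the kernel vanishes
  have hoff : ∀ g : G, g ∉ N →
      ∑ χ ∈ O, (χ : G → ℂ) (g ^ k) * conj ((χ : G → ℂ) g) = 0 := by
    intro g hg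
    have h1 : ∑ χ : IrrCharacter G, (Nat.card G : ℂ) * (e χ : ℂ) / (χ : G → ℂ) 1 *
        ((χ : G → ℂ) (g ^ k) * conj ((χ : G → ℂ) g)) = 0 := by
      have : ∀ χ : IrrCharacter G, (Nat.card G : ℂ) * (e χ : ℂ) / (χ : G → ℂ) 1 *
          ((χ : G → ℂ) (g ^ k) * conj ((χ : G → ℂ) g)) =
          ∑ z : G, conj (indFun N (θ : N → ℂ) z) *
            ((χ : G → ℂ) (z * g ^ k) * conj ((χ : G → ℂ) g)) := fun χ => by
        rw [← he χ, ← mul_assoc, ← sum_indFun_mul N (θ : N → ℂ) χ (g ^ k), Finset.sum_mul]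
        exact Finset.sum_congr rfl fun z _ => by ring
      rw [Finset.sum_congr rfl fun χ _ => this χ, Finset.sum_comm]
      refine Finset.sum_eq_zero fun z _ => ?_
      rw [← Finset.mul_sum, Char.column_orth]
      by_cases hz : z ∈ N
      · rw [if_neg, mul_zero]
        intro hc
        obtain ⟨c, hc⟩ := isConj_iff.1 hc
        refine hg ((QuotientGroup.eq_one_iff g).1 (inv_eq_one.1
          (eq_one_of_conj_inv N hidx (c := (c : G ⧸ N)) ?_)))
        have h2 := congrArg (fun x : G => (x : G ⧸ N)) hc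
        simp only [QuotientGroup.mk_mul, QuotientGroup.mk_inv, (QuotientGroup.eq_one_iff z).2 hz,
          one_mul, quot_pow N hidx h g] at h2
        rw [h2, inv_inv]
      · rw [CliffordChar.indFun_not_mem N _ hz, map_zero, zero_mul]
    have h3 : ∀ χ : IrrCharacter G, (Nat.card G : ℂ) * (e χ : ℂ) / (χ : G → ℂ) 1 =
        if χ ∈ O then (Nat.card G : ℂ) / (T.index * (θ : N → ℂ) 1) else 0 := fun χ => by
      by_cases hχ : e χ = 0
      · simp [O, hχ]
      · rw [if_pos (by simp [O, hχ]), hdeg χ hχ]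
        have : (e χ : ℂ) ≠ 0 := Nat.cast_ne_zero.2 hχ
        field_simp
    simp only [h3, ite_mul, zero_mul] at h1
    rw [← Finset.sum_filter, Finset.filter_mem_eq_inter, Finset.univ_inter, ← Finset.mul_sum] at h1
    exact (mul_eq_zero.1 h1).resolve_left (div_ne_zero (Nat.cast_ne_zero.2 Nat.card_pos.ne')
      (mul_ne_zero ht0 hθ0))
  -- on `N` the characters over `θ` are fixed
  have hon : ∀ χ ∈ O, ∀ n : N, (χ : G → ℂ) ((n : G) ^ k) = (χ : G → ℂ) n := by
    intro χ hχ n
    have h1 := CliffordChar.restrict_eq N χ.2 θ.2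
      (by rw [he]; exact Nat.cast_ne_zero.2 (Finset.mem_filter.1 hχ).2)
    have hn := congrFun h1 (n ^ k)
    have hn' := congrFun h1 n
    simp only [SubgroupClass.coe_pow, Pi.smul_apply] at hn
    simp only [Pi.smul_apply] at hn'
    rw [hn, hn']
    congr 1
    simp only [CliffordChar.orbitSum, Finset.sum_apply, CliffordChar.conjFun, map_pow]
    exact Finset.sum_congr rfl fun x _ => hθ _
  have hnorm : ∀ χ ∈ O, classInner (fun n : N => (χ : G → ℂ) n) (fun n : N => (χ : G → ℂ) n) =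
      (e χ : ℂ) * (e χ : ℂ) * T.index := by
    intro χ hχ
    have hne : classInner (fun n : N => (χ : G → ℂ) n) (θ : N → ℂ) ≠ 0 := by
      rw [he]; exact Nat.cast_ne_zero.2 (Finset.mem_filter.1 hχ).2
    have horb : classInner (fun n : N => (χ : G → ℂ) n) (CliffordChar.orbitSum N (θ : N → ℂ)) =
        (Nat.card G : ℂ) * (e χ : ℂ) := by
      rw [CliffordChar.orbitSum, Char.classInner_sum_right,
        Finset.sum_congr rfl fun x _ => CliffordChar.classInner_restrict_conjFun N
          (Char.IsIrrCharacter.isClassFunction χ.2) x (θ : N → ℂ), he, Finset.sum_const,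
        Finset.card_univ, nsmul_eq_mul, ← Nat.card_eq_fintype_card]
    conv_lhs => arg 2; rw [CliffordChar.restrict_eq N χ.2 θ.2 hne]
    rw [Char.classInner_smul_right, horb, he, CharApp.classInner_orbitSum_self N θ.2, map_div₀,
      Complex.conj_natCast, Complex.conj_natCast, CharApp.card_eq_index_mul T]
    have : (Nat.card T : ℂ) ≠ 0 := Nat.cast_ne_zero.2 Nat.card_pos.ne'
    field_simp
    rfl
  have hind : ∑ χ ∈ O, (e χ : ℂ) * (χ : G → ℂ) 1 = (N.index : ℂ) * (θ : N → ℂ) 1 := by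
    have h0 : ∀ χ : IrrCharacter G,
        classInner (indFun N (θ : N → ℂ)) (χ : G → ℂ) = (e χ : ℂ) := fun χ => by
      rw [Char.frobenius_reciprocity N _ (Char.IsIrrCharacter.isClassFunction χ.2),
        ← Char.classInner_conj_symm, he, Complex.conj_natCast]
    have h1 := congrFun (Char.classFunction_eq_sum
      (Char.indFun_isClassFunction N (θ : N → ℂ))) 1
    simp only [h0, Finset.sum_apply, Pi.smul_apply, smul_eq_mul, Char.indFun_one_apply] at h1
    rw [h1]
    refine Finset.sum_subset (Finset.subset_univ _) fun χ _ hχ => ?_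
    simp only [O, Finset.mem_filter, Finset.mem_univ, true_and, not_not] at hχ
    rw [hχ, Nat.cast_zero, zero_mul]
  have hsumN : ∑ χ ∈ O, (e χ : ℂ) * (e χ : ℂ) * T.index = (N.index : ℂ) := by
    refine mul_right_cancel₀ hθ0 ?_
    rw [← hind, Finset.sum_mul]
    exact Finset.sum_congr rfl fun χ hχ => by
      rw [hdeg χ (Finset.mem_filter.1 hχ).2]; ring
  -- count
  set F := O.filter fun χ : IrrCharacter G => ∀ g : G, (χ : G → ℂ) (g ^ k) = (χ : G → ℂ) g
  have hcount : (Nat.card G : ℂ) * (F.card : ℂ) = (Nat.card G : ℂ) := by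
    have h1 : ∀ χ : IrrCharacter G, (Nat.card G : ℂ) *
        (if ∀ g : G, (χ : G → ℂ) (g ^ k) = (χ : G → ℂ) g then 1 else 0) =
        ∑ g : G, (χ : G → ℂ) (g ^ k) * conj ((χ : G → ℂ) g) := fun χ => by
      rw [← Char.card_mul_classInner (fun g => (χ : G → ℂ) (g ^ k)),
        Char.classInner_irr (GaloisPow.isIrrCharacter_comp_pow h.coprime χ.2) χ.2]
      congr 1
      exact if_congr (Iff.symm funext_iff) rfl rfl
    calc (Nat.card G : ℂ) * (F.card : ℂ)
        = ∑ χ ∈ O, ∑ g : G, (χ : G → ℂ) (g ^ k) * conj ((χ : G → ℂ) g) := by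
          rw [← Finset.sum_congr rfl fun χ _ => h1 χ, ← Finset.mul_sum]
          congr 1
          rw [Finset.sum_boole]
      _ = ∑ g ∈ Finset.univ.filter (· ∈ N),
            ∑ χ ∈ O, (χ : G → ℂ) (g ^ k) * conj ((χ : G → ℂ) g) := by
          rw [Finset.sum_comm]
          refine (Finset.sum_subset (Finset.subset_univ _) fun g _ hg => hoff g ?_).symm
          simpa using hg
      _ = ∑ χ ∈ O, ∑ n : N, (χ : G → ℂ) n * conj ((χ : G → ℂ) n) := by
          rw [Finset.sum_subtype (p := fun x => x ∈ N) _ (fun x => by simp)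
            (fun g => ∑ χ ∈ O, (χ : G → ℂ) (g ^ k) * conj ((χ : G → ℂ) g)), Finset.sum_comm]
          exact Finset.sum_congr rfl fun χ hχ => Finset.sum_congr rfl fun n _ => by
            rw [hon χ hχ n]
      _ = ∑ χ ∈ O, (Nat.card N : ℂ) * ((e χ : ℂ) * (e χ : ℂ) * T.index) :=
          Finset.sum_congr rfl fun χ hχ => by rw [← hnorm χ hχ, Char.card_mul_classInner]
      _ = (Nat.card G : ℂ) := by
          rw [← Finset.mul_sum, hsumN, ← Nat.cast_mul, N.card_mul_index]
  have hF : F.card = 1 := by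
    have : (F.card : ℂ) = 1 :=
      mul_left_cancel₀ (Nat.cast_ne_zero.2 (Nat.card_pos (α := G)).ne') (by rw [mul_one]; exact hcount)
    exact_mod_cast this
  obtain ⟨χ, hχ⟩ := Finset.card_eq_one.1 hF
  have hmem : ∀ ψ : IrrCharacter G, ψ ∈ F ↔
      classInner (fun n : N => (ψ : G → ℂ) n) (θ : N → ℂ) ≠ 0 ∧
        ∀ g : G, (ψ : G → ℂ) (g ^ k) = (ψ : G → ℂ) g := fun ψ => by
    simp [F, O, he]
  exact ⟨χ, (hmem χ).1 (by simp [hχ]), fun ψ hψ => by simpa [hχ] using (hmem ψ).2 hψ⟩

end unique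

/-- An extension can be twisted into a fixed one. -/
theorem exists_fixed_hom [Fintype G] (N : Subgroup G) [hN : N.Normal] [Fintype N]
    (h : Inverts G k) (hidx : Odd N.index) {n : ℕ} (ρ : Representation ℂ N (Fin n → ℂ))
    [ρ.IsIrreducible] (hfix : ∀ x : N, ρ.character (x ^ k) = ρ.character x)
    (R : G →* EU n) (hR : ∀ x : N, R (x : G) = ρ.toHomUnits x) :
    ∃ R' : G →* EU n, (∀ x : N, R' (x : G) = ρ.toHomUnits x) ∧
      ∃ χ : IrrCharacter G, (∀ x : N, (χ : G → ℂ) x = ρ.character x) ∧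
        (∀ g : G, (χ : G → ℂ) g = LinearMap.trace ℂ _ (R' g : Module.End ℂ (Fin n → ℂ))) ∧
        ∀ g : G, (χ : G → ℂ) (g ^ k) = (χ : G → ℂ) g := by
  classical
  let σ : Representation ℂ G (Fin n → ℂ) := (Units.coeHom _).comp R
  have hσ : ∀ x : N, σ (x : G) = ρ x := fun x => by
    show ((R (x : G) : EU n) : Module.End ℂ (Fin n → ℂ)) = ρ x
    rw [hR]; rfl
  haveI : Nontrivial (Fin n → ℂ) := CharApp.nontrivial_of_irr ρ
  haveI : σ.IsIrreducible := CharApp.isIrreducible_of_forall_invariant σ fun W hW =>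
    CharApp.eq_bot_or_top_of_invariant ρ W fun x v hv => by rw [← hσ x]; exact hW x v hv
  have hσN : ∀ x : N, σ.character (x : G) = ρ.character x := fun x => by
    simp [Representation.character, hσ]
  have hres : IsIrrCharacter N (fun x : N => σ.character (x : G)) := by
    rw [funext hσN]; exact Char.isIrrCharacter_character ρ
  have hcomp := GaloisPow.isIrrCharacter_comp_pow h.coprime (Char.isIrrCharacter_character σ)
  have hne : classInner (fun x : N => σ.character ((x : G) ^ k))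
      (fun x : N => σ.character (x : G)) ≠ 0 := by
    have : (fun x : N => σ.character ((x : G) ^ k)) = fun x : N => σ.character (x : G) :=
      funext fun x => by rw [← SubgroupClass.coe_pow, hσN, hσN, hfix]
    rw [this, Char.classInner_irr_self hres]
    exact one_ne_zero
  obtain ⟨β, hβ, hβt, hφ⟩ := CharApp.gallagher_exhaustive N (Char.isIrrCharacter_character σ) hres
    hcomp hne
  have hβ1 : β 1 = 1 := by
    have h1 := congrFun hφ 1
    simp only [one_pow, Pi.mul_apply] at h1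
    exact (mul_right_eq_self₀.1 h1.symm).resolve_right
      (Char.IsIrrCharacter.apply_one_ne_zero (Char.isIrrCharacter_character σ))
  obtain ⟨l, hl⟩ := Char.exists_hom_of_degree_one (Char.IsIrrCharacter.isCharacter hβ) hβ1
  set lu := l.toHomUnits
  obtain ⟨m, hm⟩ := hidx
  set μ : G →* ℂˣ := lu ^ (m + 1)
  have hlN : ∀ x ∈ N, lu x = 1 := fun x hx => Units.ext (by
    show l x = 1
    rw [hl, hβt ⟨x, hx⟩, hβ1])
  have hlm : ∀ g, lu g ^ N.index = 1 := fun g => by
    rw [← map_pow]; exact hlN _ (N.pow_index_mem g)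
  have hμsq : ∀ g, μ g * μ g = lu g := fun g => by
    show lu g ^ (m + 1) * lu g ^ (m + 1) = lu g
    rw [← pow_add, show m + 1 + (m + 1) = N.index + 1 by omega, pow_succ, hlm, one_mul]
  have hμk : ∀ g, μ (g ^ k) = (μ g)⁻¹ := fun g => by
    rw [eq_inv_iff_mul_eq_one, ← map_mul]
    show lu (g ^ k * g) ^ (m + 1) = 1
    rw [hlN _ (pow_mul_mem N ⟨m, hm⟩ h g), one_pow]
  let R' : G →* EU n :=
    { toFun := fun g => sc n (μ g) * R g
      map_one' := by simp
      map_mul' := fun a b => by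
        rw [map_mul, map_mul, map_mul, mul_assoc, mul_assoc]
        congr 1
        rw [← mul_assoc, sc_comm, mul_assoc] }
  have hR' : ∀ x : N, R' (x : G) = ρ.toHomUnits x := fun x => by
    show sc n (lu (x : G) ^ (m + 1)) * R (x : G) = _
    rw [hlN _ x.2, one_pow, map_one, one_mul, hR]
  let σ' : Representation ℂ G (Fin n → ℂ) := (Units.coeHom _).comp R'
  have hσ' : ∀ x : N, σ' (x : G) = ρ x := fun x => by
    show ((R' (x : G) : EU n) : Module.End ℂ (Fin n → ℂ)) = ρ x
    rw [hR']; rfl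
  haveI : σ'.IsIrreducible := CharApp.isIrreducible_of_forall_invariant σ' fun W hW =>
    CharApp.eq_bot_or_top_of_invariant ρ W fun x v hv => by rw [← hσ' x]; exact hW x v hv
  have hchar : ∀ g, σ'.character g = (μ g : ℂ) * σ.character g := fun g => by
    show LinearMap.trace ℂ _ ((sc n (μ g) * R g : EU n) : Module.End ℂ (Fin n → ℂ)) = _
    rw [Units.val_mul, sc_val, smul_mul_assoc, one_mul, map_smul, smul_eq_mul]
    rfl
  refine ⟨R', hR', ⟨σ'.character, Char.isIrrCharacter_character σ'⟩,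
    fun x => by simp [Representation.character, hσ'], fun g => rfl, fun g => ?_⟩
  show σ'.character (g ^ k) = σ'.character g
  rw [hchar, hchar, hμk, show σ.character (g ^ k) = _ from congrFun hφ g, Pi.mul_apply, ← hl,
    show l g = (lu g : ℂ) from rfl, ← hμsq, Units.val_inv_eq_inv_val, Units.val_mul]
  have : (μ g : ℂ) ≠ 0 := (μ g).ne_zero
  field_simp

/-- Irreducibility along an isomorphism. -/
theorem isIrreducible_comp {H : Type*} [Group H] {n : ℕ} (e : H ≃* G)
    (ρ : Representation ℂ G (Fin n → ℂ)) [ρ.IsIrreducible] :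
    Representation.IsIrreducible (ρ.comp e.toMonoidHom) := by
  haveI := CharApp.nontrivial_of_irr ρ
  refine CharApp.isIrreducible_of_forall_invariant _ fun W hW => ?_
  exact CharApp.eq_bot_or_top_of_invariant ρ W fun g v hv => by
    simpa using hW (e.symm g) v hv

/-- Extension through a quotient of prime power order. -/
theorem exists_hom_primePow [Finite G] (h : Inverts G k) {q : ℕ} [Fact q.Prime] (a : ℕ) :
    ∀ (N : Subgroup G) [hN : N.Normal], Odd N.index → N.index = q ^ a → ∀ {n : ℕ}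
      (ρ : Representation ℂ N (Fin n → ℂ)) [ρ.IsIrreducible],
      (∀ (g : G) (x : N), ρ.character ⟨g * x * g⁻¹, hN.conj_mem x x.2 g⟩ = ρ.character x) →
      (∀ x : N, ρ.character (x ^ k) = ρ.character x) →
      ∃ R : G →* EU n, ∀ x : N, R (x : G) = ρ.toHomUnits x := by
  classical
  haveI := Fintype.ofFinite G
  induction a with
  | zero =>
    intro N hN _ hi n ρ _ hinv _
    refine hom_of_cyclic ?_ ρ hinv
    haveI : Subsingleton (G ⧸ N) := (Nat.card_eq_one_iff_unique.1
      (by rw [← N.index_eq_card, hi, pow_zero])).1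
    exact isCyclic_of_subsingleton
  | succ a ih =>
    intro N hN hodd hi n ρ _ hinv hfix
    have hq : q.Prime := Fact.out
    have hcard : Nat.card (G ⧸ N) = q ^ (a + 1) := by rw [← N.index_eq_card, hi]
    have hQ : IsPGroup q (G ⧸ N) := IsPGroup.of_card hcard
    haveI : Nontrivial (G ⧸ N) := Finite.one_lt_card_iff_nontrivial.1
      (by rw [hcard]; exact Nat.one_lt_pow (by omega) hq.one_lt)
    haveI := hQ.center_nontrivial
    have hdvd : q ∣ Nat.card (Subgroup.center (G ⧸ N)) := by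
      obtain ⟨b, hb, hb'⟩ := (IsPGroup.nontrivial_iff_card (hQ.to_subgroup _)).1
        (inferInstance : Nontrivial (Subgroup.center (G ⧸ N)))
      rw [hb']; exact dvd_pow_self q hb.ne'
    obtain ⟨z, hz⟩ := exists_prime_orderOf_dvd_card' q hdvd
    set Z := Subgroup.zpowers (z : G ⧸ N)
    have hZn : Z.Normal := ⟨fun x hx c => by
      obtain ⟨i, rfl⟩ := Subgroup.mem_zpowers_iff.1 hx
      rw [Subgroup.mem_center_iff.1 (Subgroup.zpow_mem _ z.2 i) c, mul_inv_cancel_right]
      exact hx⟩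
    have hZcard : Nat.card Z = q := by rw [Nat.card_zpowers, Subgroup.orderOf_coe, hz]
    set N₁ := Z.comap (QuotientGroup.mk' N)
    haveI : N₁.Normal := hZn.comap _
    have hNN₁ : N ≤ N₁ := fun x hx => by
      show QuotientGroup.mk' N x ∈ Z
      rw [show QuotientGroup.mk' N x = 1 from (QuotientGroup.eq_one_iff x).2 hx]
      exact Z.one_mem
    have hrel : N.relIndex N₁ = q := by
      have := Subgroup.relIndex_comap (⊥ : Subgroup (G ⧸ N)) (QuotientGroup.mk' N) N₁
      rw [MonoidHom.comap_bot, QuotientGroup.ker_mk', Subgroup.relIndex_bot_left,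
        Subgroup.map_comap_eq_self_of_surjective (QuotientGroup.mk'_surjective N), hZcard] at this
      exact this
    have hi₁ : N₁.index = q ^ a := by
      have h1 := Subgroup.relIndex_mul_index hNN₁
      rw [hrel, hi, pow_succ'] at h1
      exact Nat.eq_of_mul_eq_mul_left hq.pos h1
    have hodd₁ : Odd N₁.index :=
      hodd.of_dvd_nat (hi₁ ▸ hi ▸ pow_dvd_pow q (Nat.le_succ a))
    haveI := Fintype.ofFinite N₁
    haveI := Fintype.ofFinite (N.subgroupOf N₁)
    let e : (N.subgroupOf N₁) ≃* N := Subgroup.subgroupOfEquivOfLe hNN₁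
    let ρ' : Representation ℂ (N.subgroupOf N₁) (Fin n → ℂ) := ρ.comp e.toMonoidHom
    haveI : ρ'.IsIrreducible := isIrreducible_comp e ρ
    have hfix' : ∀ x, ρ'.character (x ^ k) = ρ'.character x := fun x => by
      show ρ.character (e (x ^ k)) = ρ.character (e x)
      rw [map_pow, hfix]
    have hoddr : Odd (N.subgroupOf N₁).index :=
      hodd.of_dvd_nat (hrel.symm ▸ hi ▸ dvd_pow_self q (Nat.succ_ne_zero a) :
        N.relIndex N₁ ∣ N.index)
    haveI : IsCyclic (N₁ ⧸ N.subgroupOf N₁) := isCyclic_of_prime_card (p := q)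
      (by rw [← Subgroup.index_eq_card]; exact hrel)
    obtain ⟨R₀, hR₀⟩ := hom_of_cyclic inferInstance ρ' fun g x => hinv (g : G) (e x)
    obtain ⟨R₁, hR₁, χ₁, hχ₁, hχR, hχfix⟩ :=
      exists_fixed_hom (N.subgroupOf N₁) (h.subgroup N₁) hoddr ρ' hfix' R₀ hR₀
    let ρ₁ : Representation ℂ N₁ (Fin n → ℂ) := (Units.coeHom _).comp R₁
    haveI : Nontrivial (Fin n → ℂ) := CharApp.nontrivial_of_irr ρ
    haveI : ρ₁.IsIrreducible := CharApp.isIrreducible_of_forall_invariant ρ₁ fun W hW =>
      CharApp.eq_bot_or_top_of_invariant ρ' W fun x v hv => by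
        have := hW (x : N₁) v hv
        simpa [ρ₁, hR₁] using this
    have hρ₁ : ρ₁.character = (χ₁ : N₁ → ℂ) := funext fun x => (hχR x).symm
    have hinv₁ : ∀ (g : G) (x : N₁),
        ρ₁.character ⟨g * x * g⁻¹, Subgroup.Normal.conj_mem inferInstance (x : G) x.2 g⟩ =
          ρ₁.character x := by
      intro g x
      let c : MulAut N₁ := MulAut.conjNormal g
      let χ₂ : IrrCharacter N₁ := ⟨fun y => (χ₁ : N₁ → ℂ) (c y),
        Char.IsIrrCharacter.comp_equiv χ₁.2 c⟩
      have hθ' : IsIrrCharacter (N.subgroupOf N₁) ρ'.character := Char.isIrrCharacter_character ρ'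
      obtain ⟨χu, _, huniq⟩ := existsUnique_fixed (N.subgroupOf N₁) (h.subgroup N₁) hoddr
        ⟨ρ'.character, hθ'⟩ hfix'
      have e1 : χ₁ = χu := huniq χ₁ ⟨by
        rw [funext hχ₁, Char.classInner_irr_self hθ']; exact one_ne_zero, hχfix⟩
      have e2 : χ₂ = χu := huniq χ₂ ⟨by
        have : (fun y : N.subgroupOf N₁ => (χ₂ : N₁ → ℂ) y) = ρ'.character := funext fun y => by
          show (χ₁ : N₁ → ℂ) (c (y : N₁)) = _
          have hy : ((c (y : N₁) : N₁) : G) ∈ N := by
            show g * ((y : N₁) : G) * g⁻¹ ∈ N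
            exact hN.conj_mem _ y.2 g
          refine (hχ₁ ⟨c (y : N₁), hy⟩).trans ?_
          exact hinv g (e y)
        rw [this, Char.classInner_irr_self hθ']; exact one_ne_zero, fun y => by
          show (χ₁ : N₁ → ℂ) (c (y ^ k)) = (χ₁ : N₁ → ℂ) (c y)
          rw [map_pow, hχfix]⟩
      rw [hρ₁]
      exact congrFun (congrArg Subtype.val (e2.trans e1.symm)) x
    obtain ⟨R, hR⟩ := ih N₁ hodd₁ hi₁ ρ₁ hinv₁ fun x => by rw [hρ₁]; exact hχfix x
    refine ⟨R, fun x => ?_⟩
    have h1 := hR ⟨x, hNN₁ x.2⟩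
    rw [h1]
    have h2 := hR₁ ⟨⟨x, hNN₁ x.2⟩, x.2⟩
    refine Eq.trans ?_ (h2.trans ?_)
    · exact Units.ext rfl
    · exact Units.ext rfl

/-- **The canonical fixed extension.** -/
theorem exists_fixed_extension [Fintype G] (N : Subgroup G) [hN : N.Normal] [Fintype N]
    (h : Inverts G k) (hidx : Odd N.index) (θ : IrrCharacter N)
    (hθ : ∀ n : N, (θ : N → ℂ) (n ^ k) = (θ : N → ℂ) n)
    (hinv : ∀ g : G, ∀ n : N,
      (θ : N → ℂ) ⟨g * n * g⁻¹, hN.conj_mem n n.2 g⟩ = (θ : N → ℂ) n) :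
    ∃ χ : IrrCharacter G, (∀ n : N, (χ : G → ℂ) n = (θ : N → ℂ) n) ∧
      ∀ g : G, (χ : G → ℂ) (g ^ k) = (χ : G → ℂ) g := by
  classical
  obtain ⟨d, ρ, hρ, hρθ⟩ := θ.2
  have hinv' : ∀ (g : G) (x : N),
      ρ.character ⟨g * x * g⁻¹, hN.conj_mem x x.2 g⟩ = ρ.character x := by rw [hρθ]; exact hinv
  have hfix : ∀ x : N, ρ.character (x ^ k) = ρ.character x := by rw [hρθ]; exact hθ
  obtain ⟨R, hR⟩ := hom_of_local_extensions ρ hinv' fun p hp => by
    haveI := Fact.mk hp
    obtain ⟨S⟩ : Nonempty (Sylow p (G ⧸ N)) := inferInstance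
    set P := (S : Subgroup (G ⧸ N)).comap (QuotientGroup.mk' N)
    have hNP : N ≤ P := fun x hx => by
      show QuotientGroup.mk' N x ∈ (S : Subgroup (G ⧸ N))
      rw [show QuotientGroup.mk' N x = 1 from (QuotientGroup.eq_one_iff x).2 hx]
      exact one_mem _
    have hPi : P.index = (S : Subgroup (G ⧸ N)).index :=
      Subgroup.index_comap_of_surjective _ (QuotientGroup.mk'_surjective N)
    obtain ⟨a, ha⟩ := IsPGroup.iff_card.1 S.2
    have hrel : (N.subgroupOf P).index = p ^ a := by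
      have := Subgroup.relIndex_comap (⊥ : Subgroup (G ⧸ N)) (QuotientGroup.mk' N) P
      rw [MonoidHom.comap_bot, QuotientGroup.ker_mk', Subgroup.relIndex_bot_left,
        Subgroup.map_comap_eq_self_of_surjective (QuotientGroup.mk'_surjective N), ha] at this
      exact this
    have hodd : Odd (N.subgroupOf P).index :=
      hidx.of_dvd_nat (Dvd.intro _ (Subgroup.relIndex_mul_index hNP))
    let e : (N.subgroupOf P) ≃* N := Subgroup.subgroupOfEquivOfLe hNP
    haveI : Representation.IsIrreducible (ρ.comp e.toMonoidHom) := isIrreducible_comp e ρ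
    obtain ⟨S', hS'⟩ := exists_hom_primePow (h.subgroup P) a (N.subgroupOf P) hodd hrel
      (ρ.comp e.toMonoidHom) (fun g x => hinv' (g : G) (e x)) fun x => by
        show ρ.character (e (x ^ k)) = ρ.character (e x)
        rw [map_pow, hfix]
    refine ⟨P, hNP, S', ?_, fun x => ?_⟩
    · exact (hp.coprime_iff_not_dvd.2 (hPi ▸ S.not_dvd_index)).symm
    · exact (hS' ⟨⟨x, hNP x.2⟩, x.2⟩).trans (Units.ext rfl)
  obtain ⟨R', -, χ, hχ, -, hχfix⟩ := exists_fixed_hom N h hidx ρ hfix R hR
  exact ⟨χ, fun n => by rw [hχ, hρθ], hχfix⟩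

end Cfsg.Agent.OddFixed
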