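/-
The order of a `p`-group with a faithful irreducible character of given degree and field.

Main results: `orb`, `card_orb_le_finrank`, `order_bound`.
-/
import Cfsg.Agent.Lib.CharApp.DegreeSets
import Cfsg.Agent.Lib.Codegree.Basic
import Cfsg.Agent.Lib.Char.Monomial
import Cfsg.Agent.Lib.GaloisPow.Twist
import Mathlib.GroupTheory.IndexNormal

set_option autoImplicit false
set_option linter.style.haveILetI false

namespace Cfsg.Agent.CharApp.PGroupBound

open Cfsg Cfsg.Agent.Char Cfsg.Agent.CharApp.DegreeSets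

universe u

variable {G : Type u} [Group G]

/-- The Galois orbit of a class function, through powers prime to `p`. -/
def orb (p : ℕ) (χ : G → ℂ) : Set (G → ℂ) :=
  {φ | ∃ k : ℕ, k.Coprime p ∧ φ = fun g => χ (g ^ k)}

theorem coprime_card [Finite G] {p a k : ℕ} (hG : Nat.card G = p ^ a) (hk : k.Coprime p) :
    k.Coprime (Nat.card G) := hG ▸ hk.pow_right a

theorem orb_subset [Finite G] {p a : ℕ} (hG : Nat.card G = p ^ a) {χ : G → ℂ}
    (hχ : IsIrrCharacter G χ) : orb p χ ⊆ Set.range (fun φ : IrrCharacter G => (φ : G → ℂ)) := by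
  rintro φ ⟨k, hk, rfl⟩
  exact ⟨GaloisPow.powIrr (coprime_card hG hk) ⟨χ, hχ⟩, rfl⟩

theorem orb_finite [Finite G] {p a : ℕ} (hG : Nat.card G = p ^ a) {χ : G → ℂ}
    (hχ : IsIrrCharacter G χ) : (orb p χ).Finite :=
  Set.Finite.subset (Set.finite_range _) (orb_subset hG hχ)

theorem card_orb_le_finrank [Finite G] {p a : ℕ} (hG : Nat.card G = p ^ a) {χ : G → ℂ}
    (hχ : IsIrrCharacter G χ) :
    Nat.card (orb p χ) ≤ Module.finrank ℚ (IntermediateField.adjoin ℚ (Set.range χ)) := by
  classical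
  set E := IntermediateField.adjoin ℚ (Set.range χ)
  haveI : Finite (Set.range χ) := (Set.finite_range χ).to_subtype
  haveI : FiniteDimensional ℚ E := IntermediateField.finiteDimensional_adjoin (fun x hx => by
    obtain ⟨g, rfl⟩ := hx
    exact (IsCharacter.isIntegral (IsIrrCharacter.isCharacter hχ) g).tower_top)
  rw [← AlgHom.card ℚ E ℂ, ← Nat.card_eq_fintype_card]
  have hex : ∀ φ : orb p χ, ∃ σ : E →ₐ[ℚ] ℂ, ∀ g,
      (φ : G → ℂ) g = σ ⟨χ g, IntermediateField.subset_adjoin ℚ _ ⟨g, rfl⟩⟩ := by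
    rintro ⟨φ, k, hk, rfl⟩
    obtain ⟨f, hf⟩ := GaloisPow.exists_galois G (coprime_card hG hk)
    exact ⟨(f.toRingHom.toRatAlgHom).comp E.val,
      fun g => (hf χ (IsIrrCharacter.isCharacter hχ) g).symm⟩
  choose σ hσ using hex
  refine Nat.card_le_card_of_injective σ fun φ ψ e => Subtype.ext (funext fun g => ?_)
  rw [hσ φ g, hσ ψ g, e]

theorem totient_le_card_orb [Finite G] {p a : ℕ} (hp : p.Prime) (hG : Nat.card G = p ^ a)
    (ha : a ≠ 0) {l : G →* ℂ} (hl : IsIrrCharacter G (l : G → ℂ))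
    (hinj : Function.Injective l) : Nat.totient (p ^ a) ≤ Nat.card (orb p (l : G → ℂ)) := by
  classical
  haveI : IsCyclic G := isCyclic_of_injective_ringHom l hinj
  haveI : Finite (orb p (l : G → ℂ)) := (orb_finite hG hl).to_subtype
  obtain ⟨g, hg⟩ := IsCyclic.exists_ofOrder_eq_natCard (α := G)
  rw [hG] at hg
  rw [Nat.totient_eq_card_coprime, ← Nat.card_eq_finsetCard]
  let f : {k : ℕ // k ∈ (Finset.range (p ^ a)).filter (p ^ a).Coprime} → orb p (l : G → ℂ) :=
    fun k => ⟨fun x => l (x ^ (k : ℕ)), k,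
      (Nat.coprime_pow_left_iff (Nat.pos_of_ne_zero ha) _ _).1 (Finset.mem_filter.1 k.2).2 |>.symm,
      rfl⟩
  refine Nat.card_le_card_of_injective f fun i j e => Subtype.ext ?_
  have := congrFun (congrArg Subtype.val e) g
  have h1 := hinj this
  rw [pow_eq_pow_iff_modEq, hg] at h1
  exact h1.eq_of_lt_of_lt (Finset.mem_range.1 (Finset.mem_filter.1 i.2).1)
    (Finset.mem_range.1 (Finset.mem_filter.1 j.2).1)

theorem eq_one_of_kernel_pow [Finite G] {p a k : ℕ} (hG : Nat.card G = p ^ a) (hk : k.Coprime p)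
    (χ : IrrCharacter G) {g : G} :
    (χ : G → ℂ) (g ^ k) = (χ : G → ℂ) 1 ↔ g ∈ Codegree.kerSub χ := by
  obtain ⟨b, hb⟩ := (powCoprime (coprime_card hG hk).symm).surjective g
  constructor
  · intro h
    have hgk : g ^ k ∈ Codegree.kerSub χ := h
    obtain ⟨j, hj⟩ := exists_pow_eq_self_of_coprime (x := g) (n := k)
      (Nat.Coprime.coprime_dvd_right (orderOf_dvd_natCard g) (coprime_card hG hk))
    rw [← hj]
    exact pow_mem hgk j
  · exact fun h => pow_mem h k

theorem order_bound {p : ℕ} (hp : p.Prime) :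
    ∀ (a : ℕ) (P : Type u) [Group P] [Finite P], Nat.card P = p ^ a → ∀ (χ : IrrCharacter P)
      (f t : ℕ), (∀ g : P, (χ : P → ℂ) g = (χ : P → ℂ) 1 → g = 1) →
      charDegree (χ : P → ℂ) = f → Nat.card (orb p (χ : P → ℂ)) ≤ (p - 1) * p ^ t →
      (p - 1) * a ≤ (f - 1) + (p - 1) * (t + 1) * f := by
  classical
  intro a
  induction a using Nat.strong_induction_on with
  | _ a ih =>
  intro P _ _ hP χ f t hfaith hf horb
  haveI := Fact.mk hp
  haveI := Fintype.ofFinite P
  have hfpos : 0 < f := hf ▸ TwoClassChar.deg_pos χ.2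
  rcases Nat.eq_zero_or_pos a with rfl | ha
  · simp
  by_cases hf1 : f = 1
  · subst hf1
    obtain ⟨l, hl⟩ := exists_hom_of_degree_one (IsIrrCharacter.isCharacter χ.2)
      (by rw [apply_one χ.2, hf, Nat.cast_one])
    have hinj : Function.Injective l := by
      rw [injective_iff_map_eq_one]
      intro g hg
      exact hfaith g (by rw [← hl, hg, map_one])
    have h1 := totient_le_card_orb hp hP ha.ne' (l := l) (by rw [hl]; exact χ.2) hinj
    rw [hl] at h1
    have h2 := h1.trans horb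
    rw [Nat.totient_prime_pow hp ha, mul_comm (p ^ (a - 1))] at h2
    have h3 := (Nat.pow_le_pow_iff_right hp.one_lt).1
      (Nat.le_of_mul_le_mul_left h2 (Nat.sub_pos_of_lt hp.one_lt))
    rw [Nat.sub_self, zero_add, mul_one]
    exact Nat.mul_le_mul_left _ (by omega)
  -- monomiality gives a normal subgroup of index `p`
  haveI : Group.IsNilpotent P := (IsPGroup.of_card hP).isNilpotent
  obtain ⟨H, lam, hlam⟩ := monomial_of_isNilpotent χ.2
  have hHidx : H.index = f := by
    have h1 := apply_one χ.2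
    rw [hf, hlam, indFun_one_apply, map_one, Units.val_one, mul_one, Nat.cast_inj] at h1
    exact h1
  obtain ⟨n, hn, hHn⟩ := (Nat.dvd_prime_pow hp).1 (hP ▸ H.card_subgroup_dvd_card)
  have hna : n ≤ a - 1 := by
    by_contra hh
    obtain rfl : n = a := by omega
    have := H.card_mul_index
    rw [hHn, hP, hHidx] at this
    exact hf1 (by nlinarith [pow_pos hp.pos n])
  obtain ⟨N, hNcard, hHN⟩ := Sylow.exists_subgroup_card_pow_prime_le p (m := a - 1)
    (hP ▸ pow_dvd_pow p (Nat.sub_le a 1)) H hHn hna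
  have hNidx : N.index = p := by
    have h1 := N.card_mul_index
    rw [hNcard, hP] at h1
    refine Nat.eq_of_mul_eq_mul_left (pow_pos hp.pos (a - 1)) (h1.trans ?_)
    rw [← pow_succ, Nat.sub_add_cancel ha]
  haveI hNn : N.Normal := Subgroup.normal_of_index_eq_minFac_card (by
    rw [hNidx, hP, Nat.pow_minFac ha.ne', hp.minFac_eq])
  haveI := Fintype.ofFinite N
  have hvan : ∀ g ∉ N, (χ : P → ℂ) g = 0 := by
    intro g hg
    rw [hlam, Cfsg.indFun, Finset.sum_eq_zero (fun x _ => extendByZero_not_mem H _ fun hx => hg ?_),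
      mul_zero]
    have := hNn.conj_mem _ (hHN hx) x
    simpa [mul_assoc] using this
  -- the constituent `θ`
  obtain ⟨θ, hθ⟩ := exists_constituent (IsCharacter.restrict (IsIrrCharacter.isCharacter χ.2) N)
    (by rw [OneMemClass.coe_one, apply_one χ.2]
        exact Nat.cast_ne_zero.2 (TwoClassChar.deg_pos χ.2).ne')
  obtain ⟨e, he0, -, hdeg, hself⟩ := degree_over N χ.2 θ.2 hθ
  have hres : classInner (fun n : N => (χ : P → ℂ) n) (fun n : N => (χ : P → ℂ) n) = (p : ℂ) := by
    have h1 := classInner_irr_self χ.2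
    rw [classInner, inv_mul_eq_iff_eq_mul₀ (Nat.cast_ne_zero.2 Nat.card_pos.ne'), mul_one] at h1
    rw [classInner, inv_mul_eq_iff_eq_mul₀ (Nat.cast_ne_zero.2 Nat.card_pos.ne'), ← Nat.cast_mul,
      ← hNidx, N.card_mul_index, ← h1]
    rw [← Finset.sum_filter_of_ne (p := fun g : P => g ∈ N) (s := Finset.univ)]
    · exact (Finset.sum_subtype _ (fun x => by simp)
        (fun g : P => (χ : P → ℂ) g * (starRingEnd ℂ) ((χ : P → ℂ) g))).symm
    · intro g _ hg0
      by_contra hgN
      exact hg0 (by rw [hvan g hgN, zero_mul])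
  rw [hres] at hself
  have hee : p = e ^ 2 * (inertia N (θ : N → ℂ)).index := by exact_mod_cast hself
  have he1 : e = 1 := by
    have hd : e ∣ p := by
      rw [hee]
      exact (dvd_pow_self e two_ne_zero).trans (dvd_mul_right _ _)
    rcases (Nat.dvd_prime hp).1 hd with h1 | h1
    · exact h1
    · exfalso
      have h2 : p ^ 2 ∣ p := ⟨_, h1 ▸ hee⟩
      exact absurd (Nat.le_of_dvd hp.pos h2) (not_le.2 (lt_self_pow₀ hp.one_lt (by norm_num)))
  subst he1
  rw [one_pow, one_mul] at hee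
  rw [hf, one_mul, ← hee] at hdeg
  set f' := charDegree (θ : N → ℂ) with hf'
  -- `χ` is the only character over `θ` or a Galois twist of `θ`
  have hPN : Nat.card N = p ^ (a - 1) := hNcard
  have huniq : ∀ χ' : P → ℂ, IsIrrCharacter P χ' →
      classInner (fun n : N => χ' n) (θ : N → ℂ) ≠ 0 → χ' = χ := by
    intro χ' hχ' h'
    have h1 : classInner (indFun N (θ : N → ℂ)) (χ : P → ℂ) ≠ 0 := by
      rw [frobenius_reciprocity N _ (IsIrrCharacter.isClassFunction χ.2), ← classInner_conj_symm,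
        map_ne_zero]
      exact hθ
    have h2 : classInner (indFun N (θ : N → ℂ)) χ' ≠ 0 := by
      rw [frobenius_reciprocity N _ (IsIrrCharacter.isClassFunction hχ'), ← classInner_conj_symm,
        map_ne_zero]
      exact h'
    have h3 := eq_of_constituent_of_degree (IsCharacter.indFun N (IsIrrCharacter.isCharacter θ.2))
      χ.2 h1 (a := f)
      (by rw [indFun_one_apply, apply_one θ.2, hNidx, hdeg, Nat.cast_mul])
      (by rw [apply_one χ.2, hf])
    by_contra hne
    rw [h3] at h2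
    exact h2 (classInner_irr_of_ne χ.2 hχ' (Ne.symm hne))
  let tw : ℕ → (P → ℂ) → (P → ℂ) := fun k φ g => φ (g ^ k)
  let twN : ℕ → (N → ℂ) → (N → ℂ) := fun k φ n => φ (n ^ k)
  have hover : ∀ k : ℕ, k.Coprime p →
      classInner (fun n : N => (χ : P → ℂ) ((n : P) ^ k)) (twN k (θ : N → ℂ)) ≠ 0 := by
    intro k hk
    have hco := coprime_card hPN hk
    have e1 : classInner (fun n : N => (χ : P → ℂ) ((n : P) ^ k)) (twN k (θ : N → ℂ)) =
        classInner (fun n : N => (χ : P → ℂ) n) (θ : N → ℂ) := by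
      simp only [classInner, twN]
      congr 1
      exact Fintype.sum_equiv (powCoprime hco.symm) _ _ fun n => by
        simp only [powCoprime_apply, Subgroup.coe_pow]
    rw [e1]; exact hθ
  -- the map between the orbits
  have hmap : ∀ k l : ℕ, k.Coprime p → l.Coprime p → twN k (θ : N → ℂ) = twN l (θ : N → ℂ) →
      tw k (χ : P → ℂ) = tw l (χ : P → ℂ) := by
    intro k l hk hl e
    obtain ⟨b, hb⟩ : ∃ b : ℕ, ∀ g : P, (g ^ b) ^ l = g := by
      obtain ⟨b, hb⟩ := Nat.exists_mul_mod_eq_one_of_coprime (hk := Nat.one_lt_pow ha.ne' hp.one_lt)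
        (hl.pow_right a)
      refine ⟨b, fun g => ?_⟩
      rw [← pow_mul, mul_comm, ← pow_mod_natCard, hP, hb.2, pow_one]
    have hbk : (b * k).Coprime (Nat.card P) := by
      have hbc : b.Coprime p := by
        by_contra hh
        rw [Nat.coprime_comm, hp.coprime_iff_not_dvd, not_not] at hh
        obtain ⟨g, hg⟩ := exists_prime_orderOf_dvd_card' (G := P) p
          (hP ▸ dvd_pow_self p ha.ne')
        have := hb g
        obtain ⟨c, rfl⟩ := hh
        rw [pow_mul, ← hg, pow_orderOf_eq_one, one_pow, one_pow] at this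
        rw [← this, orderOf_one] at hg
        exact hp.ne_one hg.symm
      exact coprime_card hP (hbc.mul_left hk)
    -- the `b * k` twist of `χ` lies over `θ`
    have h1 : tw (b * k) (χ : P → ℂ) = χ := by
      refine huniq _ (GaloisPow.powIrr hbk χ).2 ?_
      have e2 : twN (b * k) (θ : N → ℂ) = (θ : N → ℂ) := by
        funext n
        have h3 := congrFun e (n ^ b)
        simp only [twN] at h3 ⊢
        rw [pow_mul, h3]
        exact congrArg _ (Subtype.ext (by simp only [Subgroup.coe_pow]; exact hb n))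
      have h4 := hover (b * k) (by
        rw [hP] at hbk
        exact (Nat.coprime_pow_right_iff ha _ _).1 hbk)
      rw [e2] at h4
      exact h4
    funext g
    have h2 := congrFun h1 (g ^ l)
    simp only [tw] at h2 ⊢
    rw [← h2, pow_mul, show (g ^ l) ^ b = g by rw [← pow_mul, mul_comm, pow_mul, hb]]
  haveI : Finite (orb p (χ : P → ℂ)) := (orb_finite hP χ.2).to_subtype
  haveI : Finite (orb p (θ : N → ℂ)) := (orb_finite hPN θ.2).to_subtype
  choose kk hkk1 hkk2 using fun φ : orb p (θ : N → ℂ) => φ.2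
  let F : orb p (θ : N → ℂ) → orb p (χ : P → ℂ) := fun φ => ⟨tw (kk φ) χ, kk φ, hkk1 φ, rfl⟩
  have hθK : ∀ m : ℕ, Nat.card (N ⧸ Codegree.kerSub θ) = p ^ m → ∀ t' : ℕ,
      Nat.card (orb p (θ : N → ℂ)) ≤ (p - 1) * p ^ t' →
      (p - 1) * m ≤ (f' - 1) + (p - 1) * (t' + 1) * f' := by
    intro m hm t' ht'
    obtain ⟨ψ, hψ⟩ := Codegree.exists_quot θ (Codegree.kerSub θ) le_rfl
    have hma : m < a := by
      have h1 : p ^ m ∣ p ^ (a - 1) := by
        rw [← hm, ← hPN]; exact (Codegree.kerSub θ).card_quotient_dvd_card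
      have := (Nat.pow_dvd_pow_iff_le_right hp.one_lt).1 h1
      omega
    refine ih m hma _ hm ψ f' t' ?_ ?_ (le_trans ?_ ht')
    · intro x hx
      induction x using QuotientGroup.induction_on with
      | H g =>
        rw [hψ g, ← QuotientGroup.mk_one, hψ 1] at hx
        exact (QuotientGroup.eq_one_iff g).2 hx
    · simp only [charDegree, hf']
      rw [← QuotientGroup.mk_one, hψ 1]
    · have hsurj : ∀ φ : orb p (ψ : N ⧸ Codegree.kerSub θ → ℂ), ∃ φ' : orb p (θ : N → ℂ),
          ∀ n : N, (φ' : N → ℂ) n = (φ : N ⧸ Codegree.kerSub θ → ℂ) n := by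
        rintro ⟨φ, k, hk, rfl⟩
        exact ⟨⟨_, k, hk, rfl⟩, fun n => by
          show (θ : N → ℂ) (n ^ k) = _
          rw [← hψ, QuotientGroup.mk_pow]⟩
      choose R hR using hsurj
      refine Nat.card_le_card_of_injective R fun φ φ' e => Subtype.ext (funext fun x => ?_)
      induction x using QuotientGroup.induction_on with
      | H g => rw [← hR φ g, ← hR φ' g, e]
  obtain ⟨m, -, hm⟩ : ∃ m, m ≤ a - 1 ∧ Nat.card (N ⧸ Codegree.kerSub θ) = p ^ m :=
    (Nat.dvd_prime_pow hp).1 (hPN ▸ (Codegree.kerSub θ).card_quotient_dvd_card)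
  have hf'pos : 0 < f' := TwoClassChar.deg_pos θ.2
  have hp2 := hp.two_le
  obtain ⟨q, rfl⟩ : ∃ q, p = q + 1 := ⟨p - 1, by omega⟩
  by_cases hinj : Function.Injective F
  · -- the field of `θ` is no larger
    have h1 := hθK m hm t ((Nat.card_le_card_of_injective F hinj).trans horb)
    -- conjugate kernels meet trivially
    let K : P ⧸ N → Subgroup N := fun c =>
      (Codegree.kerSub θ).comap (MulAut.conjNormal (c.out : P) : MulAut N).toMonoidHom
    have hKidx : ∀ c, (K c).index = (q + 1) ^ m := fun c => by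
      rw [Subgroup.index_comap_of_surjective _ (MulEquiv.surjective _), Subgroup.index_eq_card, hm]
    have hbot : (⨅ c, K c) = ⊥ := by
      rw [eq_bot_iff]
      intro n hn
      rw [Subgroup.mem_iInf] at hn
      have hval : ∀ x : P, CliffordChar.conjFun N x (θ : N → ℂ) n = (θ : N → ℂ) 1 := by
        intro x
        set c : P ⧸ N := ((x⁻¹ : P) : P ⧸ N)
        have hy : (c.out)⁻¹ * x⁻¹ ∈ N := by
          rw [← QuotientGroup.eq, QuotientGroup.out_eq']
        set y : N := ⟨(c.out)⁻¹ * x⁻¹, hy⟩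
        have hmem : (MulAut.conjNormal (c.out : P) : MulAut N) n ∈ Codegree.kerSub θ := hn c
        rw [CliffordChar.conjFun]
        have e : MulAut.conjNormal x⁻¹ n =
            (MulAut.conjNormal (c.out : P) : MulAut N) (y * n * y⁻¹) := by
          apply Subtype.ext
          simp only [MulAut.conjNormal_apply, Subgroup.coe_mul, InvMemClass.coe_inv, y]
          group
        rw [e, map_mul, map_mul, map_inv]
        exact TwoClassChar.char_conj θ.2 _ _ |>.trans hmem
      have hres1 := CliffordChar.restrict_eq N χ.2 θ.2 hθ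
      have hn1 := congrFun hres1 n
      have h11 := congrFun hres1 1
      simp only [Pi.smul_apply, smul_eq_mul, CliffordChar.orbitSum, Finset.sum_apply,
        conjFun_apply_one] at hn1 h11
      rw [Finset.sum_congr rfl fun x _ => hval x, ← h11] at hn1
      rw [Subgroup.mem_bot]
      exact Subtype.ext (hfaith _ (hn1.trans (by simp)))
    have h2 := Subgroup.index_iInf_le K
    rw [hbot, Subgroup.index_bot, hPN, Finset.prod_congr rfl fun c _ => hKidx c,
      Finset.prod_const, Finset.card_univ, ← Nat.card_eq_fintype_card, ← N.index_eq_card, hNidx,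
      ← pow_mul] at h2
    have h3 := (Nat.pow_le_pow_iff_right hp.one_lt).1 h2
    simp only [Nat.add_sub_cancel] at h1 ⊢
    obtain ⟨g, hg⟩ : ∃ g, f' = g + 1 := ⟨f' - 1, by omega⟩
    rw [hdeg, hg]
    rw [hg, Nat.add_sub_cancel] at h1
    have h4 : (q + 1) * (g + 1) - 1 = (q + 1) * g + q := by
      have : (q + 1) * (g + 1) = (q + 1) * g + q + 1 := by ring
      omega
    rw [h4]
    have h5 : q * a ≤ q * (1 + m * (q + 1)) := Nat.mul_le_mul_left q (by omega)
    nlinarith [Nat.mul_le_mul_left (q + 1) h1]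
  -- some twist of `θ` is a proper conjugate, so the kernel of `θ` is normal
  have hker : Codegree.kerSub θ = ⊥ := by
    rw [Function.Injective] at hinj
    push Not at hinj
    obtain ⟨φ₁, φ₂, hF, hne⟩ := hinj
    have hchi : tw (kk φ₁) (χ : P → ℂ) = tw (kk φ₂) (χ : P → ℂ) := congrArg Subtype.val hF
    have h1 := hover (kk φ₁) (hkk1 φ₁)
    have h2 := hover (kk φ₂) (hkk1 φ₂)
    have hk1 := coprime_card hPN (hkk1 φ₁)
    have hk2 := coprime_card hPN (hkk1 φ₂)
    have hχ2 := (GaloisPow.powIrr (coprime_card hP (hkk1 φ₂)) χ).2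
    rw [show (fun n : N => (χ : P → ℂ) ((n : P) ^ kk φ₁)) =
      fun n : N => (GaloisPow.powIrr (coprime_card hP (hkk1 φ₂)) χ : P → ℂ) n from
        funext fun n => congrFun hchi n] at h1
    obtain ⟨x, hx⟩ := CliffordChar.constituents_conjugate N hχ2
      (GaloisPow.powIrr hk1 θ).2 (GaloisPow.powIrr hk2 θ).2 h1 h2
    -- stabilise the kernel
    have hkx : ∀ n : N, n ∈ Codegree.kerSub θ →
        (⟨x⁻¹ * n * x, hNn.conj_mem' n n.2 x⟩ : N) ∈ Codegree.kerSub θ := by
      intro n hn
      have h3 := congrFun hx n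
      have e : MulAut.conjNormal x⁻¹ n = (⟨x⁻¹ * n * x, hNn.conj_mem' n n.2 x⟩ : N) :=
        Subtype.ext (by simp)
      change (θ : N → ℂ) ((MulAut.conjNormal x⁻¹ n) ^ kk φ₁) = (θ : N → ℂ) (n ^ kk φ₂) at h3
      rw [e, (eq_one_of_kernel_pow hPN (hkk1 φ₂) θ).2 hn] at h3
      exact (eq_one_of_kernel_pow hPN (hkk1 φ₁) θ).1 h3
    have hxN : x ∉ N := by
      intro hxN
      refine hne (Subtype.ext ?_)
      rw [hkk2 φ₁, hkk2 φ₂]
      refine (funext fun n => ?_ : twN (kk φ₁) (θ : N → ℂ) = twN (kk φ₂) (θ : N → ℂ))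
      refine Eq.trans ?_ (congrFun hx n)
      show _ = (θ : N → ℂ) ((MulAut.conjNormal x⁻¹ n) ^ kk φ₁)
      have e : MulAut.conjNormal x⁻¹ n = (⟨x, hxN⟩ : N)⁻¹ * n * (⟨x, hxN⟩ : N)⁻¹⁻¹ :=
        Subtype.ext (by simp)
      rw [e, conj_pow, TwoClassChar.char_conj θ.2]
    rw [eq_bot_iff]
    intro n hn
    have hall : ∀ y : P, (⟨y⁻¹ * n * y, hNn.conj_mem' n n.2 y⟩ : N) ∈ Codegree.kerSub θ := by
      intro y
      have hcard : Nat.card (P ⧸ N) = q + 1 := by rw [← N.index_eq_card, hNidx]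
      obtain ⟨j, hj⟩ := mem_powers_of_prime_card hcard (g := (x : P ⧸ N)) (g' := (y : P ⧸ N))
        (fun e => hxN ((QuotientGroup.eq_one_iff x).1 e))
      have hyj : ∀ i : ℕ, ∀ n : N, n ∈ Codegree.kerSub θ →
          (⟨(x ^ i)⁻¹ * n * x ^ i, hNn.conj_mem' n n.2 _⟩ : N) ∈ Codegree.kerSub θ := by
        intro i
        induction i with
        | zero => intro n hn; simpa using hn
        | succ i ih =>
          intro n hn
          have := hkx _ (ih n hn)
          refine (congrArg (· ∈ Codegree.kerSub θ) (Subtype.ext ?_)).mp this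
          simp [pow_succ, mul_assoc]
      have hz : (x ^ j)⁻¹ * y ∈ N := by
        rw [← QuotientGroup.eq, QuotientGroup.mk_pow]; exact hj
      have h4 := (Codegree.kerSub_normal θ).conj_mem' _ (hyj j n hn) ⟨_, hz⟩
      refine (congrArg (· ∈ Codegree.kerSub θ) (Subtype.ext ?_)).mp h4
      simp only [Subgroup.coe_mul, InvMemClass.coe_inv]
      group
    have hres1 := CliffordChar.restrict_eq N χ.2 θ.2 hθ
    have hn1 := congrFun hres1 n
    have h11 := congrFun hres1 1
    simp only [Pi.smul_apply, smul_eq_mul, CliffordChar.orbitSum, Finset.sum_apply,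
      conjFun_apply_one] at hn1 h11
    have hval : ∀ y : P, CliffordChar.conjFun N y (θ : N → ℂ) n = (θ : N → ℂ) 1 := fun y => by
      rw [CliffordChar.conjFun, show MulAut.conjNormal y⁻¹ n =
        (⟨y⁻¹ * n * y, hNn.conj_mem' n n.2 y⟩ : N) from Subtype.ext (by simp)]
      exact hall y
    rw [Finset.sum_congr rfl fun y _ => hval y, ← h11] at hn1
    rw [Subgroup.mem_bot]
    exact Subtype.ext (hfaith _ (hn1.trans (by simp)))
  have hma : m = a - 1 := by
    rw [← Subgroup.index_eq_card, hker, Subgroup.index_bot, hPN] at hm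
    exact Nat.pow_right_injective hp.two_le hm.symm
  have horb' : Nat.card (orb (q + 1) (θ : N → ℂ)) ≤ (q + 1 - 1) * (q + 1) ^ (t + 1) := by
    haveI := Fintype.ofFinite (orb (q + 1) (θ : N → ℂ))
    haveI := Fintype.ofFinite (orb (q + 1) (χ : P → ℂ))
    have hfib : ∀ ψ : orb (q + 1) (χ : P → ℂ),
        (Finset.univ.filter fun φ => F φ = ψ).card ≤ q + 1 := by
      intro ψ
      rcases (Finset.univ.filter fun φ => F φ = ψ).eq_empty_or_nonempty with h0 | ⟨φ₀, hφ₀⟩
      · simp [h0]
      rw [Finset.mem_filter] at hφ₀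
      have hex : ∀ φ : {φ // F φ = ψ}, ∃ c : P ⧸ N,
          (φ.1 : N → ℂ) = CliffordChar.conjFun N c.out (φ₀ : N → ℂ) := by
        intro φ
        have hchi : tw (kk φ₀) (χ : P → ℂ) = tw (kk φ.1) (χ : P → ℂ) :=
          congrArg Subtype.val (hφ₀.2.trans φ.2.symm)
        have h1 := hover (kk φ₀) (hkk1 φ₀)
        have h2 := hover (kk φ.1) (hkk1 φ.1)
        rw [show (fun n : N => (χ : P → ℂ) ((n : P) ^ kk φ₀)) =
          fun n : N => (GaloisPow.powIrr (coprime_card hP (hkk1 φ.1)) χ : P → ℂ) n from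
            funext fun n => congrFun hchi n] at h1
        obtain ⟨x, hx⟩ := CliffordChar.constituents_conjugate N
          (GaloisPow.powIrr (coprime_card hP (hkk1 φ.1)) χ).2
          (GaloisPow.powIrr (coprime_card hPN (hkk1 φ₀)) θ).2
          (GaloisPow.powIrr (coprime_card hPN (hkk1 φ.1)) θ).2 h1 h2
        refine ⟨(x : P ⧸ N), ?_⟩
        obtain ⟨n₀, hn₀⟩ := QuotientGroup.mk_out_eq_mul N x
        rw [hn₀, CliffordChar.conjFun_mul]
        have hfix : CliffordChar.conjFun N (n₀ : P) (φ₀ : N → ℂ) = (φ₀ : N → ℂ) := by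
          funext n
          rw [hkk2 φ₀]
          show (θ : N → ℂ) ((MulAut.conjNormal (n₀ : P)⁻¹ n) ^ kk φ₀) = _
          rw [show MulAut.conjNormal (n₀ : P)⁻¹ n = n₀⁻¹ * n * n₀⁻¹⁻¹ from Subtype.ext (by simp),
            conj_pow, TwoClassChar.char_conj θ.2]
        rw [hfix, hkk2 φ.1, hkk2 φ₀]
        exact hx.symm
      choose c hc using hex
      have hcinj : Function.Injective c := fun φ φ' e =>
        Subtype.ext (Subtype.ext (by rw [hc φ, hc φ', e]))
      have h5 := Nat.card_le_card_of_injective c hcinj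
      rw [← N.index_eq_card, hNidx, Nat.card_eq_fintype_card, Fintype.card_subtype] at h5
      exact h5
    have h6 := Finset.card_le_mul_card_image_of_maps_to (f := F)
      (s := (Finset.univ : Finset (orb (q + 1) (θ : N → ℂ)))) (t := Finset.univ)
      (fun _ _ => Finset.mem_univ _) (q + 1) fun ψ _ => hfib ψ
    rw [Finset.card_univ, Finset.card_univ, ← Nat.card_eq_fintype_card,
      ← Nat.card_eq_fintype_card] at h6
    calc Nat.card (orb (q + 1) (θ : N → ℂ)) ≤ _ := h6
      _ ≤ (q + 1) * ((q + 1 - 1) * (q + 1) ^ t) := Nat.mul_le_mul_left _ horb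
      _ = _ := by ring
  have h1 := hθK m hm (t + 1) horb'
  simp only [Nat.add_sub_cancel] at h1 ⊢
  obtain ⟨g, hg⟩ : ∃ g, f' = g + 1 := ⟨f' - 1, by omega⟩
  rw [hdeg, hg]
  rw [hg, Nat.add_sub_cancel] at h1
  have h4 : (q + 1) * (g + 1) - 1 = (q + 1) * g + q := by
    have : (q + 1) * (g + 1) = (q + 1) * g + q + 1 := by ring
    omega
  rw [h4]
  have h5 : q * a = q + q * m := by
    rw [hma]; nth_rw 1 [show a = 1 + (a - 1) by omega]; ring
  have hq : 1 ≤ q := by omega
  have h6 : q * (g + 1) * ((t + 1) * q) ≥ 0 := Nat.zero_le _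
  nlinarith [Nat.mul_le_mul_left (q * (g + 1)) (Nat.mul_le_mul (Nat.le_add_left 1 t) hq)]

end Cfsg.Agent.CharApp.PGroupBound
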