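/-
The common-divisor graph on the degrees relative to a normal subgroup (Isaacs).

Main results: `detChar_add`, `dr`, `dvd_of_invariant`, `link_dr`, `link_prime_to`,
`conn_of_not_dvd`, `card_components_le`, `dichotomy`.
-/
import Cfsg.Agent.Lib.CharApp.Clifford
import Cfsg.Agent.Lib.CharExtend.DetExt
import Cfsg.Agent.Lib.BlocksNormal.Cover
import Cfsg.Agent.Lib.Solvable.Maximal

set_option autoImplicit false
set_option linter.style.haveILetI false

open scoped ComplexConjugate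

namespace Cfsg.Agent.RelDegree

open Cfsg Cfsg.Agent.CharExtend

attribute [-instance] MonoidHom.instPow MonoidHom.instInv MonoidHom.mul instOneMonoidHom

section det

theorem hom_mul_comm {H : Type*} [Group H] (a b : H →* ℂˣ) : a * b = b * a :=
  MonoidHom.ext fun x => mul_comm (a x) (b x)

theorem hom_mul_one {H : Type*} [Group H] (a : H →* ℂˣ) : a * 1 = a :=
  MonoidHom.ext fun x => mul_one (a x)

theorem hom_one_mul {H : Type*} [Group H] (a : H →* ℂˣ) : 1 * a = a :=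
  MonoidHom.ext fun x => one_mul (a x)

theorem hom_inv_inj {H : Type*} [Group H] {a b : H →* ℂˣ} : a⁻¹ = b⁻¹ ↔ a = b :=
  ⟨fun h => MonoidHom.ext fun x => inv_injective (DFunLike.congr_fun h x), fun h => h ▸ rfl⟩

variable {H : Type*} [Group H] [Finite H]

theorem detChar_of_character {V : Type*} [AddCommGroup V] [Module ℂ V] [FiniteDimensional ℂ V]
    (ρ : Representation ℂ H V) (g : H) : detChar ρ.character g = LinearMap.det (ρ g) := by
  set e := (Module.finBasis ℂ V).equivFun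
  rw [← Char.character_transport ρ e, detChar_character]
  exact LinearMap.det_conj (ρ g) e

theorem detChar_add {χ ψ : H → ℂ} (hχ : IsCharacter H χ) (hψ : IsCharacter H ψ) :
    detChar (χ + ψ) = detChar χ * detChar ψ := by
  obtain ⟨n, ρ, rfl⟩ := hχ
  obtain ⟨m, σ, rfl⟩ := hψ
  funext g
  rw [← Char.character_prod, Pi.mul_apply, detChar_of_character, detChar_of_character,
    detChar_of_character]
  exact LinearMap.det_prodMap (ρ g) (σ g)

theorem detChar_valHom (l : H →* ℂˣ) : detChar (valHom H l) = valHom H l := by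
  obtain ⟨n, ρ, hρ⟩ := isCharacter_valHom l
  have hn : n = 1 := by
    have h1 := congrFun hρ 1
    rw [Representation.char_one, Module.finrank_fin_fun, valHom_one_apply] at h1
    exact_mod_cast h1
  subst hn
  funext g
  rw [← hρ, detChar_character, ← LinearMap.det_toMatrix (Pi.basisFun ℂ (Fin 1)), Matrix.det_fin_one,
    show ρ.character g = LinearMap.trace ℂ _ (ρ g) from rfl,
    LinearMap.trace_eq_matrix_trace ℂ (Pi.basisFun ℂ (Fin 1)), Matrix.trace_fin_one]

open Classical in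
/-- The determinant as a homomorphism. -/
noncomputable def dh (θ : H → ℂ) : H →* ℂˣ :=
  if h : IsCharacter H θ then Classical.choose (exists_detChar_eq h) else 1

theorem dh_spec {θ : H → ℂ} (h : IsCharacter H θ) : valHom H (dh θ) = detChar θ := by
  rw [dh, dif_pos h]
  exact (Classical.choose_spec (exists_detChar_eq h)).symm

theorem dh_add {χ ψ : H → ℂ} (hχ : IsCharacter H χ) (hψ : IsCharacter H ψ) :
    dh (χ + ψ) = dh χ * dh ψ :=
  valHom_injective (by
    rw [map_mul, dh_spec (Char.IsCharacter.add hχ hψ), dh_spec hχ, dh_spec hψ, detChar_add hχ hψ])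

theorem dh_valHom (l : H →* ℂˣ) : dh (valHom H l) = l :=
  valHom_injective (by rw [dh_spec (isCharacter_valHom l), detChar_valHom])

theorem dh_zero : dh (0 : H → ℂ) = 1 := by
  have h := dh_add (Char.isCharacter_zero (G := H)) (Char.isCharacter_zero (G := H))
  rw [add_zero] at h
  exact right_eq_mul.1 h

theorem dh_mul_valHom {θ : H → ℂ} (h : IsCharacter H θ) {d : ℕ} (hd : θ 1 = d) (l : H →* ℂˣ) :
    dh (θ * valHom H l) = dh θ * l ^ d :=
  valHom_injective (funext fun g => by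
    rw [dh_spec (Char.IsCharacter.mul h (isCharacter_valHom l)), detChar_mul_valHom h hd, map_mul,
      map_pow, Pi.mul_apply, Pi.pow_apply, dh_spec h, valHom_apply])

theorem dh_comp {K : Type*} [Group K] [Finite K] {θ : H → ℂ} (h : IsCharacter H θ) (f : K →* H) :
    dh (fun x => θ (f x)) = (dh θ).comp f := by
  obtain ⟨n, ρ, rfl⟩ := h
  refine valHom_injective ?_
  let σ : Representation ℂ K (Fin n → ℂ) := ρ.comp f
  rw [show (fun x => ρ.character (f x)) = σ.character from funext fun x => rfl,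
    dh_spec ⟨n, σ, rfl⟩]
  funext x
  rw [valHom_apply, MonoidHom.comp_apply, ← valHom_apply (dh ρ.character), dh_spec ⟨n, ρ, rfl⟩,
    detChar_character, detChar_character]
  rfl

theorem pow_card_eq_one_hom (δ : H →* ℂˣ) : δ ^ Nat.card H = 1 :=
  MonoidHom.ext fun x => by
    show δ x ^ Nat.card H = 1
    rw [← map_pow, pow_card_eq_one', map_one]

/-- The exponent projecting onto the `r`-part. -/
noncomputable def kr (H : Type*) [Group H] [Finite H] {r : ℕ} (hr : r.Prime) : ℕ :=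
  Nat.chineseRemainder
    (((Nat.coprime_ordCompl hr (Nat.card_pos (α := H)).ne').pow_left
      ((Nat.card H).factorization r)) : Nat.Coprime (ordProj[r] (Nat.card H)) (ordCompl[r] (Nat.card H)))
    1 0

theorem kr_modEq (H : Type*) [Group H] [Finite H] {r : ℕ} (hr : r.Prime) :
    kr H hr ≡ 1 [MOD ordProj[r] (Nat.card H)] ∧ ordCompl[r] (Nat.card H) ∣ kr H hr :=
  ⟨(Nat.chineseRemainder _ 1 0).2.1, Nat.modEq_zero_iff_dvd.1 (Nat.chineseRemainder _ 1 0).2.2⟩

variable {r : ℕ} (hr : r.Prime)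

/-- The `r`-part of the determinant. -/
noncomputable def dr (θ : H → ℂ) : H →* ℂˣ := dh θ ^ kr H hr

theorem dr_pow (θ : H → ℂ) : dr hr θ ^ (ordProj[r] (Nat.card H)) = 1 := by
  obtain ⟨c, hc⟩ := (kr_modEq H hr).2
  rw [dr, ← pow_mul, hc, mul_right_comm, mul_comm (ordCompl[r] _), Nat.ordProj_mul_ordCompl_eq_self,
    pow_mul, pow_card_eq_one_hom, one_pow]

theorem pow_kr_eq_self {δ : H →* ℂˣ} (h : δ ^ (ordProj[r] (Nat.card H)) = 1) :
    δ ^ kr H hr = δ := by
  have := (kr_modEq H hr).1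
  rw [← Nat.mod_add_div (kr H hr) (ordProj[r] (Nat.card H)), pow_add, pow_mul, h, one_pow, mul_one,
    this]
  conv_rhs => rw [← pow_one δ, ← Nat.mod_add_div 1 (ordProj[r] (Nat.card H)), pow_add, pow_mul, h,
    one_pow, mul_one]

theorem pow_kr_eq_one {s : ℕ} (hs : s.Prime) (hne : s ≠ r) {δ : H →* ℂˣ}
    (h : δ ^ (ordProj[s] (Nat.card H)) = 1) : δ ^ kr H hr = 1 := by
  have h1 : ordProj[s] (Nat.card H) ∣ kr H hr := by
    refine (Nat.Coprime.dvd_of_dvd_mul_left
      (((Nat.coprime_primes hs hr).2 hne).pow _ ((Nat.card H).factorization r)) ?_).trans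
      (kr_modEq H hr).2
    rw [Nat.ordProj_mul_ordCompl_eq_self]
    exact Nat.ordProj_dvd _ _
  obtain ⟨c, hc⟩ := h1
  rw [hc, pow_mul, h, one_pow]

end det

variable {G : Type*} [Group G] [Fintype G] (N : Subgroup G) [hN : N.Normal] [Fintype N]

/-- Conjugate of a linear character. -/
noncomputable def conjHom (g : G) (δ : N →* ℂˣ) : N →* ℂˣ :=
  δ.comp (MulAut.conjNormal g⁻¹ : MulAut N).toMonoidHom

theorem valHom_conjHom (g : G) (δ : N →* ℂˣ) :
    valHom N (conjHom N g δ) = CliffordChar.conjFun N g (valHom N δ) := rfl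

theorem conjHom_mul (g h : G) (δ : N →* ℂˣ) :
    conjHom N (g * h) δ = conjHom N g (conjHom N h δ) :=
  valHom_injective (by rw [valHom_conjHom, valHom_conjHom, valHom_conjHom, CliffordChar.conjFun_mul])

/-- Inertia group of a linear character. -/
noncomputable def TT (δ : N →* ℂˣ) : Subgroup G := CharApp.inertia N (valHom N δ)

theorem mem_TT {δ : N →* ℂˣ} {g : G} : g ∈ TT N δ ↔ conjHom N g δ = δ := by
  rw [TT, CharApp.mem_inertia, ← valHom_conjHom]
  exact valHom_injective.eq_iff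

/-- Linear character as an irreducible character. -/
noncomputable def lin (δ : N →* ℂˣ) : IrrCharacter N :=
  ⟨valHom N δ, Char.isIrrCharacter_of_hom ((Units.coeHom ℂ).comp δ)⟩

theorem coe_lin (δ : N →* ℂˣ) : (lin N δ : N → ℂ) = valHom N δ := rfl

theorem dh_conjFun (g : G) {θ : N → ℂ} (h : IsCharacter N θ) :
    dh (CliffordChar.conjFun N g θ) = conjHom N g (dh θ) :=
  dh_comp h (MulAut.conjNormal g⁻¹ : MulAut N).toMonoidHom

theorem dr_conjFun {r : ℕ} (hr : r.Prime) (g : G) {θ : N → ℂ} (h : IsCharacter N θ) :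
    dr hr (CliffordChar.conjFun N g θ) = conjHom N g (dr hr θ) := by
  rw [dr, dr, dh_conjFun N g h]
  exact MonoidHom.ext fun x => rfl

theorem inertia_le_TT {r : ℕ} (hr : r.Prime) (θ : IrrCharacter N) :
    CharApp.inertia N (θ : N → ℂ) ≤ TT N (dr hr (θ : N → ℂ)) := fun g hg => by
  rw [mem_TT, ← dr_conjFun N hr g (Char.IsIrrCharacter.isCharacter θ.2), (CharApp.mem_inertia N).1 hg]

/-- `a` is a degree over `θ`. -/
def Deg (θ : IrrCharacter N) (a : ℕ) : Prop :=
  ∃ χ : IrrCharacter G, classInner (fun n : N => (χ : G → ℂ) n) (θ : N → ℂ) ≠ 0 ∧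
    charDegree (χ : G → ℂ) = a

theorem exists_deg (θ : IrrCharacter N) : ∃ a, Deg N θ a := by
  obtain ⟨χ, hχ⟩ := BlocksNormal.exists_over N θ
  exact ⟨_, χ, hχ, rfl⟩

/-- The trivial character. -/
noncomputable def triv : IrrCharacter N := lin N 1

theorem apply_one (θ : IrrCharacter N) : (θ : N → ℂ) 1 = (charDegree (θ : N → ℂ) : ℂ) := by
  obtain ⟨n, _, hn⟩ := Char.IsIrrCharacter.exists_degree θ.2
  simp [charDegree, hn]

theorem deg_mem {θ : IrrCharacter N} (hθ : θ ≠ triv N) {a : ℕ} (h : Deg N θ a) :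
    a ∈ relCharDegrees N := by
  obtain ⟨χ, hχ, rfl⟩ := h
  refine ⟨χ, ?_, rfl⟩
  by_contra hno
  push Not at hno
  refine hχ ?_
  have e : (fun n : N => (χ : G → ℂ) n) = (χ : G → ℂ) 1 • (triv N : N → ℂ) :=
    funext fun n => by simp [hno n n.2, triv, coe_lin]
  rw [e, Char.classInner_smul_left, Char.classInner_irr_of_ne (triv N).2 θ.2
    (fun hh => hθ (Subtype.ext hh).symm), mul_zero]

theorem exists_of_mem {a : ℕ} (ha : a ∈ relCharDegrees N) :
    ∃ θ : IrrCharacter N, θ ≠ triv N ∧ Deg N θ a := by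
  obtain ⟨χ, ⟨x, hx, hne⟩, rfl⟩ := ha
  have hπ : IsCharacter N (fun n : N => (χ : G → ℂ) n) :=
    Char.IsCharacter.restrict (Char.IsIrrCharacter.isCharacter χ.2) N
  obtain ⟨θ, hθ⟩ := CharApp.exists_constituent hπ (by
    rw [OneMemClass.coe_one]; exact Char.IsIrrCharacter.apply_one_ne_zero χ.2)
  refine ⟨θ, fun e => hne ?_, χ, hθ, rfl⟩
  subst e
  have h1 : (triv N : N → ℂ) = 1 := funext fun n => by simp [triv, coe_lin]
  rw [h1] at hθ
  exact CharApp.trivOn_of_constituent_one N χ.2 hθ ⟨x, hx⟩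

theorem deg_dvd {θ : IrrCharacter N} {a : ℕ} (h : Deg N θ a) :
    ∃ e, 0 < e ∧ a = e * (CharApp.inertia N (θ : N → ℂ)).index * charDegree (θ : N → ℂ) := by
  obtain ⟨χ, hχ, rfl⟩ := h
  obtain ⟨m, hm⟩ := Char.IsCharacter.classInner_nat
    (Char.IsCharacter.restrict (Char.IsIrrCharacter.isCharacter χ.2) N)
    (Char.IsIrrCharacter.isCharacter θ.2)
  refine ⟨m, Nat.pos_of_ne_zero fun h0 => hχ (by rw [hm, h0, Nat.cast_zero]), ?_⟩
  have h1 := CharApp.restrict_degree N χ.2 θ.2 hχ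
  obtain ⟨d, _, hd⟩ := Char.IsIrrCharacter.exists_degree χ.2
  rw [show classInner (fun n : N => (χ : G → ℂ) n) (θ : N → ℂ) = _ from hm, apply_one, hd] at h1
  have h2 : d = m * (CharApp.inertia N (θ : N → ℂ)).index * charDegree (θ : N → ℂ) := by
    exact_mod_cast h1
  rw [← h2]
  simp [charDegree, hd]

theorem index_dvd_deg {θ : IrrCharacter N} {a : ℕ} (h : Deg N θ a) {S : Subgroup G}
    (hS : CharApp.inertia N (θ : N → ℂ) ≤ S) : S.index ∣ a := by
  obtain ⟨e, _, he⟩ := deg_dvd N h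
  rw [he]
  exact dvd_mul_of_dvd_left (dvd_mul_of_dvd_right (Subgroup.index_dvd_of_le hS) _) _

theorem degree_dvd_deg {θ : IrrCharacter N} {a : ℕ} (h : Deg N θ a) :
    charDegree (θ : N → ℂ) ∣ a := by
  obtain ⟨e, _, he⟩ := deg_dvd N h
  rw [he]; exact dvd_mul_left _ _

theorem deg_pos {θ : IrrCharacter N} {a : ℕ} (h : Deg N θ a) : 0 < a := by
  obtain ⟨χ, _, rfl⟩ := h
  obtain ⟨d, hd0, hd⟩ := Char.IsIrrCharacter.exists_degree χ.2
  simp [charDegree, hd, hd0]

/-- The determinant of a character all whose constituents share the `r`-part `δ`. -/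
theorem dr_eq_pow {r : ℕ} (hr : r.Prime) {t : ℕ} {δ : N →* ℂˣ} {π : N → ℂ} (hπ : IsCharacter N π)
    (h : ∀ φ : IrrCharacter N, classInner π (φ : N → ℂ) ≠ 0 →
      dr hr (φ : N → ℂ) = δ ∧ (φ : N → ℂ) 1 = t) :
    ∃ s : ℕ, π 1 = (s : ℂ) * t ∧ dr hr π = δ ^ s := by
  revert h
  refine Char.isCharacter_induction
    (P := fun π => (∀ φ : IrrCharacter N, classInner π (φ : N → ℂ) ≠ 0 →
      dr hr (φ : N → ℂ) = δ ∧ (φ : N → ℂ) 1 = t) → ∃ s : ℕ, π 1 = (s : ℂ) * t ∧ dr hr π = δ ^ s)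
    (fun _ => ⟨0, by simp, by rw [dr, dh_zero, one_pow, pow_zero]⟩) ?_ hπ
  intro χ ψ hχ hψ ih h
  obtain ⟨hd, ht⟩ := h ⟨χ, hχ⟩ (by
    obtain ⟨m, hm⟩ := Char.IsCharacter.classInner_nat hψ (Char.IsIrrCharacter.isCharacter hχ)
    show classInner (χ + ψ) χ ≠ 0
    rw [Char.classInner_add_left, Char.classInner_irr_self hχ, hm, ← Nat.cast_one, ← Nat.cast_add]
    exact Nat.cast_ne_zero.2 (by omega))
  obtain ⟨s, hs1, hs2⟩ := ih fun φ hφ => h φ (by
    obtain ⟨m, hm⟩ := Char.IsCharacter.classInner_nat hψ (Char.IsIrrCharacter.isCharacter φ.2)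
    obtain ⟨m', hm'⟩ := Char.IsCharacter.classInner_nat (Char.IsIrrCharacter.isCharacter hχ)
      (Char.IsIrrCharacter.isCharacter φ.2)
    rw [Char.classInner_add_left, hm, hm', ← Nat.cast_add]
    refine Nat.cast_ne_zero.2 fun h0 => hφ ?_
    rw [hm, show m = 0 by omega, Nat.cast_zero])
  refine ⟨s + 1, ?_, ?_⟩
  · rw [Pi.add_apply, hs1, show χ 1 = (t : ℂ) from ht, Nat.cast_succ]; ring
  · rw [dr, dh_add (Char.IsIrrCharacter.isCharacter hχ) hψ, mul_pow, ← dr, ← dr,
      show dr hr χ = δ from hd, hs2, pow_succ]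
    exact hom_mul_comm _ _

variable (hNG : N ≤ commutator G)
include hNG

theorem dh_restrict_eq_one (χ : IrrCharacter G) :
    dh (fun n : N => (χ : G → ℂ) n) = 1 := by
  rw [show (fun n : N => (χ : G → ℂ) n) = fun n : N => (χ : G → ℂ) (N.subtype n) from rfl,
    dh_comp (Char.IsIrrCharacter.isCharacter χ.2) N.subtype]
  exact MonoidHom.ext fun n => Abelianization.commutator_subset_ker (dh (χ : G → ℂ)) (hNG n.2)

/-- An invariant non-trivial `r`-part of the determinant forces `r` into every degree. -/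
theorem dvd_of_invariant {r : ℕ} (hr : r.Prime) {θ : IrrCharacter N}
    (hne : dr hr (θ : N → ℂ) ≠ 1) (hinv : TT N (dr hr (θ : N → ℂ)) = ⊤) {a : ℕ}
    (h : Deg N θ a) : r ∣ a := by
  classical
  obtain ⟨χ, hχ, rfl⟩ := h
  have hπ : IsCharacter N (fun n : N => (χ : G → ℂ) n) :=
    Char.IsCharacter.restrict (Char.IsIrrCharacter.isCharacter χ.2) N
  obtain ⟨s, hs1, hs2⟩ := dr_eq_pow N hr (t := charDegree (θ : N → ℂ))
    (δ := dr hr (θ : N → ℂ)) hπ fun φ hφ => by
      obtain ⟨g, hg⟩ := CliffordChar.constituents_conjugate N χ.2 θ.2 φ.2 hχ hφ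
      refine ⟨?_, ?_⟩
      · rw [← hg, dr_conjFun N hr g (Char.IsIrrCharacter.isCharacter θ.2)]
        exact mem_TT N |>.1 (hinv ▸ Subgroup.mem_top g)
      · rw [← hg, CharApp.conjFun_apply_one, apply_one]
  have h1 : dr hr (θ : N → ℂ) ^ s = 1 := by
    rw [← hs2, dr, dh_restrict_eq_one N hNG χ, one_pow]
  have ho : orderOf (dr hr (θ : N → ℂ)) ∣ ordProj[r] (Nat.card N) :=
    orderOf_dvd_of_pow_eq_one (dr_pow hr _)
  obtain ⟨j, _, hj⟩ := (Nat.dvd_prime_pow hr).1 ho
  have hrs : r ∣ s := by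
    refine dvd_trans ?_ (orderOf_dvd_of_pow_eq_one h1)
    rw [hj]
    refine dvd_pow_self r fun h0 => hne ?_
    rw [h0, pow_zero] at hj
    exact orderOf_eq_one_iff.1 hj
  obtain ⟨d, _, hd⟩ := Char.IsIrrCharacter.exists_degree χ.2
  rw [OneMemClass.coe_one, hd] at hs1
  have h2 : d = s * charDegree (θ : N → ℂ) := by exact_mod_cast hs1
  rw [show charDegree (χ : G → ℂ) = d by simp [charDegree, hd], h2]
  exact dvd_mul_of_dvd_left hrs _

omit hNG

/-- Joined in the graph on the relative degrees. -/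
def Conn (a b : ℕ) : Prop :=
  ∃ (ha : a ∈ relCharDegrees N) (hb : b ∈ relCharDegrees N),
    (commonDivisorGraph.induce (relCharDegrees N)).Reachable ⟨a, ha⟩ ⟨b, hb⟩

theorem Conn.symm {a b : ℕ} (h : Conn N a b) : Conn N b a :=
  ⟨h.2.1, h.1, h.2.2.symm⟩

theorem Conn.trans {a b c : ℕ} (h : Conn N a b) (h' : Conn N b c) : Conn N a c :=
  ⟨h.1, h'.2.1, h.2.2.trans h'.2.2⟩

theorem conn_of_dvd {a b q : ℕ} (ha : a ∈ relCharDegrees N) (hb : b ∈ relCharDegrees N)
    (h0 : 0 < a) (hq : q ≠ 1) (hqa : q ∣ a) (hqb : q ∣ b) : Conn N a b := by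
  refine ⟨ha, hb, ?_⟩
  by_cases hab : a = b
  · subst hab; exact SimpleGraph.Reachable.refl _
  · refine SimpleGraph.Adj.reachable ?_
    show a ≠ b ∧ 1 < Nat.gcd a b
    refine ⟨hab, lt_of_le_of_ne (Nat.gcd_pos_of_pos_left _ h0) fun h1 => hq ?_⟩
    exact Nat.dvd_one.1 (h1 ▸ Nat.dvd_gcd hqa hqb)

/-- All degrees over `θ` are joined to all degrees over `φ`. -/
def Link (θ φ : IrrCharacter N) : Prop := ∀ a b, Deg N θ a → Deg N φ b → Conn N a b

theorem Link.symm {θ φ : IrrCharacter N} (h : Link N θ φ) : Link N φ θ :=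
  fun a b ha hb => (h b a hb ha).symm

theorem Link.trans {θ φ ψ : IrrCharacter N} (h : Link N θ φ) (h' : Link N φ ψ) : Link N θ ψ :=
  fun a b ha hb => by
    obtain ⟨c, hc⟩ := exists_deg N φ
    exact (h a c ha hc).trans N (h' c b hc hb)

theorem lin_ne_triv {δ : N →* ℂˣ} (h : δ ≠ 1) : lin N δ ≠ triv N := fun e =>
  h (valHom_injective (congrArg Subtype.val e))

theorem charDegree_lin (δ : N →* ℂˣ) : charDegree (lin N δ : N → ℂ) = 1 := by
  simp [charDegree, coe_lin]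

theorem dr_lin {r : ℕ} (hr : r.Prime) {δ : N →* ℂˣ} (h : δ ^ (ordProj[r] (Nat.card N)) = 1) :
    dr hr (lin N δ : N → ℂ) = δ := by
  rw [coe_lin, dr, dh_valHom, pow_kr_eq_self hr h]

include hNG

theorem link_dr {r : ℕ} (hr : r.Prime) {θ : IrrCharacter N} (hθ : θ ≠ triv N)
    (hne : dr hr (θ : N → ℂ) ≠ 1) : Link N θ (lin N (dr hr (θ : N → ℂ))) := by
  intro a b ha hb
  set δ := dr hr (θ : N → ℂ)
  by_cases ht : (TT N δ).index = 1
  · have hinv : TT N δ = ⊤ := Subgroup.index_eq_one.1 ht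
    have hd : dr hr (lin N δ : N → ℂ) = δ := dr_lin N hr (dr_pow hr _)
    exact conn_of_dvd N (deg_mem N hθ ha) (deg_mem N (lin_ne_triv N hne) hb) (deg_pos N ha)
      hr.ne_one (dvd_of_invariant N hNG hr hne hinv ha)
      (dvd_of_invariant N hNG hr (by rw [hd]; exact hne) (by rw [hd]; exact hinv) hb)
  · exact conn_of_dvd N (deg_mem N hθ ha) (deg_mem N (lin_ne_triv N hne) hb) (deg_pos N ha) ht
      (index_dvd_deg N ha (inertia_le_TT N hr θ)) (index_dvd_deg N hb le_rfl)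

omit hNG in
theorem exists_dr_ne_one {ν : N →* ℂˣ} (hν : ν ≠ 1) :
    ∃ (s : ℕ) (hs : s.Prime), dr hs (valHom N ν) ≠ 1 := by
  set o := orderOf ν
  have ho : o ≠ 1 := fun h => hν (orderOf_eq_one_iff.1 h)
  refine ⟨o.minFac, Nat.minFac_prime ho, fun h => ?_⟩
  rw [dr, dh_valHom] at h
  have h1 := Nat.minFac_dvd o
  have h2 : o ∣ kr N (Nat.minFac_prime ho) := orderOf_dvd_of_pow_eq_one h
  have h3 := (kr_modEq N (Nat.minFac_prime ho)).1
  have hR : o.minFac ∣ ordProj[o.minFac] (Nat.card N) := by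
    refine dvd_pow_self _ (Nat.Prime.factorization_pos_of_dvd (Nat.minFac_prime ho)
      Nat.card_pos.ne' (h1.trans ?_)).ne'
    exact orderOf_dvd_of_pow_eq_one (pow_card_eq_one_hom ν)
  have h4 : o.minFac ∣ 1 :=
    Nat.modEq_zero_iff_dvd.1 ((h3.of_dvd hR).symm.trans (Nat.modEq_zero_iff_dvd.2 (h1.trans h2)))
  exact (Nat.minFac_prime ho).ne_one (Nat.dvd_one.1 h4)

/-- A character of degree prime to `r` with trivial `r`-part is joined to every `r`-element. -/
theorem link_prime_to {r : ℕ} (hr : r.Prime) {θ : IrrCharacter N} (hθ : θ ≠ triv N)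
    (hdeg : ¬ r ∣ charDegree (θ : N → ℂ)) (h1 : dr hr (θ : N → ℂ) = 1) {δ : N →* ℂˣ}
    (hδ : δ ≠ 1) (hδr : δ ^ (ordProj[r] (Nat.card N)) = 1) : Link N θ (lin N δ) := by
  set R := ordProj[r] (Nat.card N)
  set d := charDegree (θ : N → ℂ)
  have hcop : Nat.Coprime d R := ((hr.coprime_iff_not_dvd.2 hdeg).symm.pow_right _)
  obtain ⟨u, hu⟩ : ∃ u, d * u ≡ 1 [MOD R] := by
    rcases Nat.eq_or_lt_of_le (Nat.one_le_iff_ne_zero.2 (pow_ne_zero _ hr.ne_zero) : 1 ≤ R) with e | e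
    · exact ⟨0, by rw [← e]; exact Nat.modEq_one⟩
    · obtain ⟨u, hu⟩ := Nat.exists_mul_mod_eq_one_of_coprime hcop e
      exact ⟨u, hu.2.trans (Nat.mod_eq_of_lt e).symm⟩
  have hδu : δ ^ (d * u) = δ := by
    rw [← Nat.mod_add_div (d * u) R, pow_add, pow_mul δ R, hδr, one_pow, mul_one, hu]
    conv_rhs => rw [← pow_one δ, ← Nat.mod_add_div 1 R, pow_add, pow_mul, hδr, one_pow, mul_one]
  let θ' : IrrCharacter N := ⟨(θ : N → ℂ) * valHom N (δ ^ u),
    Char.IsIrrCharacter.mul_linear θ.2 ((Units.coeHom ℂ).comp (δ ^ u))⟩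
  have hdh : dh (θ' : N → ℂ) = dh (θ : N → ℂ) * δ := by
    show dh ((θ : N → ℂ) * valHom N (δ ^ u)) = _
    rw [dh_mul_valHom (Char.IsIrrCharacter.isCharacter θ.2) (apply_one N θ), ← pow_mul, mul_comm u,
      hδu]
  have hdr : dr hr (θ' : N → ℂ) = δ := by
    rw [dr, hdh, mul_pow, ← dr, h1]
    erw [one_mul]
    exact pow_kr_eq_self hr hδr
  have hθ' : θ' ≠ triv N := fun e => hδ (by
    rw [← hdr, e, show (triv N : N → ℂ) = valHom N 1 from rfl, dr, dh_valHom, one_pow])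
  refine Link.trans N (φ := θ') ?_ (hdr ▸ link_dr N hNG hr hθ' (hdr ▸ hδ))
  by_cases hd1 : d = 1
  · -- linear: pass through another prime
    obtain ⟨ν, hν⟩ := exists_valHom (Char.IsIrrCharacter.isCharacter θ.2)
      (by rw [apply_one]; exact_mod_cast hd1)
    have hν1 : ν ≠ 1 := fun e => hθ (Subtype.ext (by rw [← hν, e]; rfl))
    obtain ⟨s, hs, hsne⟩ := exists_dr_ne_one N hν1
    rw [hν] at hsne
    have hsr : s ≠ r := fun e => by subst e; exact hsne h1
    have hds : dr hs (θ' : N → ℂ) = dr hs (θ : N → ℂ) := by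
      rw [dr, hdh, mul_pow, pow_kr_eq_one hs hr (Ne.symm hsr) hδr]
      exact hom_mul_one _
    exact (link_dr N hNG hs hθ hsne).trans N
      (hds ▸ link_dr N hNG hs hθ' (hds ▸ hsne)).symm
  · intro a b ha hb
    have hd' : charDegree (θ' : N → ℂ) = d := by
      have h2 : (θ' : N → ℂ) 1 = (θ : N → ℂ) 1 := by simp [θ']
      rw [apply_one, apply_one] at h2
      exact_mod_cast h2
    exact conn_of_dvd N (deg_mem N hθ ha) (deg_mem N hθ' hb) (deg_pos N ha) hd1
      (degree_dvd_deg N ha) (hd' ▸ degree_dvd_deg N hb)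

/-- Two linear `r`-characters with orbits of size prime to `r` are joined. -/
theorem link_pair {r : ℕ} (hr : r.Prime) {α β : N →* ℂˣ}
    (hαr : α ^ (ordProj[r] (Nat.card N)) = 1) (hβr : β ^ (ordProj[r] (Nat.card N)) = 1)
    (hα : ¬ r ∣ (TT N α).index) (hα1 : (TT N α).index ≠ 1)
    (hβ : ¬ r ∣ (TT N β).index) (hβ1 : (TT N β).index ≠ 1) :
    Link N (lin N α) (lin N β) := by
  classical
  have hne : ∀ γ : N →* ℂˣ, (TT N γ).index ≠ 1 → γ ≠ 1 := fun γ h e => h (by
    subst e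
    exact Subgroup.index_eq_one.2 ((Subgroup.eq_top_iff' _).2 fun g => (mem_TT N).2
      (MonoidHom.ext fun x => rfl)))
  have hshare : ∀ γ γ' : N →* ℂˣ, ¬ Nat.Coprime (TT N γ).index (TT N γ').index →
      γ ≠ 1 → γ' ≠ 1 → Link N (lin N γ) (lin N γ') := fun γ γ' hc h1 h2 a b ha hb =>
    conn_of_dvd N (deg_mem N (lin_ne_triv N h1) ha) (deg_mem N (lin_ne_triv N h2) hb) (deg_pos N ha)
      hc ((Nat.gcd_dvd_left _ _).trans (index_dvd_deg N ha le_rfl))
      ((Nat.gcd_dvd_right _ _).trans (index_dvd_deg N hb le_rfl))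
  by_cases hc : Nat.Coprime (TT N α).index (TT N β).index
  swap
  · exact hshare _ _ hc (hne _ hα1) (hne _ hβ1)
  set π := α * β
  have hπmul : ∀ g, conjHom N g π = conjHom N g α * conjHom N g β := fun g => MonoidHom.ext fun x => rfl
  have hπ1 : π ≠ 1 := fun e => by
    have hTT : TT N α = TT N β := by
      have hb : β = α⁻¹ := eq_inv_of_mul_eq_one_right e
      ext g
      rw [mem_TT, mem_TT, hb, show conjHom N g α⁻¹ = (conjHom N g α)⁻¹ from MonoidHom.ext fun x => rfl]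
      exact hom_inv_inj.symm
    rw [hTT, Nat.coprime_self] at hc
    exact hβ1 hc
  by_cases h12 : ¬ Nat.Coprime (TT N α).index (TT N π).index ∧
      ¬ Nat.Coprime (TT N π).index (TT N β).index
  · exact (hshare _ _ h12.1 (hne _ hα1) hπ1).trans N (hshare _ _ h12.2 hπ1 (hne _ hβ1))
  exfalso
  suffices key : ∀ α β : N →* ℂˣ, β ^ (ordProj[r] (Nat.card N)) = 1 → ¬ r ∣ (TT N α).index →
      (TT N β).index ≠ 1 → Nat.Coprime (TT N α).index (TT N β).index →
      Nat.Coprime (TT N (α * β)).index (TT N β).index → False by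
    rcases not_and_or.1 h12 with h | h <;> rw [not_not] at h
    · exact key β α hαr hβ hα1 hc.symm (mul_comm α β ▸ h.symm)
    · exact key α β hβr hα hβ1 hc h
  clear! α β
  intro α β hβr hα hβ1 hc hc'
  set π := α * β
  have hπmul : ∀ g, conjHom N g π = conjHom N g α * conjHom N g β := fun g => MonoidHom.ext fun x => rfl
  -- orbits
  let O : (N →* ℂˣ) → Set (N →* ℂˣ) := fun γ => Set.range fun g => conjHom N g γ
  have hcard : ∀ γ, Nat.card (O γ) = (TT N γ).index := by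
    intro γ
    rw [Subgroup.index_eq_card]
    refine (Nat.card_congr (Equiv.ofBijective
      (Quotient.lift (fun g => (⟨conjHom N g γ, g, rfl⟩ : O γ)) ?_) ⟨?_, ?_⟩)).symm
    · intro a b hab
      have h1 : a⁻¹ * b ∈ TT N γ := QuotientGroup.leftRel_apply.1 hab
      refine Subtype.ext ?_
      have h2 := conjHom_mul N a (a⁻¹ * b) γ
      rw [(mem_TT N).1 h1, mul_inv_cancel_left] at h2
      exact h2.symm
    · intro x y
      induction x using Quotient.inductionOn' with | _ a => ?_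
      induction y using Quotient.inductionOn' with | _ b => ?_
      intro hab
      refine Quotient.sound' (QuotientGroup.leftRel_apply.2 ((mem_TT N).2 ?_))
      have h1 : conjHom N a γ = conjHom N b γ := congrArg Subtype.val hab
      rw [conjHom_mul, ← h1, ← conjHom_mul, inv_mul_cancel]
      exact MonoidHom.ext fun x => by simp [conjHom]
    · rintro ⟨_, g, rfl⟩
      exact ⟨QuotientGroup.mk g, rfl⟩
  have hinf : TT N π ⊓ TT N β ≤ TT N α := fun g hg => by
    rw [mem_TT]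
    have h1 := (mem_TT N).1 hg.1
    rw [hπmul, (mem_TT N).1 hg.2] at h1
    exact mul_right_cancel h1
  have hle : TT N α ⊓ TT N β ≤ TT N π := fun g hg => by
    rw [mem_TT, hπmul, (mem_TT N).1 hg.1, (mem_TT N).1 hg.2]
  have hdiv : (TT N π).index ∣ (TT N α).index := by
    refine hc'.dvd_of_dvd_mul_right ((Subgroup.index_dvd_of_le hle).trans ?_)
    rw [← Solvable.relIndex_eq_index_of_coprime hc, ← Subgroup.inf_relIndex_right,
      Subgroup.relIndex_mul_index inf_le_right]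
  have hge : (TT N α).index ≤ (TT N π).index := by
    refine Nat.le_of_mul_le_mul_right ?_ (Nat.pos_of_ne_zero
      (Subgroup.index_ne_zero_of_finite (H := TT N β)))
    refine le_trans ?_ Subgroup.index_inf_le
    refine le_trans ?_ (Nat.le_of_dvd (Nat.pos_of_ne_zero Subgroup.index_ne_zero_of_finite)
      (Subgroup.index_dvd_of_le (le_inf hinf inf_le_right)))
    rw [← Solvable.relIndex_eq_index_of_coprime hc, ← Subgroup.inf_relIndex_right,
      Subgroup.relIndex_mul_index inf_le_right]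
  have hcardπ : Nat.card (O π) = Nat.card (O α) := by
    rw [hcard, hcard]
    exact le_antisymm (Nat.le_of_dvd (Nat.pos_of_ne_zero Subgroup.index_ne_zero_of_finite) hdiv) hge
  haveI : ∀ γ, Finite (O γ) := fun γ => Set.finite_range _ |>.to_subtype
  have htrans : (fun x => x * β) '' O α = O π := by
    refine Set.eq_of_subset_of_ncard_le ?_ (le_of_eq ?_) (Set.finite_range _)
    · rintro _ ⟨_, ⟨g, rfl⟩, rfl⟩
      obtain ⟨k, hk, x, hx, rfl⟩ := Solvable.exists_mul_of_coprime_index hc g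
      refine ⟨k, ?_⟩
      show conjHom N k π = conjHom N (k * x) α * β
      rw [hπmul, (mem_TT N).1 hk, conjHom_mul, (mem_TT N).1 hx]
    · rw [Set.ncard_image_of_injective _ (mul_left_injective β), ← Nat.card_coe_set_eq,
        ← Nat.card_coe_set_eq, hcardπ]
  haveI := Fintype.ofFinite (O α)
  refine hβ1 (Subgroup.index_eq_one.2 ((Subgroup.eq_top_iff' _).2 fun g => (mem_TT N).2 ?_))
  set d := conjHom N g β * β⁻¹
  have hmaps : ∀ x ∈ O α, x * d ∈ O α := by
    rintro _ ⟨x, rfl⟩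
    have h1 : conjHom N (g * (g⁻¹ * x)) α * conjHom N g β ∈ O π := by
      have h2 : conjHom N (g⁻¹ * x) α * β ∈ O π := htrans ▸ ⟨_, ⟨_, rfl⟩, rfl⟩
      obtain ⟨y, hy⟩ := h2
      refine ⟨g * y, ?_⟩
      show conjHom N (g * y) π = _
      rw [conjHom_mul, show conjHom N y π = _ from hy, conjHom_mul N g]
      exact MonoidHom.ext fun x => rfl
    rw [← htrans, mul_inv_cancel_left] at h1
    obtain ⟨w, hw, hw'⟩ := h1
    have : conjHom N x α * d = w := by
      simp only [d]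
      rw [← mul_assoc, ← hw', mul_inv_cancel_right]
    exact this ▸ hw
  let σ : O α → O α := fun x => ⟨x * d, hmaps _ x.2⟩
  have hσ : Function.Bijective σ := Finite.injective_iff_bijective.1 fun x y hxy =>
    Subtype.ext (mul_right_cancel (congrArg Subtype.val hxy))
  have hprod : (∏ x : O α, (x : N →* ℂˣ)) * d ^ (TT N α).index = ∏ x : O α, (x : N →* ℂˣ) := by
    rw [← hcard, Nat.card_eq_fintype_card, ← Finset.card_univ, ← Finset.prod_const,
      ← Finset.prod_mul_distrib]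
    exact Fintype.prod_equiv (Equiv.ofBijective σ hσ) _ _ fun x => rfl
  have hd1 : d ^ (TT N α).index = 1 := mul_eq_left.1 hprod
  have hdR : d ^ (ordProj[r] (Nat.card N)) = 1 := by
    rw [mul_pow, inv_pow, hβr]
    erw [inv_one, mul_one]
    exact MonoidHom.ext fun x => DFunLike.congr_fun hβr (MulAut.conjNormal g⁻¹ x)
  have : d = 1 := by
    refine orderOf_eq_one_iff.1 (Nat.eq_one_of_dvd_coprimes ?_ (orderOf_dvd_of_pow_eq_one hd1)
      (orderOf_dvd_of_pow_eq_one hdR))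
    exact ((hr.coprime_iff_not_dvd.2 hα).pow_left _).symm
  exact mul_inv_eq_one.1 this

/-- Vertices prime to `r` are joined to each other. -/
theorem conn_of_not_dvd {r : ℕ} (hr : r.Prime) {γ : N →* ℂˣ} (hγ : γ ≠ 1)
    (hγr : γ ^ (ordProj[r] (Nat.card N)) = 1) {a b : ℕ} (ha : a ∈ relCharDegrees N)
    (hb : b ∈ relCharDegrees N) (hra : ¬ r ∣ a) (hrb : ¬ r ∣ b) : Conn N a b := by
  obtain ⟨θ, hθ, hθa⟩ := exists_of_mem N ha
  obtain ⟨φ, hφ, hφb⟩ := exists_of_mem N hb
  have hroute : ∀ (θ : IrrCharacter N) (a : ℕ), θ ≠ triv N → Deg N θ a → ¬ r ∣ a →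
      (dr hr (θ : N → ℂ) ≠ 1 ∧ ¬ r ∣ (TT N (dr hr (θ : N → ℂ))).index ∧
        (TT N (dr hr (θ : N → ℂ))).index ≠ 1 ∧ Link N θ (lin N (dr hr (θ : N → ℂ)))) ∨
      (dr hr (θ : N → ℂ) = 1 ∧ ∀ δ : N →* ℂˣ, δ ≠ 1 → δ ^ (ordProj[r] (Nat.card N)) = 1 →
        Link N θ (lin N δ)) := by
    intro θ a hθ h hra
    by_cases h1 : dr hr (θ : N → ℂ) = 1
    · exact Or.inr ⟨h1, fun δ hδ hδr =>
        link_prime_to N hNG hr hθ (fun hd => hra (hd.trans (degree_dvd_deg N h))) h1 hδ hδr⟩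
    · exact Or.inl ⟨h1, fun hd => hra (hd.trans (index_dvd_deg N h (inertia_le_TT N hr θ))),
        fun ht => hra (dvd_of_invariant N hNG hr h1 (Subgroup.index_eq_one.1 ht) h),
        link_dr N hNG hr hθ h1⟩
  suffices Link N θ φ from this a b hθa hφb
  rcases hroute θ a hθ hθa hra with ⟨h1, h2, h3, h4⟩ | ⟨-, h4⟩ <;>
    rcases hroute φ b hφ hφb hrb with ⟨k1, k2, k3, k4⟩ | ⟨-, k4⟩
  · exact (h4.trans N (link_pair N hNG hr (dr_pow hr _) (dr_pow hr _) h2 h3 k2 k3)).trans N (k4.symm N)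
  · exact h4.trans N ((k4 _ h1 (dr_pow hr _)).symm N)
  · exact (h4 _ k1 (dr_pow hr _)).trans N (k4.symm N)
  · exact (h4 γ hγ hγr).trans N ((k4 γ hγ hγr).symm N)

/-- A degree prime to `r` is joined to some linear `r`-element. -/
theorem exists_link {r : ℕ} (hr : r.Prime) {γ : N →* ℂˣ} (hγ : γ ≠ 1)
    (hγr : γ ^ (ordProj[r] (Nat.card N)) = 1) {a : ℕ} (ha : a ∈ relCharDegrees N) (hra : ¬ r ∣ a) :
    ∃ (θ : IrrCharacter N) (δ : N →* ℂˣ), Deg N θ a ∧ δ ≠ 1 ∧
      δ ^ (ordProj[r] (Nat.card N)) = 1 ∧ Link N θ (lin N δ) := by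
  obtain ⟨θ, hθ, hθa⟩ := exists_of_mem N ha
  by_cases h1 : dr hr (θ : N → ℂ) = 1
  · exact ⟨θ, γ, hθa, hγ, hγr,
      link_prime_to N hNG hr hθ (fun hd => hra (hd.trans (degree_dvd_deg N hθa))) h1 hγ hγr⟩
  · exact ⟨θ, _, hθa, h1, dr_pow hr _, link_dr N hNG hr hθ h1⟩

/-- Linear elements of different prime orders are joined. -/
theorem link_primes {r s : ℕ} (hr : r.Prime) (hs : s.Prime) (hne : r ≠ s) {α β : N →* ℂˣ}
    (hα : α ≠ 1) (hαr : α ^ (ordProj[r] (Nat.card N)) = 1)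
    (hβ : β ≠ 1) (hβs : β ^ (ordProj[s] (Nat.card N)) = 1) : Link N (lin N α) (lin N β) := by
  have h1 : dr hr (lin N (α * β) : N → ℂ) = α := by
    rw [coe_lin, dr, dh_valHom, mul_pow, pow_kr_eq_self hr hαr,
      pow_kr_eq_one hr hs (Ne.symm hne) hβs]
    exact hom_mul_one _
  have h2 : dr hs (lin N (α * β) : N → ℂ) = β := by
    rw [coe_lin, dr, dh_valHom, mul_pow, pow_kr_eq_one hs hr hne hαr,
      pow_kr_eq_self hs hβs]
    exact hom_one_mul _
  have hne' : lin N (α * β) ≠ triv N := lin_ne_triv N fun e => hα (by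
    rw [← h1, e, coe_lin, dr, dh_valHom, one_pow])
  have l1 := link_dr N hNG hr hne' (by rw [h1]; exact hα)
  have l2 := link_dr N hNG hs hne' (by rw [h2]; exact hβ)
  rw [h1] at l1
  rw [h2] at l2
  exact l1.symm.trans N l2

omit hNG in
theorem exists_r_element {r : ℕ} (hr : r.Prime) (h : r ∣ ⁅N, N⁆.relIndex N) :
    ∃ γ : N →* ℂˣ, γ ≠ 1 ∧ γ ^ (ordProj[r] (Nat.card N)) = 1 := by
  haveI := Fact.mk hr
  have hidx : ⁅N, N⁆.relIndex N = Nat.card (N →* ℂˣ) := by
    have : NeZero (Monoid.exponent (Abelianization N)) := ⟨Monoid.exponent_ne_zero_of_finite⟩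
    have : NeZero ((Monoid.exponent (Abelianization N) : ℕ) : ℂ) := ⟨Nat.cast_ne_zero.2 (NeZero.ne _)⟩
    rw [← Subgroup.map_subtype_commutator, Subgroup.relIndex, Subgroup.subgroupOf,
      Subgroup.comap_map_eq_self_of_injective N.subtype_injective,
      Nat.card_congr Abelianization.lift, CommGroup.card_monoidHom_of_hasEnoughRootsOfUnity,
      Subgroup.index_eq_card]
    rfl
  haveI : Finite (N →* ℂˣ) := Nat.finite_of_card_ne_zero
    (hidx ▸ Subgroup.index_ne_zero_of_finite)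
  obtain ⟨γ, hγ⟩ := exists_prime_orderOf_dvd_card' r (hidx ▸ h)
  refine ⟨γ, fun e => hr.ne_one (by rw [← hγ, e, orderOf_one]), orderOf_dvd_iff_pow_eq_one.1 ?_⟩
  rw [hγ]
  exact dvd_pow_self r (Nat.Prime.factorization_pos_of_dvd hr Nat.card_pos.ne'
    (hγ ▸ orderOf_dvd_of_pow_eq_one (pow_card_eq_one_hom γ))).ne'

theorem card_components_le (hlt : ⁅N, N⁆ < N) :
    Nat.card (commonDivisorGraph.induce (relCharDegrees N)).ConnectedComponent ≤ 2 := by
  classical
  set Γ := commonDivisorGraph.induce (relCharDegrees N)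
  have hm : ⁅N, N⁆.relIndex N ≠ 1 := fun h => hlt.not_ge (Subgroup.relIndex_eq_one.1 h)
  obtain ⟨r, hr, hrm⟩ := Nat.exists_prime_and_dvd hm
  obtain ⟨γ, hγ, hγr⟩ := exists_r_element N hr hrm
  let f : Γ.ConnectedComponent → Bool := fun c => decide (r ∣ (c.out : ℕ))
  have hf : Function.Injective f := by
    intro c c' h
    have hv : ∀ v : relCharDegrees N, 0 < (v : ℕ) := fun v => by
      obtain ⟨θ, -, hθ⟩ := exists_of_mem N v.2
      exact deg_pos N hθ
    have hconn : Conn N (c.out : ℕ) (c'.out : ℕ) := by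
      by_cases hd : r ∣ (c.out : ℕ)
      · exact conn_of_dvd N c.out.2 c'.out.2 (hv _) hr.ne_one hd
          (by simpa [f, hd] using h)
      · exact conn_of_not_dvd N hNG hr hγ hγr c.out.2 c'.out.2 hd (by simpa [f, hd] using h)
    obtain ⟨_, _, hreach⟩ := hconn
    rw [← Quot.out_eq c, ← Quot.out_eq c']
    exact SimpleGraph.ConnectedComponent.sound hreach
  refine le_trans (Nat.card_le_card_of_injective f hf) ?_
  simp

theorem dichotomy {a b : ℕ} (ha : a ∈ relCharDegrees N) (hb : b ∈ relCharDegrees N)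
    (h : ¬ (commonDivisorGraph.induce (relCharDegrees N)).Reachable ⟨a, ha⟩ ⟨b, hb⟩) :
    (Nat.Coprime a (⁅N, N⁆.relIndex N) ∧ ∀ r : ℕ, r.Prime → r ∣ ⁅N, N⁆.relIndex N → r ∣ b) ∨
      (Nat.Coprime b (⁅N, N⁆.relIndex N) ∧ ∀ r : ℕ, r.Prime → r ∣ ⁅N, N⁆.relIndex N → r ∣ a) := by
  classical
  set m := ⁅N, N⁆.relIndex N
  have hnc : ¬ Conn N a b := fun ⟨_, _, hc⟩ => h hc
  have ha0 : 0 < a := by
    obtain ⟨θ, -, hθ⟩ := exists_of_mem N ha
    exact deg_pos N hθ
  have hone : ∀ r : ℕ, r.Prime → r ∣ m → (r ∣ a ↔ ¬ r ∣ b) := by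
    intro r hr hrm
    refine ⟨fun h1 h2 => hnc (conn_of_dvd N ha hb ha0 hr.ne_one h1 h2), fun h2 => by_contra fun h1 => ?_⟩
    obtain ⟨γ, hγ, hγr⟩ := exists_r_element N hr hrm
    exact hnc (conn_of_not_dvd N hNG hr hγ hγr ha hb h1 h2)
  have hmix : ∀ r s : ℕ, r.Prime → s.Prime → r ∣ m → s ∣ m → r ∣ a → s ∣ b → False := by
    intro r s hr hs hrm hsm hra hsb
    have hrb : ¬ r ∣ b := (hone r hr hrm).1 hra
    have hsa : ¬ s ∣ a := fun hh => (hone s hs hsm).1 hh hsb
    have hne : r ≠ s := fun e => hsa (e ▸ hra)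
    obtain ⟨γ, hγ, hγr⟩ := exists_r_element N hr hrm
    obtain ⟨γ', hγ', hγs⟩ := exists_r_element N hs hsm
    obtain ⟨θb, δ, hθb, hδ, hδr, hlb⟩ := exists_link N hNG hr hγ hγr hb hrb
    obtain ⟨θa, ε, hθa, hε, hεs, hla⟩ := exists_link N hNG hs hγ' hγs ha hsa
    exact hnc (((hla.trans N (link_primes N hNG hr hs hne hδ hδr hε hεs).symm).trans N hlb.symm)
      a b hθa hθb)
  by_cases hsome : ∃ r : ℕ, r.Prime ∧ r ∣ m ∧ r ∣ a
  · obtain ⟨r, hr, hrm, hra⟩ := hsome
    refine Or.inr ⟨Nat.coprime_of_dvd fun s hs hsb hsm => hmix r s hr hs hrm hsm hra hsb,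
      fun s hs hsm => by_contra fun hsa => ?_⟩
    exact hmix r s hr hs hrm hsm hra (by_contra fun hsb => hsa ((hone s hs hsm).2 hsb))
  · push Not at hsome
    refine Or.inl ⟨Nat.coprime_of_dvd fun s hs hsa hsm => hsome s hs hsm hsa,
      fun s hs hsm => by_contra fun hsb => hsome s hs hsm ((hone s hs hsm).2 hsb)⟩

end Cfsg.Agent.RelDegree
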