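/-
Distances in the common-divisor graph on relative degrees.

Main results: `irr_restrict_coprime`, `exists_p_or_mult`, `twist`, `pair_mid`, `route_linear`.
-/
import Cfsg.Agent.Lib.CharApp.RelDegree
import Cfsg.Agent.Lib.Codegree.Basic
import Cfsg.Agent.Lib.Ito.Basic
import Cfsg.Agent.S0887
import Cfsg.Agent.S4763

set_option autoImplicit false
set_option linter.style.haveILetI false

namespace Cfsg.Agent.RelDegreeDist

open Cfsg Cfsg.Agent.RelDegree Cfsg.Agent.CharExtend
open scoped commutatorElement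

attribute [-instance] MonoidHom.instPow MonoidHom.instInv MonoidHom.mul instOneMonoidHom

section general

variable {H : Type*} [Group H] [Fintype H]

/-- An irreducible character of degree prime to the index restricts irreducibly. -/
theorem irr_restrict_coprime (K : Subgroup H) [K.Normal] [Fintype K] {χ : H → ℂ}
    (hχ : IsIrrCharacter H χ) {d : ℕ} (hd : χ 1 = d) (hcop : Nat.Coprime d K.index) :
    IsIrrCharacter K (fun k : K => χ k) := by
  classical
  have hπ : IsCharacter K (fun k : K => χ k) :=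
    Char.IsCharacter.restrict (Char.IsIrrCharacter.isCharacter hχ) K
  obtain ⟨θ, hθ⟩ := CharApp.exists_constituent hπ (by
    rw [OneMemClass.coe_one]; exact Char.IsIrrCharacter.apply_one_ne_zero hχ)
  obtain ⟨f, hf0, hf⟩ := Char.IsIrrCharacter.exists_degree θ.2
  obtain ⟨h1, h2⟩ := S0887.result K χ hχ (θ : K → ℂ) θ.2 hθ d f hd hf
  have hdf : d / f = 1 :=
    Nat.eq_one_of_dvd_coprimes hcop (Nat.div_dvd_of_dvd h1) h2
  have hfd : f = d := Nat.eq_of_dvd_of_div_eq_one h1 hdf
  have := CharApp.eq_of_constituent_of_degree (a := d) hπ θ.2 hθ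
    (by rw [OneMemClass.coe_one, hd]) (by rw [hf, hfd])
  rw [this]
  exact θ.2

/-- For a solvable group there is a prime dividing every degree prime to `|H : H'|` unless a multiple of
the degree is a degree meeting `|H : H'|`. -/
theorem exists_p_or_mult [Group.IsSolvable H] :
    ∃ p : ℕ, p ≠ 1 ∧ ∀ (θ : IrrCharacter H) (d : ℕ), (θ : H → ℂ) 1 = d → d ≠ 1 →
      Nat.Coprime d (commutator H).index →
        p ∣ d ∨ ∃ (φ : IrrCharacter H) (c : ℕ), (φ : H → ℂ) 1 = c ∧ d ∣ c ∧
          ¬ Nat.Coprime c (commutator H).index := by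
  classical
  let L := commutator H
  by_cases hab : ∀ a b : H, a * b = b * a
  · exact ⟨2, by norm_num, fun θ d hd hd1 _ => absurd (by
      exact_mod_cast hd.symm.trans (Char.apply_one_eq_one_of_comm hab θ)) hd1⟩
  have hLbot : L ≠ ⊥ := fun h => hab fun a b => by
    have : ⁅a, b⁆ ∈ L := Subgroup.commutator_mem_commutator (Subgroup.mem_top a) (Subgroup.mem_top b)
    rw [h, Subgroup.mem_bot] at this
    exact commutatorElement_eq_one_iff_mul_comm.1 this
  have hsolL : Group.IsSolvable L := inferInstance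
  haveI : Nontrivial L := L.nontrivial_iff_ne_bot.2 hLbot
  have hlt : commutator L < ⊤ := Group.IsSolvable.commutator_lt_top_of_nontrivial L
  set a := (commutator L).index
  have ha1 : a ≠ 1 := fun h => hlt.ne (Subgroup.index_eq_one.1 h)
  have ha0 : a ≠ 0 := Subgroup.index_ne_zero_of_finite
  set p := a.minFac
  have hp : p.Prime := Nat.minFac_prime ha1
  haveI := Fact.mk hp
  set c := ordCompl[p] a
  let f : L →* Abelianization L := (powMonoidHom c).comp Abelianization.of
  have hcard : Nat.card (Abelianization L) = a := (Subgroup.index_eq_card _).symm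
  have hmem : ∀ x : L, x ∈ f.ker ↔ x ^ c ∈ commutator L := fun x => by
    rw [MonoidHom.mem_ker, MonoidHom.comp_apply, powMonoidHom_apply, ← map_pow]
    exact QuotientGroup.eq_one_iff _
  have hrange : IsPGroup p f.range := fun ⟨y, x, hx⟩ => by
    refine ⟨a.factorization p, Subtype.ext ?_⟩
    rw [SubgroupClass.coe_pow, OneMemClass.coe_one]
    show y ^ _ = 1
    subst hx
    rw [MonoidHom.comp_apply, powMonoidHom_apply,
      ← pow_mul, mul_comm c, Nat.ordProj_mul_ordCompl_eq_self, ← hcard, pow_card_eq_one']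
  obtain ⟨i, hi⟩ := IsPGroup.iff_card.1 hrange
  have hi0 : i ≠ 0 := fun h0 => by
    rw [h0, pow_zero] at hi
    obtain ⟨y, hy⟩ := exists_prime_orderOf_dvd_card' (G := Abelianization L) p
      (hcard.symm ▸ Nat.minFac_dvd a)
    obtain ⟨x, rfl⟩ := QuotientGroup.mk_surjective y
    have h1 : f x = 1 := by
      have : f.range = ⊥ := Subgroup.eq_bot_of_card_eq _ hi
      exact (Subgroup.mem_bot).1 (this ▸ ⟨x, rfl⟩)
    have h2 : p ∣ c := by
      rw [← hy]
      exact orderOf_dvd_of_pow_eq_one h1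
    exact Nat.not_dvd_ordCompl hp ha0 h2
  let K : Subgroup H := f.ker.map L.subtype
  have hKidx : K.index = p ^ i * L.index := by
    rw [← Subgroup.relIndex_mul_index (Subgroup.map_subtype_le f.ker), Subgroup.relIndex,
      Subgroup.subgroupOf, Subgroup.comap_map_eq_self_of_injective L.subtype_injective,
      Subgroup.index_ker, hi]
  haveI hLn : L.Normal := inferInstance
  haveI hKn : K.Normal := ⟨by
    rintro _ ⟨x, hx, rfl⟩ g
    refine ⟨(MulAut.conjNormal g : MulAut L) x, ?_, rfl⟩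
    rw [SetLike.mem_coe, hmem] at hx ⊢
    rw [← map_pow]
    have hchar : (commutator L).map (MulAut.conjNormal g : MulAut L).toMonoidHom = commutator L := by
      rw [commutator_def, Subgroup.map_commutator,
        Subgroup.map_top_of_surjective]
      exact (MulAut.conjNormal g : MulAut L).surjective
    exact hchar ▸ ⟨_, hx, rfl⟩⟩
  have hKL : K ≤ L := Subgroup.map_subtype_le _
  have hnab : ¬ IsMulCommutative (H ⧸ K) := fun h => by
    have hle : L ≤ K := by
      show ⁅(⊤ : Subgroup H), ⊤⁆ ≤ K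
      refine Subgroup.commutator_le.2 fun x _ y _ => ?_
      rw [← QuotientGroup.eq_one_iff]
      show QuotientGroup.mk' K ⁅x, y⁆ = 1
      rw [map_commutatorElement]
      exact commutatorElement_eq_one_iff_mul_comm.2 (h.1.1 _ _)
    have := le_antisymm hKL hle
    rw [this] at hKidx
    have h1 : p ^ i = 1 :=
      (mul_eq_right₀ (Subgroup.index_ne_zero_of_finite (H := L))).1 hKidx.symm
    exact (Nat.one_lt_pow hi0 hp.one_lt).ne' h1
  obtain ⟨β, hβ⟩ := S4763.exists_nonlinear hnab
  let A : Subgroup (H ⧸ K) := L.map (QuotientGroup.mk' K)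
  haveI : A.Normal := hLn.map _ (QuotientGroup.mk'_surjective K)
  have hA : ∀ u ∈ A, ∀ v ∈ A, u * v = v * u := by
    rintro _ ⟨u, hu, rfl⟩ _ ⟨v, hv, rfl⟩
    refine commutatorElement_eq_one_iff_mul_comm.1 ?_
    rw [← map_commutatorElement]
    refine (QuotientGroup.eq_one_iff _).2 ⟨⁅(⟨u, hu⟩ : L), (⟨v, hv⟩ : L)⁆, ?_, rfl⟩
    rw [SetLike.mem_coe, hmem]
    exact pow_mem (Subgroup.commutator_mem_commutator (Subgroup.mem_top _) (Subgroup.mem_top _)) _
  obtain ⟨b, -, hb, hbdvd⟩ := Ito.exists_degree_dvd_index β.2 A hA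
  have hAidx : A.index = L.index :=
    Subgroup.index_map_eq L (QuotientGroup.mk'_surjective K) (by rw [QuotientGroup.ker_mk']; exact hKL)
  have hb1 : b ≠ 1 := fun e => hβ (by rw [hb, e, Nat.cast_one])
  refine ⟨p, hp.ne_one, fun θ d hd _ hcop => or_iff_not_imp_left.2 fun hpd => ?_⟩
  haveI := Fintype.ofFinite K
  have hres : IsIrrCharacter K (fun k : K => (θ : H → ℂ) k) := by
    refine irr_restrict_coprime K θ.2 hd ?_
    rw [hKidx]
    exact Nat.Coprime.mul_right ((hp.coprime_iff_not_dvd.2 hpd).symm.pow_right _) hcop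
  have hirr : IsIrrCharacter H ((θ : H → ℂ) * (Codegree.inflate K β : H → ℂ)) := CharApp.gallagher_irr K θ.2 hres (Codegree.inflate K β).2 (fun k => by
    rw [Codegree.inflate_apply, Codegree.inflate_apply, (QuotientGroup.eq_one_iff _).2 k.2,
      QuotientGroup.mk_one])
  refine ⟨⟨_, hirr⟩, d * b, ?_, dvd_mul_right d b, fun hc => hb1 ?_⟩
  · simp [Codegree.inflate_apply, hd, hb]
  · exact Nat.eq_one_of_dvd_coprimes hc (dvd_mul_left b d) (hAidx ▸ hbdvd)

end general

variable {G : Type*} [Group G] [Fintype G] (N : Subgroup G) [hN : N.Normal] [Fintype N]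

theorem relIndex_commutator : ⁅N, N⁆.relIndex N = (commutator N).index := by
  rw [← Subgroup.map_subtype_commutator, Subgroup.relIndex, Subgroup.subgroupOf,
    Subgroup.comap_map_eq_self_of_injective N.subtype_injective]

theorem pow_index_eq_one (ν : N →* ℂˣ) : ν ^ (commutator N).index = 1 :=
  MonoidHom.ext fun x => by
    show ν x ^ _ = 1
    rw [← map_pow]
    exact Abelianization.commutator_subset_ker ν (Subgroup.pow_index_mem (commutator N) x)

/-- Change the `r`-part of the determinant by twisting with a linear character. -/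
theorem twist {r : ℕ} (hr : r.Prime) (θ : IrrCharacter N) {d : ℕ} (hd : (θ : N → ℂ) 1 = d)
    (hrd : ¬ r ∣ d) {δ : N →* ℂˣ} (hδ : δ ≠ 1) (hδr : δ ^ (ordProj[r] (Nat.card N)) = 1) :
    ∃ θ' : IrrCharacter N, θ' ≠ triv N ∧ (θ' : N → ℂ) 1 = d ∧ dr hr (θ' : N → ℂ) = δ := by
  set R := ordProj[r] (Nat.card N)
  have hcop : Nat.Coprime d R := ((hr.coprime_iff_not_dvd.2 hrd).symm.pow_right _)
  obtain ⟨u, hu⟩ : ∃ u, d * u ≡ 1 [MOD R] := by
    rcases Nat.eq_or_lt_of_le (Nat.one_le_iff_ne_zero.2 (pow_ne_zero _ hr.ne_zero) : 1 ≤ R) with e | e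
    · exact ⟨0, by rw [← e]; exact Nat.modEq_one⟩
    · obtain ⟨u, hu⟩ := Nat.exists_mul_mod_eq_one_of_coprime hcop e
      exact ⟨u, hu.2.trans (Nat.mod_eq_of_lt e).symm⟩
  set τ := (dr hr (θ : N → ℂ))⁻¹ * δ
  have hτr : τ ^ R = 1 := by
    rw [mul_pow, inv_pow, dr_pow hr, hδr]
    erw [inv_one, mul_one]
  have hτu : τ ^ (d * u) = τ := by
    rw [← Nat.mod_add_div (d * u) R, pow_add, pow_mul τ R, hτr, one_pow, mul_one, hu]
    conv_rhs => rw [← pow_one τ, ← Nat.mod_add_div 1 R, pow_add, pow_mul, hτr, one_pow, mul_one]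
  let θ' : IrrCharacter N := ⟨(θ : N → ℂ) * valHom N (τ ^ u),
    Char.IsIrrCharacter.mul_linear θ.2 ((Units.coeHom ℂ).comp (τ ^ u))⟩
  have hdr : dr hr (θ' : N → ℂ) = δ := by
    show dh ((θ : N → ℂ) * valHom N (τ ^ u)) ^ kr N hr = δ
    rw [dh_mul_valHom (Char.IsIrrCharacter.isCharacter θ.2) hd, ← pow_mul, mul_comm u, hτu, mul_pow,
      ← dr, pow_kr_eq_self hr hτr, mul_inv_cancel_left]
  refine ⟨θ', fun e => hδ ?_, ?_, hdr⟩
  · rw [← hdr, e, show (triv N : N → ℂ) = valHom N 1 from rfl, dr, dh_valHom, one_pow]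
  · simp [θ', hd]

/-- The product of two linear `r`-characters with coprime orbits shares a prime with both. -/
theorem pair_mid {r : ℕ} (hr : r.Prime) {α β : N →* ℂˣ}
    (hαr : α ^ (ordProj[r] (Nat.card N)) = 1) (hβr : β ^ (ordProj[r] (Nat.card N)) = 1)
    (hα : ¬ r ∣ (TT N α).index) (hα1 : (TT N α).index ≠ 1)
    (hβ : ¬ r ∣ (TT N β).index) (hβ1 : (TT N β).index ≠ 1)
    (hc : Nat.Coprime (TT N α).index (TT N β).index) :
    ∃ π : N →* ℂˣ, π ≠ 1 ∧ ¬ Nat.Coprime (TT N α).index (TT N π).index ∧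
      ¬ Nat.Coprime (TT N π).index (TT N β).index := by
  classical
  set π := α * β
  have hπmul : ∀ g, RelDegree.conjHom N g π = RelDegree.conjHom N g α * RelDegree.conjHom N g β := fun g => MonoidHom.ext fun x => rfl
  have hπ1 : π ≠ 1 := fun e => by
    have hTT : TT N α = TT N β := by
      have hb : β = α⁻¹ := eq_inv_of_mul_eq_one_right e
      ext g
      rw [mem_TT, mem_TT, hb, show RelDegree.conjHom N g α⁻¹ = (RelDegree.conjHom N g α)⁻¹ from MonoidHom.ext fun x => rfl]
      exact hom_inv_inj.symm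
    rw [hTT, Nat.coprime_self] at hc
    exact hβ1 hc
  refine ⟨π, hπ1, ?_⟩
  by_contra h12
  suffices key : ∀ α β : N →* ℂˣ, β ^ (ordProj[r] (Nat.card N)) = 1 → ¬ r ∣ (TT N α).index →
      (TT N β).index ≠ 1 → Nat.Coprime (TT N α).index (TT N β).index →
      Nat.Coprime (TT N (α * β)).index (TT N β).index → False by
    rcases not_and_or.1 h12 with h | h <;> rw [not_not] at h
    · exact key β α hαr hβ hα1 hc.symm (mul_comm α β ▸ h.symm)
    · exact key α β hβr hα hβ1 hc h
  clear! α β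
  intro α β hβr hα hβ1 hc hc'
  set π := α * β
  have hπmul : ∀ g, RelDegree.conjHom N g π = RelDegree.conjHom N g α * RelDegree.conjHom N g β := fun g => MonoidHom.ext fun x => rfl
  -- orbits
  let O : (N →* ℂˣ) → Set (N →* ℂˣ) := fun γ => Set.range fun g => RelDegree.conjHom N g γ
  have hcard : ∀ γ, Nat.card (O γ) = (TT N γ).index := by
    intro γ
    rw [Subgroup.index_eq_card]
    refine (Nat.card_congr (Equiv.ofBijective
      (Quotient.lift (fun g => (⟨RelDegree.conjHom N g γ, g, rfl⟩ : O γ)) ?_) ⟨?_, ?_⟩)).symm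
    · intro a b hab
      have h1 : a⁻¹ * b ∈ TT N γ := QuotientGroup.leftRel_apply.1 hab
      refine Subtype.ext ?_
      have h2 := RelDegree.conjHom_mul N a (a⁻¹ * b) γ
      rw [(mem_TT N).1 h1, mul_inv_cancel_left] at h2
      exact h2.symm
    · intro x y
      induction x using Quotient.inductionOn' with | _ a => ?_
      induction y using Quotient.inductionOn' with | _ b => ?_
      intro hab
      refine Quotient.sound' (QuotientGroup.leftRel_apply.2 ((mem_TT N).2 ?_))
      have h1 : RelDegree.conjHom N a γ = RelDegree.conjHom N b γ := congrArg Subtype.val hab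
      rw [RelDegree.conjHom_mul, ← h1, ← RelDegree.conjHom_mul, inv_mul_cancel]
      exact MonoidHom.ext fun x => by simp [RelDegree.conjHom]
    · rintro ⟨_, g, rfl⟩
      exact ⟨QuotientGroup.mk g, rfl⟩
  have hinf : TT N π ⊓ TT N β ≤ TT N α := fun g hg => by
    rw [mem_TT]
    have h1 := (mem_TT N).1 hg.1
    rw [hπmul, (mem_TT N).1 hg.2] at h1
    exact mul_right_cancel h1
  have hle : TT N α ⊓ TT N β ≤ TT N π := fun g hg => by
    rw [mem_TT, hπmul, (mem_TT N).1 hg.1, (mem_TT N).1 hg.2]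
  have hdiv : (TT N π).index ∣ (TT N α).index := by
    refine hc'.dvd_of_dvd_mul_right ((Subgroup.index_dvd_of_le hle).trans ?_)
    rw [← Solvable.relIndex_eq_index_of_coprime hc, ← Subgroup.inf_relIndex_right,
      Subgroup.relIndex_mul_index inf_le_right]
  have hge : (TT N α).index ≤ (TT N π).index := by
    refine Nat.le_of_mul_le_mul_right ?_ (Nat.pos_of_ne_zero
      (Subgroup.index_ne_zero_of_finite (H := TT N β)))
    refine le_trans ?_ Subgroup.index_inf_le
    refine le_trans ?_ (Nat.le_of_dvd (Nat.pos_of_ne_zero Subgroup.index_ne_zero_of_finite)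
      (Subgroup.index_dvd_of_le (le_inf hinf inf_le_right)))
    rw [← Solvable.relIndex_eq_index_of_coprime hc, ← Subgroup.inf_relIndex_right,
      Subgroup.relIndex_mul_index inf_le_right]
  have hcardπ : Nat.card (O π) = Nat.card (O α) := by
    rw [hcard, hcard]
    exact le_antisymm (Nat.le_of_dvd (Nat.pos_of_ne_zero Subgroup.index_ne_zero_of_finite) hdiv) hge
  haveI : ∀ γ, Finite (O γ) := fun γ => Set.finite_range _ |>.to_subtype
  have htrans : (fun x => x * β) '' O α = O π := by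
    refine Set.eq_of_subset_of_ncard_le ?_ (le_of_eq ?_) (Set.finite_range _)
    · rintro _ ⟨_, ⟨g, rfl⟩, rfl⟩
      obtain ⟨k, hk, x, hx, rfl⟩ := Solvable.exists_mul_of_coprime_index hc g
      refine ⟨k, ?_⟩
      show RelDegree.conjHom N k π = RelDegree.conjHom N (k * x) α * β
      rw [hπmul, (mem_TT N).1 hk, RelDegree.conjHom_mul, (mem_TT N).1 hx]
    · rw [Set.ncard_image_of_injective _ (mul_left_injective β), ← Nat.card_coe_set_eq,
        ← Nat.card_coe_set_eq, hcardπ]
  haveI := Fintype.ofFinite (O α)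
  refine hβ1 (Subgroup.index_eq_one.2 ((Subgroup.eq_top_iff' _).2 fun g => (mem_TT N).2 ?_))
  set d := RelDegree.conjHom N g β * β⁻¹
  have hmaps : ∀ x ∈ O α, x * d ∈ O α := by
    rintro _ ⟨x, rfl⟩
    have h1 : RelDegree.conjHom N (g * (g⁻¹ * x)) α * RelDegree.conjHom N g β ∈ O π := by
      have h2 : RelDegree.conjHom N (g⁻¹ * x) α * β ∈ O π := htrans ▸ ⟨_, ⟨_, rfl⟩, rfl⟩
      obtain ⟨y, hy⟩ := h2
      refine ⟨g * y, ?_⟩
      show RelDegree.conjHom N (g * y) π = _
      rw [RelDegree.conjHom_mul, show RelDegree.conjHom N y π = _ from hy, RelDegree.conjHom_mul N g]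
      exact MonoidHom.ext fun x => rfl
    rw [← htrans, mul_inv_cancel_left] at h1
    obtain ⟨w, hw, hw'⟩ := h1
    have : RelDegree.conjHom N x α * d = w := by
      simp only [d]
      rw [← mul_assoc, ← hw', mul_inv_cancel_right]
    exact this ▸ hw
  let σ : O α → O α := fun x => ⟨x * d, hmaps _ x.2⟩
  have hσ : Function.Bijective σ := Finite.injective_iff_bijective.1 fun x y hxy =>
    Subtype.ext (mul_right_cancel (congrArg Subtype.val hxy))
  have hprod : (∏ x : O α, (x : N →* ℂˣ)) * d ^ (TT N α).index = ∏ x : O α, (x : N →* ℂˣ) := by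
    rw [← hcard, Nat.card_eq_fintype_card, ← Finset.card_univ, ← Finset.prod_const,
      ← Finset.prod_mul_distrib]
    exact Fintype.prod_equiv (Equiv.ofBijective σ hσ) _ _ fun x => rfl
  have hd1 : d ^ (TT N α).index = 1 := mul_eq_left.1 hprod
  have hdR : d ^ (ordProj[r] (Nat.card N)) = 1 := by
    rw [mul_pow, inv_pow, hβr]
    erw [inv_one, mul_one]
    exact MonoidHom.ext fun x => DFunLike.congr_fun hβr (MulAut.conjNormal g⁻¹ x)
  have : d = 1 := by
    refine orderOf_eq_one_iff.1 (Nat.eq_one_of_dvd_coprimes ?_ (orderOf_dvd_of_pow_eq_one hd1)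
      (orderOf_dvd_of_pow_eq_one hdR))
    exact ((hr.coprime_iff_not_dvd.2 hα).pow_left _).symm
  exact mul_inv_eq_one.1 this


variable (hNG : N ≤ commutator G)
include hNG

/-- A vertex coprime to `|N : N'|` over a linear character has a prime `s` with a proper orbit. -/
theorem route_linear {θ : IrrCharacter N} (hθ : θ ≠ triv N) (hθ1 : (θ : N → ℂ) 1 = 1) {a : ℕ}
    (ha : Deg N θ a) (hcop : Nat.Coprime a (commutator N).index) :
    ∃ (s : ℕ) (_ : s.Prime) (δ : N →* ℂˣ), s ∣ (commutator N).index ∧ δ ≠ 1 ∧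
      δ ^ (ordProj[s] (Nat.card N)) = 1 ∧ (TT N δ).index ≠ 1 ∧ ¬ s ∣ (TT N δ).index ∧
      (TT N δ).index ∣ a := by
  obtain ⟨ν, hν⟩ := exists_valHom (Char.IsIrrCharacter.isCharacter θ.2) hθ1
  have hν1 : ν ≠ 1 := fun e => hθ (Subtype.ext (by rw [← hν, e]; rfl))
  obtain ⟨s, hs, hne⟩ := exists_dr_ne_one N hν1
  rw [hν] at hne
  set δ := dr hs (θ : N → ℂ)
  have hsm : s ∣ (commutator N).index := by
    obtain ⟨j, _, hj⟩ := (Nat.dvd_prime_pow hs).1
      (orderOf_dvd_of_pow_eq_one (dr_pow hs (θ : N → ℂ)))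
    refine dvd_trans ?_ (orderOf_dvd_of_pow_eq_one (pow_index_eq_one N δ))
    rw [hj]
    refine dvd_pow_self s fun h0 => hne ?_
    rw [h0, pow_zero] at hj
    exact orderOf_eq_one_iff.1 hj
  have hsa : ¬ s ∣ a := fun h => hs.ne_one (Nat.eq_one_of_dvd_coprimes hcop h hsm)
  have hka : (TT N δ).index ∣ a := index_dvd_deg N ha (inertia_le_TT N hs θ)
  exact ⟨s, hs, δ, hsm, hne, dr_pow hs _,
    fun ht => hsa (dvd_of_invariant N hNG hs hne (Subgroup.index_eq_one.1 ht) ha),
    fun h => hsa (h.trans hka), hka⟩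

end Cfsg.Agent.RelDegreeDist
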