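/-
A group all of whose degree primes lie among two primes is soluble.  In a nonabelian simple group
take `x` central in a Sylow `p`-subgroup: a nontrivial character of degree prime to `q` has degree
prime to the class of `x`, so vanishes there (Burnside), and the column sum at `x` gives
`1 + q * (algebraic integer) = 0`.
-/
import Cfsg.Agent.Lib.CharApp.Burnside
import Cfsg.Agent.Lib.CharApp.DegreeSets
import Cfsg.Prelude.Def_DegreeGraph

set_option autoImplicit false

namespace Cfsg.Agent.CharApp.TwoPrimeDegrees

open Cfsg Cfsg.Agent.Char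

universe u

/-- Degree primes of a normal subgroup are degree primes of the group. -/
theorem degreePrimes_normal {G : Type u} [Group G] [Finite G] (N : Subgroup G) [N.Normal] :
    degreePrimes N ⊆ degreePrimes G := by
  rintro p ⟨hp, _, ⟨θ, rfl⟩, hpd⟩
  obtain ⟨χ, hd⟩ := DegreeSets.exists_degree_dvd N θ.2
  exact ⟨hp, _, ⟨χ, rfl⟩, hpd.trans hd⟩

/-- Degree primes of a quotient are degree primes of the group. -/
theorem degreePrimes_quotient {G : Type u} [Group G] [Finite G] (N : Subgroup G) [N.Normal] :
    degreePrimes (G ⧸ N) ⊆ degreePrimes G := by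
  rintro p ⟨hp, _, ⟨θ, rfl⟩, hpd⟩
  refine ⟨hp, _, ⟨⟨fun g => (θ : (G ⧸ N) → ℂ) (QuotientGroup.mk' N g),
    IsIrrCharacter.comp_surjective θ.2 (QuotientGroup.mk' N) (QuotientGroup.mk'_surjective N)⟩, rfl⟩, ?_⟩
  simpa [charDegree] using hpd

/-- A simple group with at most two degree primes, the first dividing the order, is commutative. -/
theorem comm_of_isSimple {G : Type u} [Group G] [Finite G] [IsSimpleGroup G] (p q : ℕ) (hp : p.Prime)
    (hq : q.Prime) (hpG : p ∣ Nat.card G) (h : ∀ r ∈ degreePrimes G, r = p ∨ r = q) :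
    ∀ a b : G, a * b = b * a := by
  classical
  by_contra hab
  haveI := Fact.mk hp
  haveI := Fintype.ofFinite G
  haveI := Fintype.ofFinite (IrrCharacter G)
  obtain ⟨P⟩ : Nonempty (Sylow p G) := inferInstance
  haveI : Nontrivial (P : Subgroup G) :=
    (Subgroup.nontrivial_iff_ne_bot _).2 (P.ne_bot_of_dvd_card hpG)
  haveI := P.2.center_nontrivial
  obtain ⟨⟨x, hxZ⟩, hx1⟩ := exists_ne (1 : Subgroup.center (P : Subgroup G))
  have hx : (x : G) ≠ 1 := fun he => hx1 (Subtype.ext (Subtype.ext he))
  have hPC : (P : Subgroup G) ≤ Subgroup.centralizer ({(x : G)} : Set G) := fun y hy =>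
    Subgroup.mem_centralizer_singleton_iff.2
      (congrArg Subtype.val (Subgroup.mem_center_iff.1 hxZ ⟨y, hy⟩))
  have hidx : ¬ p ∣ (Subgroup.centralizer ({(x : G)} : Set G)).index := fun hd =>
    P.not_dvd_index (hd.trans (Subgroup.index_dvd_of_le hPC))
  have hZ : Subgroup.center G = ⊥ := by
    rcases (inferInstance : (Subgroup.center G).Normal).eq_bot_or_eq_top with h' | h'
    · exact h'
    · exact absurd (fun a b => (Subgroup.mem_center_iff.1 (h' ▸ Subgroup.mem_top b) a)) hab
  set one : IrrCharacter G := ⟨1, isIrrCharacter_one⟩ with hone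
  -- characters of degree prime to `q` vanish at `x`
  have hvan : ∀ χ : IrrCharacter G, χ ≠ one → ¬ q ∣ charDegree (χ : G → ℂ) →
      (χ : G → ℂ) x = 0 := by
    intro χ hne hq'
    obtain ⟨n, ρ, hirr, hρ⟩ := χ.2
    haveI := hirr
    have hdeg : Module.finrank ℂ (Fin n → ℂ) = charDegree (χ : G → ℂ) := by
      have h1 := DegreeSets.apply_one χ.2
      rw [← hρ, Representation.char_one] at h1
      rw [← hρ]
      exact_mod_cast h1
    have hcop : Nat.Coprime (Module.finrank ℂ (Fin n → ℂ))
        (Subgroup.centralizer ({(x : G)} : Set G)).index := by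
      rw [hdeg]
      refine Nat.coprime_of_dvd fun r hr h1 h2 => ?_
      rcases h r ⟨hr, _, ⟨χ, rfl⟩, h1⟩ with h3 | h3
      · exact hidx (h3 ▸ h2)
      · exact hq' (h3 ▸ h1)
    rcases CharApp.zero_or_norm_eq_of_coprime ρ (x : G) hcop with h0 | hn
    · rw [← hρ]; exact h0
    exfalso
    obtain ⟨ω, hω⟩ := (Char.norm_character_eq_iff ρ (x : G)).1 hn
    rcases (inferInstance : (MonoidHom.ker ρ).Normal).eq_bot_or_eq_top with hk | hk
    · have hxc : (x : G) ∈ Subgroup.center G := by
        rw [Subgroup.mem_center_iff]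
        intro g
        refine (MonoidHom.ker_eq_bot_iff ρ).1 hk ?_
        rw [map_mul, map_mul, hω]
        ext v
        simp
      rw [hZ, Subgroup.mem_bot] at hxc
      exact hx hxc
    · refine hne ?_
      by_contra hne'
      have h0 := classInner_irr_of_ne χ.2 one.2 fun he => hne' (Subtype.ext he)
      have hval : ∀ g : G, (χ : G → ℂ) g = (χ : G → ℂ) 1 := fun g => by
        rw [← hρ, Representation.character, Representation.character,
          MonoidHom.mem_ker.1 (hk ▸ Subgroup.mem_top g : g ∈ MonoidHom.ker ρ), map_one ρ]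
      simp only [classInner, hone, Pi.one_apply, map_one, mul_one, hval, Finset.sum_const,
        Finset.card_univ, nsmul_eq_mul, Nat.card_eq_fintype_card] at h0
      rcases mul_eq_zero.1 h0 with h1 | h1
      · exact inv_ne_zero (Nat.cast_ne_zero.2 Fintype.card_ne_zero) h1
      · rcases mul_eq_zero.1 h1 with h2 | h2
        · exact Nat.cast_ne_zero.2 Fintype.card_ne_zero h2
        · exact IsIrrCharacter.apply_one_ne_zero χ.2 h2
  -- the column sum
  set f : IrrCharacter G → ℂ := fun χ =>
    if χ = one then 0 else if q ∣ charDegree (χ : G → ℂ) then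
      ((charDegree (χ : G → ℂ) / q : ℕ) : ℂ) * (χ : G → ℂ) x else 0 with hf
  have hterm : ∀ χ : IrrCharacter G, (χ : G → ℂ) 1 * (χ : G → ℂ) x =
      (if χ = one then 1 else 0) + (q : ℂ) * f χ := by
    intro χ
    by_cases h1 : χ = one
    · subst h1; simp [hf, hone]
    · rw [hf]
      simp only [if_neg h1, zero_add]
      by_cases h2 : q ∣ charDegree (χ : G → ℂ)
      · rw [if_pos h2, ← mul_assoc, ← Nat.cast_mul, Nat.mul_div_cancel' h2, DegreeSets.apply_one χ.2]
      · rw [if_neg h2, hvan χ h1 h2, mul_zero, mul_zero]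
  have hsum := sum_degree_mul_apply (G := G) (x : G)
  rw [if_neg hx, Finset.sum_congr rfl fun χ _ => hterm χ, Finset.sum_add_distrib,
    Finset.sum_ite_eq' Finset.univ one, if_pos (Finset.mem_univ _), ← Finset.mul_sum] at hsum
  have hint : IsIntegral ℤ (∑ χ, f χ) := IsIntegral.sum _ fun χ _ => by
    rw [hf]
    dsimp only
    split_ifs
    · exact isIntegral_zero
    · exact isIntegral_algebraMap.mul (IsCharacter.isIntegral (IsIrrCharacter.isCharacter χ.2) _)
    · exact isIntegral_zero
  have hq0 : (q : ℂ) ≠ 0 := Nat.cast_ne_zero.2 hq.ne_zero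
  have : q ∣ 1 := Char.nat_dvd_of_isIntegral_div hq.ne_zero (by
    have he : ((1 : ℕ) : ℂ) / (q : ℂ) = -∑ χ, f χ := by
      rw [Nat.cast_one, div_eq_iff hq0]
      linear_combination hsum
    rw [he]
    exact hint.neg)
  exact hq.not_dvd_one this

/-- At most two degree primes force solubility. -/
theorem isSolvable_of_two : ∀ (n : ℕ) (G : Type u) [Group G] [Finite G], Nat.card G ≤ n →
    ∀ p q : ℕ, (∀ r ∈ degreePrimes G, r = p ∨ r = q) → Group.IsSolvable G := by
  intro n
  induction n with
  | zero => intro G _ _ hn; exact absurd hn (by have := Nat.card_pos (α := G); omega)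
  | succ n ih =>
    intro G _ _ hn p q h
    by_cases hnt : Nontrivial G
    swap
    · rw [not_nontrivial_iff_subsingleton] at hnt
      infer_instance
    by_cases hN : ∃ N : Subgroup G, N.Normal ∧ N ≠ ⊥ ∧ N ≠ ⊤
    · obtain ⟨N, hNn, hN1, hN2⟩ := hN
      have h1 := N.card_mul_index
      have h2 := N.one_lt_index_of_ne_top hN2
      have h3 : 1 < Nat.card N := (Subgroup.one_lt_card_iff_ne_bot N).2 hN1
      haveI : Group.IsSolvable N :=
        ih N (by nlinarith) p q fun r hr => h r (degreePrimes_normal N hr)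
      haveI : Group.IsSolvable (G ⧸ N) :=
        ih (G ⧸ N) (by rw [← Subgroup.index_eq_card]; nlinarith) p q
          fun r hr => h r (degreePrimes_quotient N hr)
      exact Group.isSolvable_of_ker_le_range N.subtype (QuotientGroup.mk' N)
        (by simp [QuotientGroup.ker_mk'])
    · haveI : IsSimpleGroup G :=
        { eq_bot_or_eq_top_of_normal := fun N hNn => by
            by_contra hne
            rw [not_or] at hne
            exact hN ⟨N, hNn, hne.1, hne.2⟩ }
      refine Group.isSolvable_of_comm ?_
      -- normalise the two primes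
      have hdvd : ∀ r ∈ degreePrimes G, r.Prime ∧ r ∣ Nat.card G := by
        rintro r ⟨hr, _, ⟨χ, rfl⟩, hd⟩
        obtain ⟨d, -, hd1, hd2⟩ := IsIrrCharacter.degree_dvd_card χ.2
        rw [DegreeSets.apply_one χ.2, Nat.cast_inj] at hd1
        exact ⟨hr, hd.trans (hd1 ▸ hd2)⟩
      by_cases hp' : p ∈ degreePrimes G
      · obtain ⟨hp, hpG⟩ := hdvd p hp'
        by_cases hq' : q ∈ degreePrimes G
        · exact comm_of_isSimple p q hp (hdvd q hq').1 hpG h
        · refine comm_of_isSimple p p hp hp hpG fun r hr => ?_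
          rcases h r hr with h' | h'
          · exact Or.inl h'
          · exact absurd (h' ▸ hr) hq'
      · by_cases hq' : q ∈ degreePrimes G
        · obtain ⟨hq, hqG⟩ := hdvd q hq'
          refine comm_of_isSimple q q hq hq hqG fun r hr => ?_
          rcases h r hr with h' | h'
          · exact absurd (h' ▸ hr) hp'
          · exact Or.inl h'
        · obtain ⟨r, hr, hrG⟩ := Nat.exists_prime_and_dvd (Finite.one_lt_card (α := G)).ne'
          refine comm_of_isSimple r r hr hr hrG fun s hs => ?_
          rcases h s hs with h' | h'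
          · exact absurd (h' ▸ hs) hp'
          · exact absurd (h' ▸ hs) hq'

end Cfsg.Agent.CharApp.TwoPrimeDegrees
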